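import Cfsg.Agent.ThreePrime.SzRel

/-!
# The field with eight elements as a concrete type

Elements are `0, …, 7`, bit patterns with respect to `1, α, α²`, where `α³ = α + 1`.
`A4 = ZMod 2 × ZMod 2` and `emb (i, j) = i + j α`.
-/

set_option autoImplicit false

namespace Cfsg.Agent.RuB

/-- the field with eight elements, `α³ = α + 1` (element `2` is `α`). -/
structure K8 where
  val : Fin 8
deriving DecidableEq

namespace K8

def equivFin : K8 ≃ Fin 8 := ⟨K8.val, K8.mk, fun _ => rfl, fun _ => rfl⟩

instance : Fintype K8 := Fintype.ofEquiv (Fin 8) equivFin.symm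

/-- all elements -/
theorem card : Fintype.card K8 = 8 := by decide +kernel

theorem natCard : Nat.card K8 = 8 := by rw [Nat.card_eq_fintype_card, card]

/-- addition = xor of bit patterns -/
def add (a b : K8) : K8 := ⟨⟨(a.val.1 ^^^ b.val.1) % 8, Nat.mod_lt _ (by norm_num)⟩⟩

/-- the multiplication table as one number: entry `8a+b` at bits `3(8a+b) …` -/
def mulTab : ℕ := 2821848294356612419217921029917578219971947684264937521152

def mul (a b : K8) : K8 := ⟨⟨(mulTab >>> (3 * (8 * a.val.1 + b.val.1))) % 8, Nat.mod_lt _ (by norm_num)⟩⟩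

def invTab : ℕ := 9272648

def inv (a : K8) : K8 := ⟨⟨(invTab >>> (3 * a.val.1)) % 8, Nat.mod_lt _ (by norm_num)⟩⟩

instance : Zero K8 := ⟨⟨0⟩⟩
instance : One K8 := ⟨⟨1⟩⟩
instance : Add K8 := ⟨add⟩
instance : Mul K8 := ⟨mul⟩
instance : Neg K8 := ⟨id⟩
instance : Inv K8 := ⟨inv⟩

theorem add_comm' : ∀ a b : K8, a + b = b + a := by decide +kernel
theorem add_assoc' : ∀ a b c : K8, a + b + c = a + (b + c) := by decide +kernel
theorem mul_comm' : ∀ a b : K8, a * b = b * a := by decide +kernel
theorem mul_assoc' : ∀ a b c : K8, a * b * c = a * (b * c) := by decide +kernel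
theorem mul_add' : ∀ a b c : K8, a * (b + c) = a * b + a * c := by decide +kernel

instance instField : Field K8 where
  add := (· + ·)
  zero := 0
  neg := fun a => a
  mul := (· * ·)
  one := 1
  inv := fun a => a⁻¹
  add_assoc := add_assoc'
  zero_add := by decide +kernel
  add_zero := by decide +kernel
  add_comm := add_comm'
  neg_add_cancel := by decide +kernel
  mul_assoc := mul_assoc'
  one_mul := by decide +kernel
  mul_one := by decide +kernel
  zero_mul := by decide +kernel
  mul_zero := by decide +kernel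
  left_distrib := mul_add'
  right_distrib := by decide +kernel
  mul_comm := mul_comm'
  exists_pair_ne := ⟨0, 1, by decide +kernel⟩
  mul_inv_cancel := by decide +kernel
  inv_zero := by decide +kernel
  nsmul := nsmulRec
  zsmul := zsmulRec
  nnqsmul := _
  qsmul := _

/-- `α`, the element `2` (bit pattern `010`) -/
def al : K8 := ⟨2⟩

theorem two_eq : (2 : K8) = 0 := by
  have : (2 : K8) = 1 + 1 := by norm_num
  rw [this]
  decide +kernel

theorem add_self (a : K8) : a + a = 0 := by
  linear_combination a * two_eq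

theorem neg_eq (a : K8) : -a = a := rfl

theorem sub_eq (a b : K8) : a - b = a + b := by
  rw [sub_eq_add_neg, neg_eq]

instance : CharP K8 2 := by
  refine (CharTwo.of_one_ne_zero_of_two_eq_zero one_ne_zero two_eq)

/-- elements as powers of `α` -/
theorem exists_pow : ∀ a : K8, a = 0 ∨ ∃ i : Fin 7, a = al ^ i.1 := by decide +kernel

theorem pow_seven : ∀ a : K8, a = 0 ∨ a ^ 7 = 1 := by decide +kernel

theorem pow_eight : ∀ a : K8, a ^ 8 = a := by decide +kernel

/-- the only ring endomorphism whose square is squaring -/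
theorem theta_eq (θ : K8 →+* K8) (h : ∀ x, θ (θ x) = x ^ 2) (x : K8) : θ x = x ^ 4 := by
  have h3 : al ^ 3 = al + 1 := by decide +kernel
  have h1 : (θ al) ^ 3 = θ al + 1 := by rw [← map_pow, h3, map_add, map_one]
  have cases : ∀ t : K8, t ^ 3 = t + 1 → t = al ∨ t = al ^ 2 ∨ t = al ^ 4 := by decide +kernel
  have hal : θ al = al ^ 4 := by
    rcases cases _ h1 with h2 | h2 | h2
    · have := h al
      rw [h2, h2] at this
      exact absurd this (by decide +kernel)
    · have := h al
      rw [h2, map_pow, h2] at this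
      exact absurd this (by decide +kernel)
    · exact h2
  rcases exists_pow x with rfl | ⟨i, rfl⟩
  · rw [map_zero]; decide +kernel
  · rw [map_pow, hal, ← pow_mul, ← pow_mul, mul_comm]

end K8

/-- `F₂²` -/
abbrev A4 := ZMod 2 × ZMod 2

/-- `(i, j) ↦ i + j α` -/
def emb (a : A4) : K8 := ⟨⟨(a.1.val + 2 * a.2.val) % 8, Nat.mod_lt _ (by norm_num)⟩⟩

theorem emb_add : ∀ a b : A4, emb (a + b) = emb a + emb b := by decide +kernel

theorem emb_zero : emb 0 = 0 := by decide +kernel

theorem emb_inj : Function.Injective emb := by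
  intro a b
  revert a b
  decide +kernel

theorem emb_eq_zero {a : A4} : emb a = 0 ↔ a = 0 := by
  rw [← emb_zero]
  exact emb_inj.eq_iff

theorem emb_one : emb (1, 0) = 1 := by decide +kernel

theorem emb_al : emb (0, 1) = K8.al := by decide +kernel

end Cfsg.Agent.RuB
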