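import Cfsg.Agent.RuB.Count

/-!
# A subgroup containing `V`, `L` and `C_G(z)` is everything
-/

set_option autoImplicit false

namespace Cfsg.Agent.RuB.Final

open Cfsg.Agent.RuB Cfsg.Agent.RuB.Core Cfsg.Agent.RuB.Count Subgroup

variable {G : Type*} [Group G] [Finite G] {C : Core G}

theorem mem_of_zc (hn : NoV C) {G1 : Subgroup G} (hV : ∀ a, C.v a ∈ G1) (hL : C.L ≤ G1)
    (hz : ∀ g, g * C.z 1 = C.z 1 * g → g ∈ G1) {y : G} (hy : ZC C y) : y ∈ G1 := by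
  have ha : ((1, 0) : A4) ≠ 0 := by decide
  obtain ⟨l, hl, h⟩ := exists_inv hn ha hy
  obtain ⟨m, hm, rfl⟩ := exists_conj_L hl
  rcases h with h | h
  · have hsq : (C.v (1, 0) * (m * C.z 1 * m⁻¹)) * (C.v (1, 0) * (m * C.z 1 * m⁻¹)) = 1 := by
      calc (C.v (1, 0) * (m * C.z 1 * m⁻¹)) * (C.v (1, 0) * (m * C.z 1 * m⁻¹))
          = C.v (1, 0) * ((m * C.z 1 * m⁻¹) * C.v (1, 0)) * (m * C.z 1 * m⁻¹) := by group
        _ = (C.v (1, 0) * C.v (1, 0)) * ((m * C.z 1 * m⁻¹) * (m * C.z 1 * m⁻¹)) := by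
            rw [← C.v_comm _ _ hl.1]; group
        _ = 1 := by rw [C.v_sq, hl.2.1, one_mul]
    have h1 := comm_of_mem hy.sq (C.v_sq _) h hsq
    obtain ⟨x, hx, hx2⟩ := exists_grow (C := C) ha
    have hxG : x ∈ G1 := hz x (hx 1)
    have hmG : m ∈ G1 := hL hm
    have e : C.v (1, 0) * (m * C.z 1 * m⁻¹) = (m * x) * C.v (1, 0) * (m * x)⁻¹ := by
      calc C.v (1, 0) * (m * C.z 1 * m⁻¹) = (C.v (1, 0) * m) * C.z 1 * m⁻¹ := by group
        _ = m * (C.v (1, 0) * C.z 1) * m⁻¹ := by rw [C.v_comm _ _ hm]; group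
        _ = _ := by rw [← hx2]; group
    rw [e] at h1
    have h2 : ((m * x)⁻¹ * y * (m * x)) * C.v (1, 0) = C.v (1, 0) * ((m * x)⁻¹ * y * (m * x)) := by
      calc ((m * x)⁻¹ * y * (m * x)) * C.v (1, 0) = (m * x)⁻¹ * (y * ((m * x) * C.v (1, 0) * (m * x)⁻¹)) * (m * x) := by
            group
        _ = (m * x)⁻¹ * (((m * x) * C.v (1, 0) * (m * x)⁻¹) * y) * (m * x) := by rw [h1]
        _ = _ := by group
    obtain ⟨b, l', hl', h3⟩ := C.cent _ ha _ h2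
    have h4 : y = (m * x) * (C.v b * l') * (m * x)⁻¹ := by rw [← h3]; group
    rw [h4]
    exact mul_mem (mul_mem (mul_mem hmG hxG) (mul_mem (hV b) (hL hl'))) (inv_mem (mul_mem hmG hxG))
  · have h1 := comm_of_mem hy.sq (C.v_sq _) h hl.2.1
    have hmG : m ∈ G1 := hL hm
    have h2 : (m⁻¹ * y * m) * C.z 1 = C.z 1 * (m⁻¹ * y * m) := by
      calc (m⁻¹ * y * m) * C.z 1 = m⁻¹ * (y * (m * C.z 1 * m⁻¹)) * m := by group
        _ = m⁻¹ * ((m * C.z 1 * m⁻¹) * y) * m := by rw [h1]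
        _ = _ := by group
    have h3 := hz _ h2
    have h4 : y = m * (m⁻¹ * y * m) * m⁻¹ := by group
    rw [h4]
    exact mul_mem (mul_mem hmG h3) (inv_mem hmG)

theorem eq_top [IsSimpleGroup G] (hn : NoV C) {G1 : Subgroup G} (hV : ∀ a, C.v a ∈ G1) (hL : C.L ≤ G1)
    (hz : ∀ g, g * C.z 1 = C.z 1 * g → g ∈ G1) : G1 = ⊤ := by
  have h1 : normalClosure ({C.z 1} : Set G) ≤ G1 := by
    rw [normalClosure, closure_le]
    intro y hy
    rw [Group.mem_conjugatesOfSet_iff] at hy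
    obtain ⟨a, ha, hc⟩ := hy
    rw [Set.mem_singleton_iff] at ha
    subst ha
    obtain ⟨g, hg⟩ := isConj_iff.1 hc
    exact mem_of_zc hn hV hL hz ⟨g, hg⟩
  have h2 : normalClosure ({C.z 1} : Set G) = ⊤ := by
    refine (IsSimpleGroup.eq_bot_or_eq_top_of_normal (normalClosure ({C.z 1} : Set G)) normalClosure_normal).resolve_left ?_
    intro h
    have h3 : C.z 1 ∈ normalClosure ({C.z 1} : Set G) := subset_normalClosure rfl
    rw [h, mem_bot] at h3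
    exact one_ne_zero (C.z_eq_one h3)
  rw [eq_top_iff, ← h2]
  exact h1

end Cfsg.Agent.RuB.Final
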