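import Cfsg.Agent.Ru127.Y
import Cfsg.Agent.RuB.Final

/-!
# A simple subgroup containing `V`, `L` and `C_G(z)` is everything
-/

set_option autoImplicit false

namespace Cfsg.Agent.RuB.Final2

open Cfsg.Agent.RuB Cfsg.Agent.RuB.Core Cfsg.Agent.RuB.Count Cfsg.Agent.RuB.GLThree Cfsg.Agent.RuB.NormQ
open Cfsg.Agent.RuB.NormZ Cfsg.Agent.Ru127.Sg Subgroup
open Cfsg.Agent.Ru127.Form (nor mem_nor)

/-- codes fixing `1` and `e` -/
def fixL (e : ℕ) : List ℕ := (List.range 512).filter fun p => good p && ap p 1 == 1 && ap p e == e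

theorem fixL_card : ∀ e : Fin 8, e.1 ≠ 0 → e.1 ≠ 1 → (fixL e.1).toFinset.card = 4 := by decide +kernel

variable {G : Type*} [Group G] [Finite G] {C : Core G}

/-- few elements of `N_G(Z)` fix two elements of `Z` -/
theorem card_le (K : Coord C) (hcz : ∀ g : G, (∀ b, g * C.z b = C.z b * g) → g ∈ C.QQ) {S : Subgroup G}
    (hS : S ≤ nor (Zs C)) (h1 : ∀ x ∈ S, x * C.z 1 = C.z 1 * x) {e : K8} (he0 : e ≠ 0) (he1 : e ≠ 1)
    (he : ∀ x ∈ S, x * C.z e = C.z e * x) : Nat.card S ≤ 4 * 2 ^ 11 := by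
  classical
  choose r hr using fun g : S => exists_ind (hS g.2)
  have hmem : ∀ g : S, cod (r g) ∈ (fixL e.val.val).toFinset := by
    intro g
    rw [List.mem_toFinset, fixL, List.mem_filter, List.mem_range]
    refine ⟨cod_lt _, ?_⟩
    have hadd := (hr g).add
    have e1 : r g 1 = 1 := by
      apply C.z_inj
      rw [← hr g, h1 g g.2, mul_inv_cancel_right]
    have e2 : r g e = e := by
      apply C.z_inj
      rw [← hr g, he g g.2, mul_inv_cancel_right]
    have e3 := ap_cod hadd 1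
    have e4 := ap_cod hadd e
    rw [e1] at e3
    rw [e2] at e4
    have v1 : (1 : K8).val.val = 1 := by decide +kernel
    rw [v1] at e3
    simp only [Bool.and_eq_true, beq_iff_eq]
    exact ⟨⟨good_cod hadd (fun x hx => (hr g).zero hx), e3.symm⟩, e4.symm⟩
  have hrep : ∀ p : {p // p ∈ (fixL e.val.val).toFinset}, ∃ g : S, (∃ g' : S, cod (r g') = p.1) → cod (r g) = p.1 := by
    intro p
    by_cases h : ∃ g' : S, cod (r g') = p.1
    · obtain ⟨g', hg'⟩ := h
      exact ⟨g', fun _ => hg'⟩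
    · exact ⟨1, fun h' => absurd h' h⟩
  choose rep hrep using hrep
  have hQ : ∀ g : S, ((rep ⟨cod (r g), hmem g⟩ : G))⁻¹ * g ∈ C.QQ := by
    intro g
    have h2 := hrep ⟨cod (r g), hmem g⟩ ⟨g, rfl⟩
    have h3 : r (rep ⟨cod (r g), hmem g⟩) = r g := cod_inj (hr _).add (hr _).add h2
    apply hcz
    intro b
    have e1 := hr (rep ⟨cod (r g), hmem g⟩) b
    have e2 := hr g b
    rw [h3, ← e2] at e1
    calc ((rep ⟨cod (r g), hmem g⟩ : G))⁻¹ * g * C.z b = ((rep ⟨cod (r g), hmem g⟩ : G))⁻¹ * (g * C.z b * (g : G)⁻¹) * g := by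
          group
      _ = ((rep ⟨cod (r g), hmem g⟩ : G))⁻¹ * ((rep ⟨cod (r g), hmem g⟩ : G) * C.z b *
          ((rep ⟨cod (r g), hmem g⟩ : G))⁻¹) * g := by rw [e1]
      _ = _ := by group
  have hinj : Function.Injective (fun g : S => ((⟨cod (r g), hmem g⟩, ⟨_, hQ g⟩) :
      {p // p ∈ (fixL e.val.val).toFinset} × C.QQ)) := by
    intro g g' h
    have h2 := congrArg (fun t => t.1) h
    have h3 := congrArg (fun t => (t.2 : G)) h
    simp only at h2 h3
    rw [h2] at h3
    exact Subtype.ext (mul_left_cancel h3)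
  have h4 := Nat.card_le_card_of_injective _ hinj
  rw [Nat.card_prod, card_QQ K, Nat.card_eq_fintype_card (α := {p // p ∈ (fixL e.val.val).toFinset}), Fintype.card_coe] at h4
  have h5 := fixL_card e.val (by
    intro h
    exact he0 (val_inj (by rw [h]; decide +kernel))) (by
    intro h
    exact he1 (val_inj (by rw [h]; decide +kernel)))
  rw [h5] at h4
  exact h4

theorem eq_top' (C : Core G) (G1 : Subgroup G) (hs : IsSimpleGroup G1) (hV : ∀ a, C.v a ∈ G1) (hL : C.L ≤ G1)
    (hz : ∀ g, g * C.z 1 = C.z 1 * g → g ∈ G1) : G1 = ⊤ := by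
  have : Fact (Nat.Prime 2) := ⟨Nat.prime_two⟩
  obtain ⟨K, hν, hμ, L, hcz⟩ := exists_localData C
  have hz1 : C.z 1 ≠ 1 := fun h => one_ne_zero (C.z_eq_one h)
  -- `G1` is normal
  have hN : normalClosure ({C.z 1} : Set G) ≤ G1 := by
    rw [normalClosure, closure_le]
    intro y hy
    rw [Group.mem_conjugatesOfSet_iff] at hy
    obtain ⟨a, ha, hc⟩ := hy
    rw [Set.mem_singleton_iff] at ha
    subst ha
    obtain ⟨g, hg⟩ := isConj_iff.1 hc
    exact Final.mem_of_zc (Local.noV K) hV hL hz ⟨g, hg⟩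
  have hNeq : normalClosure ({C.z 1} : Set G) = G1 := by
    apply le_antisymm hN
    have hn : (normalClosure ({C.z 1} : Set G)).Normal := normalClosure_normal
    have hn1 : ((normalClosure ({C.z 1} : Set G)).subgroupOf G1).Normal := hn.subgroupOf G1
    rcases hn1.eq_bot_or_eq_top with h | h
    · exfalso
      have h3 : C.z 1 ∈ normalClosure ({C.z 1} : Set G) := subset_normalClosure rfl
      have h4 : (⟨C.z 1, hN h3⟩ : G1) ∈ (normalClosure ({C.z 1} : Set G)).subgroupOf G1 := by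
        rw [mem_subgroupOf]; exact h3
      rw [h, mem_bot] at h4
      exact hz1 (congrArg Subtype.val h4)
    · exact subgroupOf_eq_top.1 h
  have hG1 : G1.Normal := by rw [← hNeq]; exact normalClosure_normal
  -- the Sylow subgroup
  let X0 : Subgroup G := nor (Zs C) ⊓ centralizer {C.z 1}
  have hX0 : Nat.card X0 = 2 ^ 14 * 3 := Cfsg.Agent.Ru127.Count.card_nor_cent L hz1 Local.Zs_mem_ZZ (z_mem_Zs 1)
  have hQX : C.QQ ≤ X0 := by
    intro x hx
    exact ⟨mem_nor_of_ind (r := id) (ind_one_iff.2 (fun b => zcomm hx b)),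
      mem_centralizer_singleton_iff.2 (zcomm hx 1)⟩
  have hQp : IsPGroup 2 (C.QQ.subgroupOf X0) := by
    apply IsPGroup.of_card (n := 11)
    rw [Nat.card_congr (subgroupOfEquivOfLe hQX).toEquiv, card_QQ K]
  obtain ⟨P0, hP0⟩ := hQp.exists_le_sylow
  let S : Subgroup G := (P0 : Subgroup X0).map X0.subtype
  have hScard : Nat.card S = 2 ^ 14 := by
    have h1 : Nat.card S = Nat.card P0 :=
      (Nat.card_congr ((P0 : Subgroup X0).equivMapOfInjective X0.subtype (subtype_injective _)).toEquiv).symm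
    rw [h1, P0.card_eq_multiplicity, hX0]
    have h2 : (2 ^ 14 * 3).factorization 2 = 14 := by
      rw [Nat.factorization_mul (by norm_num) (by norm_num), Nat.Prime.factorization_pow Nat.prime_two]
      simp only [Finsupp.coe_add, Pi.add_apply, Finsupp.single_eq_same]
      rw [Nat.factorization_eq_zero_of_not_dvd (by norm_num)]
    rw [h2]
  have hSX : S ≤ X0 := map_subtype_le _
  have hQS : C.QQ ≤ S := by
    intro x hx
    exact ⟨⟨x, hQX hx⟩, hP0 (mem_subgroupOf.2 hx), rfl⟩
  have hSz : ∀ x ∈ S, x * C.z 1 = C.z 1 * x := fun x hx => mem_centralizer_singleton_iff.1 (hSX hx).2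
  -- its normaliser
  have hNS : normalizer (S : Set G) ≤ centralizer {C.z 1} := by
    intro g hg
    have hu : ∀ x ∈ S, x * (g * C.z 1 * g⁻¹) = (g * C.z 1 * g⁻¹) * x := by
      intro x hx
      have h1 : g⁻¹ * x * g ∈ S := by
        have := (mem_normalizer_iff.1 (inv_mem hg) x).1 hx
        rwa [inv_inv] at this
      have h2 := hSz _ h1
      calc x * (g * C.z 1 * g⁻¹) = g * ((g⁻¹ * x * g) * C.z 1) * g⁻¹ := by group
        _ = g * (C.z 1 * (g⁻¹ * x * g)) * g⁻¹ := by rw [h2]
        _ = _ := by group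
    have huQ : g * C.z 1 * g⁻¹ ∈ C.QQ := hcz _ (fun b => (hu _ (hQS (z_mem_QQ b))).symm)
    obtain ⟨e, he⟩ := eq_z_of_central huQ (fun y hy => (hu y (hQS hy)).symm)
    have he0 : e ≠ 0 := by
      rintro rfl
      rw [C.z_zero] at he
      apply hz1
      calc C.z 1 = g⁻¹ * (g * C.z 1 * g⁻¹) * g := by group
        _ = 1 := by rw [he]; group
    by_cases he1 : e = 1
    · rw [mem_centralizer_singleton_iff]
      rw [he1] at he
      exact mul_inv_eq_iff_eq_mul.1 he
    · exfalso
      have h3 := card_le K hcz (S := S) (fun x hx => (hSX hx).1) hSz he0 he1 (by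
        intro x hx
        rw [← he]
        exact hu x hx)
      rw [hScard] at h3
      norm_num at h3
  -- Sylow in `G`
  have hSp : IsPGroup 2 S := IsPGroup.of_card hScard
  obtain ⟨P, hP⟩ := hSp.exists_le_sylow
  have hPS : (P : Subgroup G) = S := by
    refine Cfsg.Agent.Blocks.SylowIn.eq_of_normalizer_inf_le P.2 hP ?_
    have h1 : IsPGroup 2 (normalizer (S : Set G) ⊓ P : Subgroup G) := P.2.to_le inf_le_right
    obtain ⟨n, hn⟩ := IsPGroup.iff_card.1 h1
    have h2 : Nat.card (normalizer (S : Set G) ⊓ P : Subgroup G) ∣ 2 ^ 14 * 15 := by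
      have h3 := card_dvd_of_le (inf_le_left.trans hNS : (normalizer (S : Set G) ⊓ P : Subgroup G) ≤ _)
      rw [card_cent C] at h3
      exact h3
    have h3 : 2 ^ n ∣ 2 ^ 14 := by
      rw [hn] at h2
      exact (Nat.Coprime.pow_left n (by norm_num : Nat.Coprime 2 15)).dvd_of_dvd_mul_right h2
    have h4 : S ≤ (normalizer (S : Set G) ⊓ P : Subgroup G) := le_inf le_normalizer hP
    have h5 : S = (normalizer (S : Set G) ⊓ P : Subgroup G) := by
      apply eq_of_le_of_card_ge h4
      rw [hn, hScard]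
      exact Nat.le_of_dvd (by norm_num) h3
    exact h5.symm.le
  have hPG : (P : Subgroup G) ≤ G1 := by
    rw [hPS]
    intro x hx
    exact hz x (hSz x hx)
  have hfr := Sylow.normalizer_sup_eq_top (N := G1) (P.subtype hPG)
  have h6 : ((P.subtype hPG : Subgroup G1).map G1.subtype) = S := by
    rw [Sylow.coe_subtype, ← hPS]
    exact subgroupOf_map_subtype _ _ |>.trans (inf_eq_left.2 hPG)
  rw [h6] at hfr
  rw [eq_top_iff, ← hfr]
  refine sup_le (fun g hg => ?_) le_rfl
  exact hz g (mem_centralizer_singleton_iff.1 (hNS hg))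

end Cfsg.Agent.RuB.Final2
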