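import Cfsg.Agent.RuB.Core
import Cfsg.Agent.ThreePrime.SzDataExists
import Cfsg.Agent.RuRed.SzRelMore

/-!
# The Rudvalis analysis: counting the conjugates of `z`

`card_conj` : if `z = z 1` is not conjugate to an element of `V`, then `|z^G| = 455 * (449 + γ)`, where `γ` is the
number of conjugates `y` of `z` with `z ∈ ⟨y t⟩`, `t = v a`, `a ≠ 0`.
-/

set_option autoImplicit false

namespace Cfsg.Agent.RuB.Count

open Subgroup
open Cfsg.Agent.ThreePrime

/-! ### the group `Sz(8)` -/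

section rel

variable {J : Type*} [Group J] (R : SzRel.Rel J K8)

theorem borel_mul {a b c e : K8} {k l : K8ˣ} : ∃ x y m, (R.u a b * R.d k) * (R.u c e * R.d l) = R.u x y * R.d m :=
  R.norm (mul_mem (R.ud_mem_normalizer a b k) (R.ud_mem_normalizer c e l))

theorem borel_inv {a b : K8} {k : K8ˣ} : ∃ x y m, (R.u a b * R.d k)⁻¹ = R.u x y * R.d m :=
  R.norm (inv_mem (R.ud_mem_normalizer a b k))

/-- the Bruhat map -/
def brMap : (K8 × K8 × K8ˣ) ⊕ (K8 × K8 × K8 × K8 × K8ˣ) → J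
  | .inl (a, b, k) => R.u a b * R.d k
  | .inr (a, b, c, e, k) => R.u a b * R.w * (R.u c e * R.d k)

theorem brMap_bijective : Function.Bijective (brMap R) := by
  constructor
  · have cross : ∀ (a b : K8) (k : K8ˣ) (a' b' c e : K8) (l : K8ˣ),
        R.u a b * R.d k ≠ R.u a' b' * R.w * (R.u c e * R.d l) := by
      intro a b k a' b' c e l h
      have h1 : R.w = (R.u a' b')⁻¹ * (R.u a b * R.d k) * (R.u c e * R.d l)⁻¹ := by
        rw [h]; group
      have h2 : R.w ∈ normalizer (R.T : Set J) := by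
        rw [h1]
        refine mul_mem (mul_mem (inv_mem ?_) (R.ud_mem_normalizer a b k)) (inv_mem (R.ud_mem_normalizer c e l))
        have := R.ud_mem_normalizer a' b' 1
        rwa [R.d_one, mul_one] at this
      exact R.w_not_mem_normalizer h2
    rintro (⟨a, b, k⟩ | ⟨a, b, c, e, k⟩) (⟨a', b', k'⟩ | ⟨a', b', c', e', k'⟩) h
    · obtain ⟨h1, h2, h3⟩ := R.ud_inj h
      rw [h1, h2, h3]
    · exact absurd h (cross _ _ _ _ _ _ _ _)
    · exact absurd h.symm (cross _ _ _ _ _ _ _ _)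
    · have h0 : R.u a b * R.w * (R.u c e * R.d k) = R.u a' b' * R.w * (R.u c' e' * R.d k') := h
      have h1 : R.w * ((R.u a' b')⁻¹ * R.u a b) * R.w = (R.u c' e' * R.d k') * (R.u c e * R.d k)⁻¹ := by
        have h2 : R.w * ((R.u a' b')⁻¹ * (R.u a b * R.w * (R.u c e * R.d k))) * (R.u c e * R.d k)⁻¹ =
            R.w * ((R.u a' b')⁻¹ * (R.u a' b' * R.w * (R.u c' e' * R.d k'))) * (R.u c e * R.d k)⁻¹ := by rw [h0]
        calc R.w * ((R.u a' b')⁻¹ * R.u a b) * R.w
            = R.w * ((R.u a' b')⁻¹ * (R.u a b * R.w * (R.u c e * R.d k))) * (R.u c e * R.d k)⁻¹ := by group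
          _ = (R.w * R.w) * (R.u c' e' * R.d k') * (R.u c e * R.d k)⁻¹ := by rw [h2]; group
          _ = _ := by rw [R.w_mul_w, one_mul]
      obtain ⟨x, y, m, hm⟩ := R.norm (mul_mem (R.ud_mem_normalizer c' e' k') (inv_mem (R.ud_mem_normalizer c e k)))
      rw [hm, R.u_inv, R.u_mul] at h1
      obtain ⟨h3, h4⟩ := R.inter _ _ _ _ _ h1
      have haa : a = a' := by
        have := K8.add_self a'
        linear_combination h3 - this
      subst haa
      have hbb : b = b' := by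
        linear_combination h4 - a * R.θ a * K8.two_eq - b' * K8.two_eq
      subst hbb
      have h5 : R.u c e * R.d k = R.u c' e' * R.d k' := mul_left_cancel h0
      obtain ⟨h6, h7, h8⟩ := R.ud_inj h5
      rw [h6, h7, h8]
  · intro g
    rcases R.bruhat g with ⟨a, b, k, h⟩ | ⟨a, b, c, e, k, h⟩
    · exact ⟨Sum.inl (a, b, k), h.symm⟩
    · exact ⟨Sum.inr (a, b, c, e, k), h.symm⟩

include R in
theorem card_J : Nat.card J = 29120 := by
  have h1 := Nat.card_congr (Equiv.ofBijective (brMap R) (brMap_bijective R))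
  rw [← h1]
  have h8 : Nat.card K8 = 8 := K8.natCard
  have h7 : Nat.card K8ˣ = 7 := by
    rw [Nat.card_eq_fintype_card, Fintype.card_units, ← Nat.card_eq_fintype_card, h8]
  rw [Nat.card_sum, Nat.card_prod, Nat.card_prod, Nat.card_prod, Nat.card_prod, Nat.card_prod, Nat.card_prod, h8, h7]

/-- all involutions are conjugate to `u 0 1` -/
theorem exists_conj [Finite J] {x : J} (hx : x * x = 1) (hx1 : x ≠ 1) : ∃ g, g * R.u 0 1 * g⁻¹ = x := by
  have : Fact (Nat.Prime 2) := ⟨Nat.prime_two⟩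
  obtain ⟨P, hP⟩ := R.exists_sylow_eq (m := 1) le_rfl (by rw [K8.card]; norm_num)
  have hz : IsPGroup 2 (zpowers x) := by
    rw [IsPGroup.iff_card]
    have h2 : orderOf x = 2 := orderOf_eq_prime (by rw [pow_two, hx]) hx1
    exact ⟨1, by rw [Nat.card_zpowers, h2, pow_one]⟩
  obtain ⟨P', hP'⟩ := hz.exists_le_sylow
  obtain ⟨g, hg⟩ := MulAction.exists_smul_eq J P P'
  have h1 : x ∈ (P' : Subgroup J) := hP' (mem_zpowers x)
  rw [← hg] at h1
  have h2 : g⁻¹ * x * g ∈ R.T := by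
    rw [← hP]
    obtain ⟨y, hy, hyx⟩ := h1
    have : g * y * g⁻¹ = x := hyx
    rw [← this]
    have e : g⁻¹ * (g * y * g⁻¹) * g = y := by group
    rw [e]
    exact hy
  obtain ⟨a, b, hab⟩ := h2
  have h3 : R.u a b * R.u a b = 1 := by
    rw [← hab]
    calc g⁻¹ * x * g * (g⁻¹ * x * g) = g⁻¹ * (x * x) * g := by group
      _ = 1 := by rw [hx]; group
  have ha := (R.u_sq_iff a b).mp h3
  subst ha
  have hb : b ≠ 0 := by
    rintro rfl
    apply hx1
    rw [R.u_zero] at hab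
    calc x = g * (g⁻¹ * x * g) * g⁻¹ := by group
      _ = 1 := by rw [hab]; group
  have hall : ∀ b : K8, b ≠ 0 → ∃ k : K8, k ≠ 0 ∧ k ^ 4 = b := by decide +kernel
  obtain ⟨k, hk0, hk⟩ := hall b hb
  refine ⟨g * R.d (Units.mk0 k hk0), ?_⟩
  have h4 := R.conj_d (Units.mk0 k hk0) 0 1
  have hth : R.θ k = k ^ 4 := K8.theta_eq R.θ R.sq k
  rw [zero_mul, zero_mul, one_mul, Units.val_mk0, hth, hk] at h4
  calc g * R.d (Units.mk0 k hk0) * R.u 0 1 * (g * R.d (Units.mk0 k hk0))⁻¹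
      = g * (R.d (Units.mk0 k hk0) * R.u 0 1 * (R.d (Units.mk0 k hk0))⁻¹) * g⁻¹ := by group
    _ = g * (g⁻¹ * x * g) * g⁻¹ := by rw [h4, hab]
    _ = x := by group

end rel

/-! ### two involutions -/

section dih

variable {G : Type*} [Group G] {x y : G}

theorem conj_pow_dih (hx : x * x = 1) (hy : y * y = 1) (k : ℕ) : x * (x * y) ^ k * x⁻¹ = ((x * y) ^ k)⁻¹ := by
  have ix : x⁻¹ = x := inv_eq_of_mul_eq_one_left hx
  have iy : y⁻¹ = y := inv_eq_of_mul_eq_one_left hy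
  have c1 : x * (x * y) * x⁻¹ = (x * y)⁻¹ := by
    rw [mul_inv_rev, ix, iy, ← mul_assoc, hx, one_mul]
  rw [← conj_pow, c1, inv_pow]

/-- an involution in `⟨x y⟩` commutes with `x` -/
theorem comm_of_mem (hx : x * x = 1) (hy : y * y = 1) {j : G} (hj : j ∈ zpowers (x * y)) (hjj : j * j = 1) :
    x * j = j * x := by
  have ij : j⁻¹ = j := inv_eq_of_mul_eq_one_left hjj
  obtain ⟨n, rfl⟩ := mem_zpowers_iff.mp hj
  have h1 : x * (x * y) ^ n * x⁻¹ = ((x * y) ^ n)⁻¹ := by
    have ix : x⁻¹ = x := inv_eq_of_mul_eq_one_left hx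
    have iy : y⁻¹ = y := inv_eq_of_mul_eq_one_left hy
    have c1 : x * (x * y) * x⁻¹ = (x * y)⁻¹ := by
      rw [mul_inv_rev, ix, iy, ← mul_assoc, hx, one_mul]
    rw [← conj_zpow, c1, inv_zpow]
  rw [ij] at h1
  exact mul_inv_eq_iff_eq_mul.mp h1

theorem comm_of_mem' (hx : x * x = 1) (hy : y * y = 1) {j : G} (hj : j ∈ zpowers (x * y)) (hjj : j * j = 1) :
    y * j = j * y := by
  have h1 := comm_of_mem hx hy hj hjj
  have h2 : (x * y) * j = j * (x * y) := by
    obtain ⟨n, rfl⟩ := mem_zpowers_iff.mp hj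
    exact ((Commute.refl (x * y)).zpow_right n).eq
  calc y * j = x * (x * y * j) := by rw [← mul_assoc, ← mul_assoc, hx, one_mul]
    _ = x * (j * (x * y)) := by rw [h2]
    _ = (x * j) * x * y := by group
    _ = (j * x) * x * y := by rw [h1]
    _ = j * (x * x) * y := by group
    _ = j * y := by rw [hx, mul_one]

/-- two non-conjugate involutions: the order of the product is even -/
theorem exists_half [Finite G] (hx : x * x = 1) (hy : y * y = 1) (hn : ∀ g, g * x * g⁻¹ ≠ y) :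
    ∃ k, 0 < k ∧ (x * y) ^ k * (x * y) ^ k = 1 ∧ (x * y) ^ k ≠ 1 := by
  have ix : x⁻¹ = x := inv_eq_of_mul_eq_one_left hx
  have iy : y⁻¹ = y := inv_eq_of_mul_eq_one_left hy
  have pos : 0 < orderOf (x * y) := orderOf_pos _
  rcases Nat.even_or_odd' (orderOf (x * y)) with ⟨k, hk | hk⟩
  · refine ⟨k, by omega, ?_, ?_⟩
    · rw [← pow_add, ← two_mul, ← hk, pow_orderOf_eq_one]
    · intro e
      have := Nat.le_of_dvd (by omega) (orderOf_dvd_of_pow_eq_one e)
      omega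
  · exfalso
    apply hn ((x * y) ^ k)
    have h2 : x * ((x * y) ^ k)⁻¹ = (x * y) ^ k * x := by
      calc x * ((x * y) ^ k)⁻¹ = x * (x * (x * y) ^ k * x⁻¹) := by rw [conj_pow_dih hx hy k]
        _ = (x * x) * (x * y) ^ k * x⁻¹ := by simp only [mul_assoc]
        _ = (x * y) ^ k * x := by rw [hx, one_mul, ix]
    rw [mul_assoc, h2, ← mul_assoc, ← pow_add, ← two_mul]
    have h4 : (x * y) ^ (2 * k) * (x * y) = 1 := by
      rw [← pow_succ, ← hk, pow_orderOf_eq_one]
    rw [eq_inv_of_mul_eq_one_left h4, mul_inv_rev, ix, iy, mul_assoc, hx, mul_one]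

/-- a cyclic group has at most one involution -/
theorem unique_inv [Finite G] {g a b : G} (ha : a ∈ zpowers g) (hb : b ∈ zpowers g) (haa : a * a = 1)
    (hbb : b * b = 1) (ha1 : a ≠ 1) (hb1 : b ≠ 1) : a = b := by
  classical
  by_contra hab
  have : Fintype (zpowers g) := Fintype.ofFinite _
  have h1 := IsCyclic.card_pow_eq_one_le (α := zpowers g) (n := 2) (by norm_num)
  have h2 : ({1, ⟨a, ha⟩, ⟨b, hb⟩} : Finset (zpowers g)) ⊆ Finset.univ.filter (fun x => x ^ 2 = 1) := by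
    intro x hx
    simp only [Finset.mem_insert, Finset.mem_singleton] at hx
    simp only [Finset.mem_filter, Finset.mem_univ, true_and]
    rcases hx with rfl | rfl | rfl
    · simp
    · exact Subtype.ext (by simp [pow_two, haa])
    · exact Subtype.ext (by simp [pow_two, hbb])
  have h3 := Finset.card_le_card h2
  have h4 : ({1, ⟨a, ha⟩, ⟨b, hb⟩} : Finset (zpowers g)).card = 3 := by
    rw [Finset.card_eq_three]
    refine ⟨1, ⟨a, ha⟩, ⟨b, hb⟩, ?_, ?_, ?_, rfl⟩
    · intro h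
      exact ha1 (congrArg Subtype.val h).symm
    · intro h
      exact hb1 (congrArg Subtype.val h).symm
    · intro h
      exact hab (congrArg Subtype.val h)
  omega

end dih

/-! ### the count -/

section count

variable {G : Type*} [Group G] [Finite G] (C : Core G)

/-- `z` is not conjugate to an element of `V` -/
def NoV : Prop := ∀ g b, g * C.z 1 * g⁻¹ ≠ C.v b

/-- the involutions of `L` -/
def InvL (x : G) : Prop := x ∈ C.L ∧ x * x = 1 ∧ x ≠ 1

/-- the conjugates of `z` -/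
def ZC (x : G) : Prop := ∃ g, g * C.z 1 * g⁻¹ = x

variable {C}

omit [Finite G] in
theorem z_one_inv : InvL C (C.z 1) := ⟨C.z_mem 1, C.z_sq 1, fun h => by
  have := C.z_eq_one h
  exact absurd this one_ne_zero⟩

theorem exists_conj_L {l : G} (hl : InvL C l) : ∃ m ∈ C.L, m * C.z 1 * m⁻¹ = l := by
  obtain ⟨h1, h2, h3⟩ := hl
  obtain ⟨g, hg⟩ := exists_conj C.R (x := (⟨l, h1⟩ : C.L)) (Subtype.ext h2) (fun h => h3 (congrArg Subtype.val h))
  exact ⟨g, g.2, congrArg Subtype.val hg⟩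

omit [Finite G] in
theorem InvL.conj {l m : G} (hl : InvL C l) (hm : m ∈ C.L) : InvL C (m * l * m⁻¹) := by
  obtain ⟨h1, h2, h3⟩ := hl
  refine ⟨mul_mem (mul_mem hm h1) (inv_mem hm), ?_, ?_⟩
  · calc m * l * m⁻¹ * (m * l * m⁻¹) = m * (l * l) * m⁻¹ := by group
      _ = 1 := by rw [h2]; group
  · intro h
    apply h3
    calc l = m⁻¹ * (m * l * m⁻¹) * m := by group
      _ = 1 := by rw [h]; group

theorem InvL.zc {l : G} (hl : InvL C l) : ZC C l := by
  obtain ⟨m, -, h⟩ := exists_conj_L hl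
  exact ⟨m, h⟩

omit [Finite G] in
theorem ZC.conj {x : G} (hx : ZC C x) (g : G) : ZC C (g * x * g⁻¹) := by
  obtain ⟨k, rfl⟩ := hx
  exact ⟨g * k, by group⟩

omit [Finite G] in
theorem ZC.sq {x : G} (hx : ZC C x) : x * x = 1 := by
  obtain ⟨k, rfl⟩ := hx
  calc k * C.z 1 * k⁻¹ * (k * C.z 1 * k⁻¹) = k * (C.z 1 * C.z 1) * k⁻¹ := by group
    _ = 1 := by rw [C.z_sq]; group

omit [Finite G] in
theorem ZC.ne_one {x : G} (hx : ZC C x) : x ≠ 1 := by
  obtain ⟨k, rfl⟩ := hx
  intro h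
  have h1 : C.z 1 = 1 := by
    calc C.z 1 = k⁻¹ * (k * C.z 1 * k⁻¹) * k := by group
      _ = 1 := by rw [h]; group
  exact absurd (C.z_eq_one h1) one_ne_zero

omit [Finite G] in
/-- growth: `v a z` is conjugate to `v a` by an element centralising `Z` -/
theorem exists_grow {a : A4} (ha : a ≠ 0) : ∃ x : G, (∀ b, x * C.z b = C.z b * x) ∧ x * C.v a * x⁻¹ = C.v a * C.z 1 := by
  have h : ∀ a : A4, a ≠ 0 → ∃ c : K8, c * emb a = 1 := by decide +kernel
  obtain ⟨c, hc⟩ := h a ha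
  obtain ⟨x, h1, h2⟩ := C.grow c
  refine ⟨x, h1, ?_⟩
  have := h2 a
  rw [hc] at this
  exact this

theorem exists_grow' {a : A4} (ha : a ≠ 0) {l : G} (hl : InvL C l) : ∃ x : G, x * C.v a * x⁻¹ = C.v a * l := by
  obtain ⟨m, hm, rfl⟩ := exists_conj_L hl
  obtain ⟨x, -, h2⟩ := exists_grow (C := C) ha
  refine ⟨m * x, ?_⟩
  have h3 := C.v_comm a m hm
  calc m * x * C.v a * (m * x)⁻¹ = m * (x * C.v a * x⁻¹) * m⁻¹ := by group
    _ = (m * C.v a) * C.z 1 * m⁻¹ := by rw [h2]; group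
    _ = (C.v a * m) * C.z 1 * m⁻¹ := by rw [h3]
    _ = _ := by group

/-- conjugates of `z` in `V L` are in `L` -/
theorem zc_VL (hn : NoV C) {b : A4} {l : G} (hl : l ∈ C.L) (h : ZC C (C.v b * l)) : b = 0 := by
  by_contra hb
  have hsq := h.sq
  have hll : l * l = 1 := by
    have h1 := C.v_comm b l hl
    calc l * l = (C.v b * C.v b) * (l * l) := by rw [C.v_sq, one_mul]
      _ = C.v b * (C.v b * l) * l := by group
      _ = C.v b * (l * C.v b) * l := by rw [h1]
      _ = C.v b * l * (C.v b * l) := by group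
      _ = 1 := hsq
  by_cases hl1 : l = 1
  · rw [hl1, mul_one] at h
    obtain ⟨g, hg⟩ := h
    exact hn g b hg
  · obtain ⟨x, hx⟩ := exists_grow' hb (⟨hl, hll, hl1⟩ : InvL C l)
    obtain ⟨g, hg⟩ := h
    apply hn (x⁻¹ * g) b
    calc x⁻¹ * g * C.z 1 * (x⁻¹ * g)⁻¹ = x⁻¹ * (g * C.z 1 * g⁻¹) * x := by group
      _ = x⁻¹ * (x * C.v b * x⁻¹) * x := by rw [hg, hx]
      _ = C.v b := by group

/-- the involution of `⟨y t⟩` -/
theorem exists_inv (hn : NoV C) {a : A4} (ha : a ≠ 0) {y : G} (hy : ZC C y) :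
    ∃ l, InvL C l ∧ (C.v a * l ∈ zpowers (y * C.v a) ∨ l ∈ zpowers (y * C.v a)) := by
  have hvv := C.v_sq a
  obtain ⟨k, hk0, hk1, hk2⟩ := exists_half hy.sq hvv (by
    obtain ⟨g, rfl⟩ := hy
    intro h e
    exact hn (h * g) a (by rw [← e]; group))
  set j := (y * C.v a) ^ k with hj
  have hjm : j ∈ zpowers (y * C.v a) := ⟨k, by rw [hj]; simp⟩
  have c1 := comm_of_mem hy.sq hvv hjm hk1
  have c2 := comm_of_mem' hy.sq hvv hjm hk1
  obtain ⟨b, l, hl, hjl⟩ := C.cent a ha j c2.symm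
  have hll : l * l = 1 := by
    have h1 := C.v_comm b l hl
    calc l * l = (C.v b * C.v b) * (l * l) := by rw [C.v_sq, one_mul]
      _ = C.v b * (C.v b * l) * l := by group
      _ = C.v b * (l * C.v b) * l := by rw [h1]
      _ = C.v b * l * (C.v b * l) := by group
      _ = 1 := by rw [← hjl]; exact hk1
  by_cases hb : b = 0
  · subst hb
    rw [C.v_zero, one_mul] at hjl
    exact ⟨l, ⟨hl, hll, by rw [← hjl]; exact hk2⟩, Or.inr (by rw [← hjl]; exact hjm)⟩
  by_cases hl1 : l = 1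
  · exfalso
    subst hl1
    rw [mul_one] at hjl
    -- `y` commutes with `v b`
    rw [hjl] at c1
    obtain ⟨b1, l1, hl1, hy1⟩ := C.cent b hb y c1
    rw [hy1] at hy
    have hb1 := zc_VL hn hl1 hy
    subst hb1
    rw [C.v_zero, one_mul] at hy1
    -- `y t` has order 2
    have hyt := C.v_comm a l1 hl1
    have hsq : (y * C.v a) * (y * C.v a) = 1 := by
      rw [hy1]
      calc l1 * C.v a * (l1 * C.v a) = l1 * (C.v a * l1) * C.v a := by group
        _ = l1 * (l1 * C.v a) * C.v a := by rw [hyt]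
        _ = (l1 * l1) * (C.v a * C.v a) := by group
        _ = 1 := by
          rw [hvv, mul_one]
          have := hy.sq
          rwa [C.v_zero, one_mul] at this
    have hne : y * C.v a ≠ 1 := by
      intro e
      have e2 : y = C.v a := by
        have := eq_inv_of_mul_eq_one_left e
        rwa [C.v_inv] at this
      rw [e2] at hy1
      exact ha (C.v_notin a (by rw [hy1]; exact hl1))
    have := unique_inv hjm (mem_zpowers (y * C.v a)) hk1 hsq hk2 hne
    rw [hjl, hy1] at this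
    -- `v b = l1 v a`
    have h3 : C.v (b + a) = l1 := by
      rw [C.v_add, this, mul_assoc, hvv, mul_one]
    have h4 := C.v_notin _ (by rw [h3]; exact hl1)
    have h5 : l1 = 1 := by rw [← h3, h4, C.v_zero]
    rw [hy1, h5, one_mul] at hne
    rw [h5, C.v_zero, one_mul] at hy
    exact hy.ne_one rfl
  · have hL : InvL C l := ⟨hl, hll, hl1⟩
    obtain ⟨x, hx⟩ := exists_grow' hb hL
    have hxj : x * C.v b * x⁻¹ = j := by rw [hx, hjl]
    -- `x⁻¹ y x`, `x⁻¹ t x` commute with `v b`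
    have d1 : (x⁻¹ * y * x) * C.v b = C.v b * (x⁻¹ * y * x) := by
      calc (x⁻¹ * y * x) * C.v b = x⁻¹ * (y * (x * C.v b * x⁻¹)) * x := by group
        _ = x⁻¹ * ((x * C.v b * x⁻¹) * y) * x := by rw [hxj, c1]
        _ = C.v b * (x⁻¹ * y * x) := by group
    have d2 : (x⁻¹ * C.v a * x) * C.v b = C.v b * (x⁻¹ * C.v a * x) := by
      calc (x⁻¹ * C.v a * x) * C.v b = x⁻¹ * (C.v a * (x * C.v b * x⁻¹)) * x := by group
        _ = x⁻¹ * ((x * C.v b * x⁻¹) * C.v a) * x := by rw [hxj, c2]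
        _ = C.v b * (x⁻¹ * C.v a * x) := by group
    obtain ⟨b1, l1, hl1', hy1⟩ := C.cent b hb _ d1
    obtain ⟨b2, l2, hl2, hy2⟩ := C.cent b hb _ d2
    have hzy : ZC C (x⁻¹ * y * x) := by
      have := hy.conj x⁻¹
      rwa [inv_inv] at this
    rw [hy1] at hzy
    have hb1 := zc_VL hn hl1' hzy
    subst hb1
    rw [C.v_zero, one_mul] at hy1
    -- `(y t)^k = j`
    have hk : (l1 * (C.v b2 * l2)) ^ k = C.v b := by
      rw [← hy1, ← hy2]
      have e1 : x⁻¹ * y * x * (x⁻¹ * C.v a * x) = x⁻¹ * (y * C.v a) * x⁻¹⁻¹ := by group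
      rw [e1, conj_pow, ← hj, ← hxj]
      group
    have hcm : l1 * (C.v b2 * l2) = C.v b2 * (l1 * l2) := by
      rw [← mul_assoc, ← C.v_comm b2 l1 hl1', mul_assoc]
    rw [hcm, (show Commute (C.v b2) (l1 * l2) from C.v_comm b2 _ (mul_mem hl1' hl2)).mul_pow] at hk
    have hpow : (C.v b2) ^ k = 1 ∨ (C.v b2) ^ k = C.v b2 := by
      rcases Nat.even_or_odd' k with ⟨m, hm | hm⟩
      · left; rw [hm, pow_mul, pow_two, C.v_sq, one_pow]
      · right; rw [hm, pow_succ, pow_mul, pow_two, C.v_sq, one_pow, one_mul]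
    have hb2 : b2 = b := by
      rcases hpow with e | e
      · rw [e, one_mul] at hk
        exact absurd (C.v_notin b (by rw [← hk]; exact pow_mem (mul_mem hl1' hl2) k)) hb
      · rw [e] at hk
        exact (C.vl_inj (pow_mem (mul_mem hl1' hl2) k) (one_mem _) (by rw [hk, mul_one])).1
    subst hb2
    -- `t j` is conjugate to `l2`
    have htj : x⁻¹ * (C.v a * j) * x = l2 := by
      calc x⁻¹ * (C.v a * j) * x = (x⁻¹ * C.v a * x) * (x⁻¹ * j * x) := by group
        _ = C.v b2 * l2 * C.v b2 := by rw [hy2, ← hxj]; group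
        _ = C.v b2 * (l2 * C.v b2) := by group
        _ = C.v b2 * (C.v b2 * l2) := by rw [C.v_comm b2 l2 hl2]
        _ = l2 := by rw [← mul_assoc, C.v_sq, one_mul]
    have htj' : C.v a * j = C.v (a + b2) * l := by rw [hjl, C.v_add, mul_assoc]
    have hl2l2 : l2 * l2 = 1 := by
      rw [← htj]
      calc x⁻¹ * (C.v a * j) * x * (x⁻¹ * (C.v a * j) * x) = x⁻¹ * (C.v a * (j * C.v a) * j) * x := by group
        _ = x⁻¹ * (C.v a * (C.v a * j) * j) * x := by rw [c2]
        _ = x⁻¹ * ((C.v a * C.v a) * (j * j)) * x := by group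
        _ = 1 := by rw [hvv, hk1]; group
    have hl21 : l2 ≠ 1 := by
      intro e
      rw [e] at htj
      have h6 : C.v a * j = 1 := by
        calc C.v a * j = x * (x⁻¹ * (C.v a * j) * x) * x⁻¹ := by group
          _ = 1 := by rw [htj]; group
      rw [htj'] at h6
      have := (C.vl_inj hl (one_mem _) (show C.v (a + b2) * l = C.v 0 * 1 by rw [h6, C.v_zero, one_mul])).2
      exact hl1 this
    have hz2 : ZC C (C.v a * j) := by
      have h7 := (InvL.zc (⟨hl2, hl2l2, hl21⟩ : InvL C l2)).conj x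
      rw [← htj] at h7
      have e : x * (x⁻¹ * (C.v a * j) * x) * x⁻¹ = C.v a * j := by group
      rwa [e] at h7
    rw [htj'] at hz2
    have hab := zc_VL hn hl hz2
    have hab' : a = b2 := by
      revert hab
      clear * -
      revert a b2
      decide
    subst hab'
    exact ⟨l, hL, Or.inl (by rw [← hjl]; exact hjm)⟩

omit [Finite G] in
/-- the centraliser of `z 1` in `L` -/
theorem mem_T_of_comm {l : G} (hl : l ∈ C.L) (h : l * C.z 1 = C.z 1 * l) : ∃ a b, l = C.U a b := by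
  have h1 := C.R.mem_T_of_comm_Z (C.R.u_zero_mem_Z 1) (C.R.u_ne_one one_ne_zero) (g := ⟨l, hl⟩) (Subtype.ext h)
  obtain ⟨a, b, hab⟩ := h1
  exact ⟨a, b, congrArg Subtype.val hab⟩

variable (C)

omit [Finite G] in
theorem card_L : Nat.card C.L = 29120 := card_J C.R

theorem card_InvL : Nat.card {l : G // InvL C l} = 455 := by
  classical
  let f : C.L → {l : G // InvL C l} := fun m => ⟨m * C.z 1 * (m : G)⁻¹, z_one_inv.conj m.2⟩
  have hfib : ∀ x, Nat.card {m // f m = x} = 64 := by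
    rintro ⟨x, hx⟩
    obtain ⟨m0, hm0, rfl⟩ := exists_conj_L hx
    have h64 : Nat.card (K8 × K8) = 64 := by
      rw [Nat.card_prod, K8.natCard]
    rw [← h64]
    symm
    refine Nat.card_congr (Equiv.ofBijective
      (fun p : K8 × K8 => (⟨⟨m0 * C.U p.1 p.2, mul_mem hm0 (C.U_mem _ _)⟩, ?_⟩ :
        {m // f m = ⟨m0 * C.z 1 * m0⁻¹, hx⟩})) ⟨?_, ?_⟩)
    · apply Subtype.ext
      show m0 * C.U p.1 p.2 * C.z 1 * (m0 * C.U p.1 p.2)⁻¹ = m0 * C.z 1 * m0⁻¹
      calc m0 * C.U p.1 p.2 * C.z 1 * (m0 * C.U p.1 p.2)⁻¹ = m0 * (C.U p.1 p.2 * C.z 1) * (C.U p.1 p.2)⁻¹ * m0⁻¹ := by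
            group
        _ = m0 * (C.z 1 * C.U p.1 p.2) * (C.U p.1 p.2)⁻¹ * m0⁻¹ := by rw [C.U_z_comm]
        _ = _ := by group
    · intro p q h
      have h1 : m0 * C.U p.1 p.2 = m0 * C.U q.1 q.2 := congrArg (fun m => ((m.1 : C.L) : G)) h
      have h2 := C.U_inj (mul_left_cancel h1)
      exact Prod.ext h2.1 h2.2
    · rintro ⟨⟨m, hm⟩, h⟩
      have h1 : m * C.z 1 * m⁻¹ = m0 * C.z 1 * m0⁻¹ := congrArg Subtype.val h
      have h2 : (m0⁻¹ * m) * C.z 1 = C.z 1 * (m0⁻¹ * m) := by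
        calc (m0⁻¹ * m) * C.z 1 = m0⁻¹ * (m * C.z 1 * m⁻¹) * m := by group
          _ = m0⁻¹ * (m0 * C.z 1 * m0⁻¹) * m := by rw [h1]
          _ = _ := by group
      obtain ⟨a, b, hab⟩ := mem_T_of_comm (mul_mem (inv_mem hm0) hm) h2
      refine ⟨(a, b), ?_⟩
      apply Subtype.ext
      apply Subtype.ext
      show m0 * C.U a b = m
      rw [← hab]
      group
  have h1 := Nat.card_congr (Equiv.sigmaFiberEquiv f)
  have : Fintype {l : G // InvL C l} := Fintype.ofFinite _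
  rw [Nat.card_sigma, card_L] at h1
  simp only [hfib, Finset.sum_const, smul_eq_mul, Finset.card_univ] at h1
  rw [Nat.card_eq_fintype_card]
  omega

/-- involutions `l` of `L` such that `l z` has odd order -/
theorem card_odd : Nat.card {l : G // InvL C l ∧ Odd (orderOf (l * C.z 1))} = 449 := by
  classical
  have hcomm : ∀ l, InvL C l → ¬ Odd (orderOf (l * C.z 1)) → l * C.z 1 = C.z 1 * l := by
    intro l hl ho
    have hz := C.z_sq 1
    rw [Nat.not_odd_iff_even] at ho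
    obtain ⟨k, hk⟩ := ho
    have hpos : 0 < orderOf (l * C.z 1) := orderOf_pos _
    set j := (l * C.z 1) ^ k with hj
    have hjj : j * j = 1 := by rw [hj, ← pow_add, ← hk, pow_orderOf_eq_one]
    have hj1 : j ≠ 1 := by
      intro e
      have := Nat.le_of_dvd (by omega) (orderOf_dvd_of_pow_eq_one e)
      omega
    have hjm : j ∈ zpowers (l * C.z 1) := ⟨k, by rw [hj]; simp⟩
    have c1 := comm_of_mem hl.2.1 hz hjm hjj
    have c2 := comm_of_mem' hl.2.1 hz hjm hjj
    have hjL : j ∈ C.L := pow_mem (mul_mem hl.1 (C.z_mem 1)) k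
    obtain ⟨a, b, hab⟩ := mem_T_of_comm hjL c2.symm
    have hT : (⟨j, hjL⟩ : C.L) ∈ C.R.T := ⟨a, b, Subtype.ext hab⟩
    have h3 := C.R.mem_T_of_comm hT (fun h => hj1 (congrArg Subtype.val h)) (g := ⟨l, hl.1⟩) (Subtype.ext c1)
    obtain ⟨c, e, hce⟩ := h3
    have hce' : l = C.U c e := congrArg Subtype.val hce
    rw [hce', C.U_z_comm]
  have hodd_of : ∀ l, InvL C l → l * C.z 1 = C.z 1 * l → Odd (orderOf (l * C.z 1)) → l = C.z 1 := by
    intro l hl hc ho
    have hz := C.z_sq 1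
    have h2 : (l * C.z 1) ^ 2 = 1 := by
      rw [pow_two]
      calc l * C.z 1 * (l * C.z 1) = l * (C.z 1 * l) * C.z 1 := by group
        _ = l * (l * C.z 1) * C.z 1 := by rw [hc]
        _ = (l * l) * (C.z 1 * C.z 1) := by group
        _ = 1 := by rw [hl.2.1, hz, one_mul]
    have h3 := orderOf_dvd_of_pow_eq_one h2
    have h4 : orderOf (l * C.z 1) = 1 := by
      rcases (Nat.dvd_prime Nat.prime_two).mp h3 with h | h
      · exact h
      · rw [h] at ho
        exact absurd ho (by decide)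
    have h5 := orderOf_eq_one_iff.mp h4
    rw [eq_inv_of_mul_eq_one_left h5, C.z_inv]
  -- the complement has six elements
  have h6 : Nat.card {l : G // InvL C l ∧ ¬ Odd (orderOf (l * C.z 1))} = 6 := by
    have hc : Nat.card {b : K8 // b ≠ 0 ∧ b ≠ 1} = 6 := by
      rw [Nat.card_eq_fintype_card]
      decide +kernel
    rw [← hc]
    symm
    refine Nat.card_congr (Equiv.ofBijective (fun b : {b : K8 // b ≠ 0 ∧ b ≠ 1} =>
      (⟨C.z b.1, ?_⟩ : {l : G // InvL C l ∧ ¬ Odd (orderOf (l * C.z 1))})) ⟨?_, ?_⟩)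
    · have hb : InvL C (C.z b.1) := ⟨C.z_mem _, C.z_sq _, fun h => b.2.1 (C.z_eq_one h)⟩
      refine ⟨hb, fun ho => b.2.2 ?_⟩
      exact C.z_inj (hodd_of _ hb (C.z_comm _ _) ho)
    · intro b c h
      have h' := congrArg Subtype.val h
      exact Subtype.ext (C.z_inj (show C.z b.1 = C.z c.1 from h'))
    · rintro ⟨l, hl, ho⟩
      obtain ⟨a, b, hab⟩ := mem_T_of_comm hl.1 (hcomm l hl ho)
      have ha : a = 0 := by
        have h1 := hl.2.1
        rw [hab, C.U_sq] at h1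
        have h2 := C.z_eq_one h1
        exact pow_eq_zero_iff (by norm_num) |>.mp h2
      subst ha
      have hb0 : b ≠ 0 := by
        rintro rfl
        exact hl.2.2 (by rw [hab, C.U_zero])
      have hb1 : b ≠ 1 := by
        rintro rfl
        apply ho
        rw [hab, ← C.z_eq, C.z_sq, orderOf_one]
        exact odd_one
      exact ⟨⟨b, hb0, hb1⟩, Subtype.ext hab.symm⟩
  have hsum : Nat.card {l : G // InvL C l} = Nat.card {l : G // InvL C l ∧ Odd (orderOf (l * C.z 1))} +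
      Nat.card {l : G // InvL C l ∧ ¬ Odd (orderOf (l * C.z 1))} := by
    rw [← Nat.card_sum]
    exact Nat.card_congr
      { toFun := fun l => if h : Odd (orderOf (l.1 * C.z 1)) then Sum.inl ⟨l.1, l.2, h⟩ else Sum.inr ⟨l.1, l.2, h⟩
        invFun := fun s => Sum.elim (fun l => ⟨l.1, l.2.1⟩) (fun l => ⟨l.1, l.2.1⟩) s
        left_inv := fun l => by
          by_cases h : Odd (orderOf (l.1 * C.z 1))
          · simp [h]
          · simp [h]
        right_inv := fun s => by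
          rcases s with ⟨l, h1, h2⟩ | ⟨l, h1, h2⟩
          · simp [h2]
          · simp [h2] }
  rw [card_InvL, h6] at hsum
  omega

/-- `y` is a conjugate of `z` with `i ∈ ⟨y v⟩` -/
def AS (a : A4) (i y : G) : Prop := ZC C y ∧ i ∈ zpowers (y * C.v a)

variable {C}

theorem card_AS_tz (hn : NoV C) {a : A4} (ha : a ≠ 0) : Nat.card {y : G // AS C a (C.v a * C.z 1) y} = 449 := by
  classical
  obtain ⟨x, hxz, hxa⟩ := exists_grow (C := C) ha
  rw [← card_odd C]
  symm
  have hxt : x⁻¹ * C.v a * x = C.v a * C.z 1 := by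
    have h1 : C.v a = C.v a * C.z 1 * C.z 1 := by rw [mul_assoc, C.z_sq, mul_one]
    calc x⁻¹ * C.v a * x = x⁻¹ * (C.v a * C.z 1 * C.z 1) * x := by rw [← h1]
      _ = x⁻¹ * ((x * C.v a * x⁻¹) * C.z 1) * x := by rw [hxa]
      _ = C.v a * (x⁻¹ * (C.z 1 * x)) := by group
      _ = C.v a * (x⁻¹ * (x * C.z 1)) := by rw [hxz]
      _ = _ := by group
  -- `x l x⁻¹ v a = x (v a (l z)) x⁻¹`
  have hprod : ∀ l ∈ C.L, x * l * x⁻¹ * C.v a = x * (C.v a * (l * C.z 1)) * x⁻¹ := by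
    intro l hl
    calc x * l * x⁻¹ * C.v a = x * (l * (x⁻¹ * C.v a * x)) * x⁻¹ := by group
      _ = x * ((l * C.v a) * C.z 1) * x⁻¹ := by rw [hxt]; group
      _ = x * ((C.v a * l) * C.z 1) * x⁻¹ := by rw [C.v_comm a l hl]
      _ = _ := by group
  refine Nat.card_congr (Equiv.ofBijective (fun l : {l : G // InvL C l ∧ Odd (orderOf (l * C.z 1))} =>
      (⟨x * l.1 * x⁻¹, l.2.1.zc.conj x, ?_⟩ : {y : G // AS C a (C.v a * C.z 1) y})) ⟨?_, ?_⟩)
  · obtain ⟨l, hl, ho⟩ := l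
    show C.v a * C.z 1 ∈ zpowers (x * l * x⁻¹ * C.v a)
    rw [hprod l hl.1]
    refine mem_zpowers_iff.mpr ⟨(orderOf (l * C.z 1) : ℤ), ?_⟩
    rw [zpow_natCast, conj_pow, (show Commute (C.v a) (l * C.z 1) from
      C.v_comm a _ (mul_mem hl.1 (C.z_mem 1))).mul_pow, pow_orderOf_eq_one, mul_one, ← hxa]
    obtain ⟨m, hm⟩ := ho
    rw [hm, pow_succ, pow_mul, pow_two, C.v_sq, one_pow, one_mul]
  · intro l m h
    have h1 : x * l.1 * x⁻¹ = x * m.1 * x⁻¹ := congrArg Subtype.val h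
    exact Subtype.ext (mul_left_cancel (mul_right_cancel h1))
  · rintro ⟨y, hy, hj⟩
    have hjj : (C.v a * C.z 1) * (C.v a * C.z 1) = 1 := by
      calc C.v a * C.z 1 * (C.v a * C.z 1) = C.v a * (C.z 1 * C.v a) * C.z 1 := by group
        _ = C.v a * (C.v a * C.z 1) * C.z 1 := by rw [C.v_z_comm]
        _ = (C.v a * C.v a) * (C.z 1 * C.z 1) := by group
        _ = 1 := by rw [C.v_sq, C.z_sq, one_mul]
    have c1 := comm_of_mem hy.sq (C.v_sq a) hj hjj
    rw [← hxa] at c1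
    have d1 : (x⁻¹ * y * x) * C.v a = C.v a * (x⁻¹ * y * x) := by
      calc (x⁻¹ * y * x) * C.v a = x⁻¹ * (y * (x * C.v a * x⁻¹)) * x := by group
        _ = x⁻¹ * ((x * C.v a * x⁻¹) * y) * x := by rw [c1]
        _ = C.v a * (x⁻¹ * y * x) := by group
    obtain ⟨b1, l1, hl1, hy1⟩ := C.cent a ha _ d1
    have hzy : ZC C (x⁻¹ * y * x) := by
      have := hy.conj x⁻¹
      rwa [inv_inv] at this
    rw [hy1] at hzy
    have hb1 := zc_VL hn hl1 hzy
    subst hb1
    rw [C.v_zero, one_mul] at hy1 hzy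
    have hL : InvL C l1 := ⟨hl1, hzy.sq, hzy.ne_one⟩
    have hyx : y = x * l1 * x⁻¹ := by rw [← hy1]; group
    rw [hyx, hprod l1 hl1, ← hxa] at hj
    obtain ⟨m, hm⟩ := mem_zpowers_iff.mp hj
    rw [conj_zpow] at hm
    have hm' := mul_left_cancel (mul_right_cancel hm)
    rw [(show Commute (C.v a) (l1 * C.z 1) from C.v_comm a _ (mul_mem hl1 (C.z_mem 1))).mul_zpow] at hm'
    have hpow : (Even m ∧ (C.v a) ^ m = 1) ∨ (Odd m ∧ (C.v a) ^ m = C.v a) := by
      rcases Int.even_or_odd' m with ⟨r, hr | hr⟩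
      · left
        refine ⟨⟨r, by omega⟩, ?_⟩
        rw [hr, zpow_mul, zpow_two, C.v_sq, one_zpow]
      · right
        refine ⟨⟨r, hr⟩, ?_⟩
        rw [hr, zpow_add, zpow_mul, zpow_two, C.v_sq, one_zpow, one_mul, zpow_one]
    rcases hpow with ⟨-, e⟩ | ⟨hodd, e⟩
    · rw [e, one_mul] at hm'
      exact absurd (C.v_notin a (by rw [← hm']; exact zpow_mem (mul_mem hl1 (C.z_mem 1)) m)) ha
    · rw [e] at hm'
      have h7 : (l1 * C.z 1) ^ m = 1 := by simpa using hm'
      have h8 : (orderOf (l1 * C.z 1) : ℤ) ∣ m := orderOf_dvd_iff_zpow_eq_one.mpr h7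
      have h9 : Odd (orderOf (l1 * C.z 1)) := by
        by_contra h
        rw [Nat.not_odd_iff_even] at h
        obtain ⟨r, hr⟩ := h
        obtain ⟨q, hq⟩ := h8
        have h10 : Even m := ⟨r * q, by rw [hq, hr]; push_cast; ring⟩
        exact (Int.not_even_iff_odd.mpr hodd) h10
      exact ⟨⟨l1, hL, h9⟩, Subtype.ext hyx.symm⟩

omit [Finite G] in
theorem card_AS_conj {a : A4} (i : G) {m : G} (hm : m ∈ C.L) :
    Nat.card {y : G // AS C a (m * i * m⁻¹) y} = Nat.card {y : G // AS C a i y} := by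
  symm
  have key : ∀ (m : G), m ∈ C.L → ∀ i y, AS C a i y → AS C a (m * i * m⁻¹) (m * y * m⁻¹) := by
    rintro m hm i y ⟨h1, h2⟩
    refine ⟨h1.conj m, ?_⟩
    have e : m * y * m⁻¹ * C.v a = m * (y * C.v a) * m⁻¹ := by
      have hc := C.v_comm a m⁻¹ (inv_mem hm)
      calc m * y * m⁻¹ * C.v a = m * y * (m⁻¹ * C.v a) := by group
        _ = m * y * (C.v a * m⁻¹) := by rw [hc]
        _ = _ := by group
    rw [e]
    obtain ⟨n, hn⟩ := mem_zpowers_iff.mp h2
    exact mem_zpowers_iff.mpr ⟨n, by rw [conj_zpow, hn]⟩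
  refine Nat.card_congr
    { toFun := fun y => ⟨m * y.1 * m⁻¹, key m hm i y.1 y.2⟩
      invFun := fun y => ⟨m⁻¹ * y.1 * m, ?_⟩
      left_inv := fun y => Subtype.ext (by show m⁻¹ * (m * y.1 * m⁻¹) * m = y.1; group)
      right_inv := fun y => Subtype.ext (by show m * (m⁻¹ * y.1 * m) * m⁻¹ = y.1; group) }
  have := key m⁻¹ (inv_mem hm) _ _ y.2
  have e : m⁻¹ * (m * i * m⁻¹) * m⁻¹⁻¹ = i := by group
  rw [e, inv_inv] at this
  exact this

/-- THE COUNT -/
theorem card_conj (hn : NoV C) {a : A4} (ha : a ≠ 0) :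
    Nat.card {y : G // ZC C y} = 455 * (449 + Nat.card {y : G // AS C a (C.z 1) y}) := by
  classical
  have h1 : ∀ l : {l : G // InvL C l}, Nat.card ({y : G // AS C a (C.v a * l.1) y} ⊕ {y : G // AS C a l.1 y}) =
      449 + Nat.card {y : G // AS C a (C.z 1) y} := by
    rintro ⟨l, hl⟩
    obtain ⟨m, hm, rfl⟩ := exists_conj_L hl
    have e : C.v a * (m * C.z 1 * m⁻¹) = m * (C.v a * C.z 1) * m⁻¹ := by
      rw [← mul_assoc, ← mul_assoc, C.v_comm a m hm]
      group
    rw [Nat.card_sum]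
    show Nat.card {y : G // AS C a (C.v a * (m * C.z 1 * m⁻¹)) y} + Nat.card {y : G // AS C a (m * C.z 1 * m⁻¹) y} = _
    rw [e, card_AS_conj _ hm, card_AS_conj _ hm, card_AS_tz hn ha]
  let F : (Σ l : {l : G // InvL C l}, ({y : G // AS C a (C.v a * l.1) y} ⊕ {y : G // AS C a l.1 y})) → {y : G // ZC C y} :=
    fun s => Sum.elim (fun y => ⟨y.1, y.2.1⟩) (fun y => ⟨y.1, y.2.1⟩) s.2
  have hsqt : ∀ l : G, InvL C l → (C.v a * l) * (C.v a * l) = 1 := by
    intro l hl
    calc C.v a * l * (C.v a * l) = C.v a * (l * C.v a) * l := by group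
      _ = C.v a * (C.v a * l) * l := by rw [C.v_comm a l hl.1]
      _ = (C.v a * C.v a) * (l * l) := by group
      _ = 1 := by rw [C.v_sq, hl.2.1, one_mul]
  have hnet : ∀ l : G, InvL C l → C.v a * l ≠ 1 := by
    intro l hl h
    have := (C.vl_inj hl.1 (one_mem _) (show C.v a * l = C.v 0 * 1 by rw [h, C.v_zero, one_mul])).2
    exact hl.2.2 this
  have hF : Function.Bijective F := by
    constructor
    · rintro ⟨⟨l, hl⟩, s⟩ ⟨⟨m, hm⟩, s'⟩ h
      rcases s with ⟨y, hy⟩ | ⟨y, hy⟩ <;> rcases s' with ⟨y', hy'⟩ | ⟨y', hy'⟩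
      · have hyy : y = y' := congrArg Subtype.val h
        subst hyy
        have h2 := unique_inv hy.2 hy'.2 (hsqt l hl) (hsqt m hm) (hnet l hl) (hnet m hm)
        have h3 : l = m := mul_left_cancel h2
        subst h3
        rfl
      · exfalso
        have hyy : y = y' := congrArg Subtype.val h
        subst hyy
        have h2 := unique_inv hy.2 hy'.2 (hsqt l hl) hm.2.1 (hnet l hl) hm.2.2
        exact ha (C.vl_inj hl.1 hm.1 (show C.v a * l = C.v 0 * m by rw [h2, C.v_zero, one_mul])).1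
      · exfalso
        have hyy : y = y' := congrArg Subtype.val h
        subst hyy
        have h2 := unique_inv hy'.2 hy.2 (hsqt m hm) hl.2.1 (hnet m hm) hl.2.2
        exact ha (C.vl_inj hm.1 hl.1 (show C.v a * m = C.v 0 * l by rw [h2, C.v_zero, one_mul])).1
      · have hyy : y = y' := congrArg Subtype.val h
        subst hyy
        have h3 : l = m := unique_inv hy.2 hy'.2 hl.2.1 hm.2.1 hl.2.2 hm.2.2
        subst h3
        rfl
    · rintro ⟨y, hy⟩
      obtain ⟨l, hl, h | h⟩ := exists_inv hn ha hy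
      · exact ⟨⟨⟨l, hl⟩, Sum.inl ⟨y, hy, h⟩⟩, rfl⟩
      · exact ⟨⟨⟨l, hl⟩, Sum.inr ⟨y, hy, h⟩⟩, rfl⟩
  have h2 := Nat.card_congr (Equiv.ofBijective F hF)
  have : Fintype {l : G // InvL C l} := Fintype.ofFinite _
  rw [← h2, Nat.card_sigma]
  simp only [h1, Finset.sum_const, smul_eq_mul, Finset.card_univ]
  rw [← Nat.card_eq_fintype_card, card_InvL]

/-- the order of `G` -/
theorem card_G (hn : NoV C) {a : A4} (ha : a ≠ 0) :
    Nat.card G = 455 * (449 + Nat.card {y : G // AS C a (C.z 1) y}) * Nat.card (centralizer ({C.z 1} : Set G)) := by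
  classical
  rw [← card_conj hn ha]
  let f : G → {y : G // ZC C y} := fun g => ⟨g * C.z 1 * g⁻¹, g, rfl⟩
  have hfib : ∀ x, Nat.card {g // f g = x} = Nat.card (centralizer ({C.z 1} : Set G)) := by
    rintro ⟨x, k, rfl⟩
    refine Nat.card_congr ⟨fun g => ⟨k⁻¹ * g.1, ?_⟩, fun c => ⟨k * c.1, ?_⟩, fun g => ?_, fun c => ?_⟩
    · have h1 : g.1 * C.z 1 * g.1⁻¹ = k * C.z 1 * k⁻¹ := congrArg Subtype.val g.2
      rw [mem_centralizer_singleton_iff]
      calc k⁻¹ * g.1 * C.z 1 = k⁻¹ * (g.1 * C.z 1 * g.1⁻¹) * g.1 := by group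
        _ = k⁻¹ * (k * C.z 1 * k⁻¹) * g.1 := by rw [h1]
        _ = C.z 1 * (k⁻¹ * g.1) := by group
    · have h1 := mem_centralizer_singleton_iff.mp c.2
      apply Subtype.ext
      show k * c.1 * C.z 1 * (k * c.1)⁻¹ = k * C.z 1 * k⁻¹
      calc k * c.1 * C.z 1 * (k * c.1)⁻¹ = k * (c.1 * C.z 1) * c.1⁻¹ * k⁻¹ := by group
        _ = k * (C.z 1 * c.1) * c.1⁻¹ * k⁻¹ := by rw [h1]
        _ = _ := by group
    · apply Subtype.ext
      show k * (k⁻¹ * g.1) = g.1
      group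
    · apply Subtype.ext
      show k⁻¹ * (k * c.1) = c.1
      group
  have h1 := Nat.card_congr (Equiv.sigmaFiberEquiv f)
  have : Fintype {y : G // ZC C y} := Fintype.ofFinite _
  rw [Nat.card_sigma] at h1
  simp only [hfib, Finset.sum_const, smul_eq_mul, Finset.card_univ] at h1
  rw [Nat.card_eq_fintype_card (α := {y : G // ZC C y})]
  exact h1.symm

end count

end Cfsg.Agent.RuB.Count
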