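import Mathlib
import Cfsg.Agent.ThreePrime.SzAut

/-!
# Automorphisms of `Sz(F)` fixing the centre of a Sylow 2-subgroup pointwise
-/

set_option autoImplicit false

namespace Cfsg.Agent.RuB.AutFix

open Cfsg.Agent.ThreePrime

variable {J : Type*} [Group J] {F : Type*} [Field F]

theorem mem_T_of_comm (R : SzRel.Rel J F) {x : J} {c : F} (hc : c ≠ 0) (h : x * R.u 0 c = R.u 0 c * x) : x ∈ R.T := by
  have h1 : x * R.u 0 c * x⁻¹ = R.u 0 c := by rw [h, mul_inv_cancel_right]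
  have h2 : x * R.u 0 c * x⁻¹ ∈ R.T := by rw [h1]; exact R.u_mem 0 c
  obtain ⟨a, b, k, hk⟩ := R.exists_ud (R.u_mem 0 c) (R.u_ne_one hc) h2
  have h3 : R.d k * R.u 0 c * (R.d k)⁻¹ = R.u 0 c := by
    have h4 : x * R.u 0 c * x⁻¹ = R.u a b * (R.d k * R.u 0 c * (R.d k)⁻¹) * (R.u a b)⁻¹ := by
      rw [hk]; group
    rw [R.conj_d, zero_mul, zero_mul, R.conj_u, h1] at h4
    have h5 := (R.u_inj h4).2
    rw [R.conj_d, zero_mul, zero_mul]
    congr 1
    rw [map_zero, mul_zero, zero_mul] at h5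
    linear_combination -h5
  rcases R.fpf h3 with h4 | ⟨-, h4⟩
  · rw [hk, h4, R.d_one, mul_one]
    exact R.u_mem a b
  · exact absurd h4 hc

theorem comm_u0 (R : SzRel.Rel J F) (a b c : F) : R.u a b * R.u 0 c = R.u 0 c * R.u a b := by
  rw [R.comm_iff, map_zero, mul_zero, zero_mul]

/-- an automorphism fixing the `u 0 b` is the conjugation with some `u a b` -/
theorem eq_conj (R : SzRel.Rel J F) (h8 : 8 ≤ Nat.card F) (hfin : Finite F) (ψ : MulAut J)
    (hz : ∀ b, ψ (R.u 0 b) = R.u 0 b) : ∃ a b : F, ∀ x, ψ x = R.u a b * x * (R.u a b)⁻¹ := by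
  have hT : ∀ x, ψ x ∈ R.T ↔ x ∈ R.T := by
    intro x
    constructor
    · rintro ⟨a, b, h⟩
      apply mem_T_of_comm R one_ne_zero
      apply ψ.injective
      rw [map_mul, map_mul, hz, h, comm_u0]
    · rintro ⟨a, b, rfl⟩
      apply mem_T_of_comm R one_ne_zero
      have := congrArg ψ (comm_u0 R a b 1)
      rwa [map_mul, map_mul, hz] at this
  have hw : ψ R.w ∉ Subgroup.normalizer (R.T : Set J) := by
    intro h
    have h1 : ψ R.w * R.u 0 1 * (ψ R.w)⁻¹ ∈ R.T := (Subgroup.mem_normalizer_iff.1 h _).1 (R.u_mem 0 1)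
    have h2 : ψ (R.w * R.u 0 1 * R.w⁻¹) ∈ R.T := by rwa [map_mul, map_mul, map_inv, hz]
    exact R.w_not_mem_normalizer (R.ti (R.u_mem 0 1) (R.u_ne_one one_ne_zero) ((hT _).1 h2))
  obtain ⟨a, b, c, e, k, hψw⟩ : ∃ a b c e k, ψ R.w = R.u a b * R.w * (R.u c e * R.d k) := by
    rcases R.bruhat (ψ R.w) with ⟨a, b, k, h⟩ | h
    · exact absurd (h ▸ R.ud_mem_normalizer a b k) hw
    · exact h
  -- the adjusted automorphism
  let φ : MulAut J := MulAut.conj (R.u a b)⁻¹ * ψ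
  have hφ : ∀ x, φ x = (R.u a b)⁻¹ * ψ x * R.u a b := by
    intro x
    show (R.u a b)⁻¹ * ψ x * ((R.u a b)⁻¹)⁻¹ = _
    rw [inv_inv]
  have hφz : ∀ b, φ (R.u 0 b) = R.u 0 b := by
    intro b'
    rw [hφ, hz, mul_assoc, ← comm_u0, ← mul_assoc, inv_mul_cancel, one_mul]
  have h1 : ∀ x ∈ R.T, φ x ∈ R.T := by
    intro x hx
    rw [hφ]
    exact mul_mem (mul_mem (inv_mem (R.u_mem a b)) ((hT x).2 hx)) (R.u_mem a b)
  have h2 : R.w * φ R.w ∈ Subgroup.normalizer (R.T : Set J) := by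
    have h3 : R.w * φ R.w = (R.w * R.w) * (R.u c e * R.d k) * R.u a b := by
      rw [hφ, hψw]; group
    rw [h3, R.w_mul_w, one_mul]
    refine mul_mem (R.ud_mem_normalizer c e k) ?_
    have := R.ud_mem_normalizer a b 1
    rwa [R.d_one, mul_one] at this
  have hκ : ∀ k : Fˣ, φ (R.d k) = R.d k := by
    intro k
    obtain ⟨l, hl⟩ := R.map_D h1 h2 k
    have h3 := congrArg φ (R.conj_d k 0 1)
    rw [map_mul, map_mul, map_inv, hl, hφz, R.conj_d, zero_mul, zero_mul, zero_mul, zero_mul, hφz] at h3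
    have h4 := (R.u_inj h3).2
    rw [one_mul, one_mul] at h4
    rw [hl]
    congr 1
    exact Units.ext (R.θ.injective h4)
  have hα : ∀ a : F, ∃ p : F × F, φ (R.u a 0) = R.u p.1 p.2 := by
    intro a
    obtain ⟨x, y, h⟩ := h1 _ (R.u_mem a 0)
    exact ⟨(x, y), h⟩
  choose αγ hα using hα
  let γ : F → F := fun a => (αγ a).2
  have hα4 : ∀ a, (αγ a).1 = a := by
    intro a
    have h3 := congrArg φ (R.u_mul_self a 0)
    rw [map_mul, hα, hφz, R.u_mul_self] at h3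
    have h4 := (R.u_inj h3).2
    -- x * θ x is injective
    by_cases ha : a = 0
    · rw [ha, zero_mul] at h4
      rcases mul_eq_zero.1 h4 with h5 | h5
      · rw [ha]; exact h5
      · rw [ha]; exact (map_eq_zero R.θ).1 h5
    · have h5 : (αγ a).1 ≠ 0 := by
        intro h5
        rw [h5, zero_mul] at h4
        rcases mul_eq_zero.1 h4.symm with h6 | h6
        · exact ha h6
        · exact ha ((map_eq_zero R.θ).1 h6)
      have h6 := congrArg R.θ h4
      rw [map_mul, map_mul, R.sq, R.sq] at h6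
      -- θx x² = θa a²,  xθx = aθa
      have h7 : R.θ (αγ a).1 ≠ 0 := fun h => h5 ((map_eq_zero R.θ).1 h)
      have h8 : R.θ a ≠ 0 := fun h => ha ((map_eq_zero R.θ).1 h)
      have h9 : (αγ a).1 * (a * R.θ a) = a * (a * R.θ a) := by
        rw [← h4]
        have : (αγ a).1 * ((αγ a).1 * R.θ (αγ a).1) = R.θ (αγ a).1 * (αγ a).1 ^ 2 := by ring
        rw [this, h6, h4]; ring
      exact mul_right_cancel₀ (mul_ne_zero ha h8) h9
  have hα : ∀ a, φ (R.u a 0) = R.u a (γ a) := by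
    intro a
    rw [hα a, hα4]
  have hγd : ∀ (a : F) (k : Fˣ), γ (a * k ^ 2 * (R.θ k)⁻¹) = γ a * R.θ k := by
    intro a k
    have h3 := congrArg φ (R.conj_d k a 0)
    rw [map_mul, map_mul, map_inv, hκ, hα, R.conj_d, zero_mul, hα] at h3
    exact (R.u_inj h3).2.symm
  have hu : ∀ a b : F, R.u a b = R.u a 0 * R.u 0 b := by
    intro a b
    rw [R.u_mul]
    congr 1
    · ring
    · rw [map_zero]; ring
  have hαβ : ∀ a b, φ (R.u a b) = R.u a (γ a + b) := by
    intro a b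
    rw [hu, map_mul, hα, hφz, R.u_mul]
    congr 1
    · ring
    · rw [map_zero]; ring
  have hγadd : ∀ a c, γ (a + c) = γ a + γ c := by
    intro a c
    have h3 := congrArg φ (R.u_mul a 0 c 0)
    rw [map_mul, hα, hα, hαβ, R.u_mul] at h3
    have := (R.u_inj h3).2
    linear_combination -this
  have hγ1 : ∀ x : F, γ x = γ 1 * (x * R.θ x) := by
    intro x
    by_cases hx : x = 0
    · subst hx
      have := hγadd 0 0
      rw [add_zero] at this
      rw [map_zero, mul_zero, mul_zero]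
      linear_combination -this
    · obtain ⟨k, hk⟩ := R.exists_sq_div (Units.mk0 x hx)
      rw [Units.val_mk0] at hk
      have h3 := hγd 1 k
      rw [one_mul, hk] at h3
      rw [h3]
      congr 1
      rw [← hk, map_mul, map_inv₀, map_pow, R.sq]
      have h5 := R.theta_ne_zero k
      have h6 := k.ne_zero
      field_simp
  have hγ2 : γ 1 = 0 := by
    obtain ⟨x, hx⟩ := R.exists_theta_ne h8
    have h3 := hγadd 1 x
    rw [hγ1 (1 + x), hγ1 x, map_add, map_one] at h3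
    have h4 : γ 1 * (x + R.θ x) = 0 := by linear_combination h3
    rcases mul_eq_zero.mp h4 with h5 | h5
    · exact h5
    · exfalso
      apply hx
      linear_combination h5 - x * R.two
  have hT1 : ∀ x ∈ R.T, φ x = x := by
    rintro _ ⟨a, b, rfl⟩
    rw [hαβ, hγ1, hγ2]
    congr 1
    ring
  have hφ1 : φ = 1 := R.eq_one_of_fix hT1 h2
  refine ⟨a, b, fun x => ?_⟩
  have h3 : φ x = x := by rw [hφ1]; rfl
  rw [hφ] at h3
  have h4 : ψ x = R.u a b * ((R.u a b)⁻¹ * ψ x * R.u a b) * (R.u a b)⁻¹ := by group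
  rw [h4, h3]

/-- an automorphism `ψ` with `ψ ^ 2 ^ n = 1` fixing `T` is inner, by an element of `T` -/
theorem eq_conj_of_pow [Fintype F] (R : SzRel.Rel J F) (hF : Fintype.card F = 8) (ψ : MulAut J)
    (hT : ∀ x ∈ R.T, ψ x ∈ R.T) {n : ℕ} (hn : ∀ a b : F, (MulAut.conj (R.u a b) * ψ) ^ 2 ^ n = 1) :
    ∃ a b : F, ∀ x, ψ x = R.u a b * x * (R.u a b)⁻¹ := by
  have hTi : ∀ x, ψ x ∈ R.T → x ∈ R.T := by
    intro x hx
    have hfin : Function.Surjective (fun y : R.T => (⟨ψ y, hT _ y.2⟩ : R.T)) := by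
      have : Finite R.T := by
        have : Function.Surjective (fun p : F × F => (⟨R.u p.1 p.2, R.u_mem _ _⟩ : R.T)) := by
          rintro ⟨_, a, b, rfl⟩
          exact ⟨(a, b), rfl⟩
        exact Finite.of_surjective _ this
      apply Finite.surjective_of_injective
      intro y z h
      exact Subtype.ext (ψ.injective (Subtype.ext_iff.1 h))
    obtain ⟨y, hy⟩ := hfin ⟨ψ x, hx⟩
    have := ψ.injective (Subtype.ext_iff.1 hy)
    rw [← this]
    exact y.2
  have hw : ψ R.w ∉ Subgroup.normalizer (R.T : Set J) := by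
    intro h
    have h0 : ψ (R.u 0 1) ∈ R.T := hT _ (R.u_mem 0 1)
    have h1 : ψ R.w * ψ (R.u 0 1) * (ψ R.w)⁻¹ ∈ R.T := (Subgroup.mem_normalizer_iff.1 h _).1 h0
    have h2 : ψ (R.w * R.u 0 1 * R.w⁻¹) ∈ R.T := by rwa [map_mul, map_mul, map_inv]
    exact R.w_not_mem_normalizer (R.ti (R.u_mem 0 1) (R.u_ne_one one_ne_zero) (hTi _ h2))
  obtain ⟨a, b, c, e, k, hψw⟩ : ∃ a b c e k, ψ R.w = R.u a b * R.w * (R.u c e * R.d k) := by
    rcases R.bruhat (ψ R.w) with ⟨a, b, k, h⟩ | h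
    · exact absurd (h ▸ R.ud_mem_normalizer a b k) hw
    · exact h
  let φ : MulAut J := MulAut.conj (R.u a b)⁻¹ * ψ
  have hφ : ∀ x, φ x = (R.u a b)⁻¹ * ψ x * R.u a b := by
    intro x
    show (R.u a b)⁻¹ * ψ x * ((R.u a b)⁻¹)⁻¹ = _
    rw [inv_inv]
  have h1 : ∀ x ∈ R.T, φ x ∈ R.T := by
    intro x hx
    rw [hφ]
    exact mul_mem (mul_mem (inv_mem (R.u_mem a b)) (hT x hx)) (R.u_mem a b)
  have h2 : R.w * φ R.w ∈ Subgroup.normalizer (R.T : Set J) := by
    have h3 : R.w * φ R.w = (R.w * R.w) * (R.u c e * R.d k) * R.u a b := by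
      rw [hφ, hψw]; group
    rw [h3, R.w_mul_w, one_mul]
    refine mul_mem (R.ud_mem_normalizer c e k) ?_
    have := R.ud_mem_normalizer a b 1
    rwa [R.d_one, mul_one] at this
  have hpow : φ ^ 2 ^ n = 1 := by
    have := hn a (b + a * R.θ a)
    rwa [← R.u_inv] at this
  have hφT := R.centralises (m := 1) le_rfl (by rw [hF]; norm_num) h1 h2 hpow
  have hφ1 : φ = 1 := R.eq_one_of_fix hφT h2
  refine ⟨a, b, fun x => ?_⟩
  have h3 : φ x = x := by rw [hφ1]; rfl
  rw [hφ] at h3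
  have h4 : ψ x = R.u a b * ((R.u a b)⁻¹ * ψ x * R.u a b) * (R.u a b)⁻¹ := by group
  rw [h4, h3]

end Cfsg.Agent.RuB.AutFix
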