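import Cfsg.Agent.RuB.Coord
import Cfsg.Agent.Blocks.SylowIn
import Mathlib.GroupTheory.Transfer
import Mathlib.GroupTheory.FixedPointFree

/-!
# `C_G(Z) = Q` in the Rudvalis analysis (helper143)

`N_{C(Z)}(Q) = Q`, `Q / Z` abelian: Burnside gives a normal complement of `Q / Z` in `C(Z) / Z`, on which the
four-group `V` acts without fixed points.
-/

set_option autoImplicit false

namespace Cfsg.Agent.RuB.CGZ

open Subgroup

section Abstract

variable {H : Type*} [Group H] [Finite H]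

/-- an automorphism of order two of a group of odd order without fixed points inverts -/
theorem inverts {N : Subgroup H} [N.Normal] {v : H} (hv : v * v = 1)
    (hf : ∀ x ∈ N, v * x = x * v → x = 1) : ∀ x ∈ N, v * x * v⁻¹ = x⁻¹ := by
  intro x hx
  have h1 : MonoidHom.FixedPointFree (MulAut.conjNormal (H := N) v).toMonoidHom := by
    intro g hg
    have h2 : ((MulAut.conjNormal (H := N) v) g : H) = g := congrArg Subtype.val hg
    rw [MulAut.conjNormal_apply, mul_inv_eq_iff_eq_mul] at h2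
    exact Subtype.ext (hf g g.2 h2)
  have h2 : Function.Involutive (MulAut.conjNormal (H := N) v).toMonoidHom := by
    intro g
    apply Subtype.ext
    show ((MulAut.conjNormal (H := N) v) ((MulAut.conjNormal (H := N) v) g) : H) = g
    rw [MulAut.conjNormal_apply, MulAut.conjNormal_apply]
    have : v * (v * (g : H) * v⁻¹) * v⁻¹ = (v * v) * g * (v * v)⁻¹ := by group
    rw [this, hv]; group
  have h3 := congrFun (h1.coe_eq_inv_of_involutive h2) ⟨x, hx⟩
  have h4 := congrArg Subtype.val h3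
  exact h4

/-- the abstract argument -/
theorem eq_top_of {Z Q : Subgroup H} (hZ : ∀ z ∈ Z, ∀ x, x * z = z * x) (hZQ : Z ≤ Q) (hQ : IsPGroup 2 Q)
    (hcomm : ∀ x ∈ Q, ∀ y ∈ Q, x * y * x⁻¹ * y⁻¹ ∈ Z) (hN : normalizer (Q : Set H) ≤ Q)
    (hZ2 : ∀ z ∈ Z, z * z = 1) {v w : H} (hv2 : v * v = 1) (hw2 : w * w = 1) (h1 : ∀ x, x * v = v * x → x ∈ Q) (h2 : ∀ x, x * w = w * x → x ∈ Q)
    (h3 : ∀ x, x * (v * w) = v * w * x → x ∈ Q) : Q = ⊤ := by
  have : Fact (Nat.Prime 2) := ⟨Nat.prime_two⟩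
  -- `Q` is a Sylow subgroup
  obtain ⟨P, hP⟩ := hQ.exists_le_sylow
  have hPQ : (P : Subgroup H) = Q :=
    Cfsg.Agent.Blocks.SylowIn.eq_of_normalizer_inf_le P.2 hP (inf_le_left.trans hN)
  have hZn : Z.Normal := ⟨fun z hz g => by
    rw [hZ z hz g, mul_inv_cancel_right]; exact hz⟩
  let π := QuotientGroup.mk' Z
  have hπ : Function.Surjective π := QuotientGroup.mk'_surjective Z
  have hker : ∀ x, π x = 1 ↔ x ∈ Z := fun x => QuotientGroup.eq_one_iff x
  let PP : Sylow 2 (H ⧸ Z) := P.mapSurjective hπ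
  have hPP : ∀ x : H, π x ∈ (PP : Subgroup (H ⧸ Z)) ↔ x ∈ Q := by
    intro x
    have : (PP : Subgroup (H ⧸ Z)) = Q.map π := by
      rw [Sylow.coe_mapSurjective, hPQ]
    rw [this]
    constructor
    · rintro ⟨y, hy, hyx⟩
      have h4 : y⁻¹ * x ∈ Z := by
        rw [← hker, map_mul, map_inv, hyx, inv_mul_cancel]
      have : x = y * (y⁻¹ * x) := by group
      rw [this]
      exact mul_mem hy (hZQ h4)
    · intro hx
      exact ⟨x, hx, rfl⟩
  have hburn : normalizer ((PP : Subgroup (H ⧸ Z)) : Set (H ⧸ Z)) ≤ centralizer ((PP : Subgroup (H ⧸ Z)) : Set (H ⧸ Z)) := by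
    intro g hg
    obtain ⟨g, rfl⟩ := hπ g
    have hgQ : g ∈ Q := by
      apply hN
      rw [mem_normalizer_iff] at hg ⊢
      intro x
      rw [← hPP, ← hPP, map_mul, map_mul, map_inv]
      exact hg (π x)
    rw [mem_centralizer_iff]
    intro y hy
    obtain ⟨y, rfl⟩ := hπ y
    have hyQ : y ∈ Q := (hPP y).1 hy
    have h4 := (hker _).2 (hcomm _ hyQ _ hgQ)
    rw [map_mul, map_mul, map_mul, map_inv, map_inv, mul_inv_eq_one, mul_inv_eq_iff_eq_mul] at h4
    exact h4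
  let N := (MonoidHom.transferSylow PP hburn).ker
  have hcompl : IsComplement' N (PP : Subgroup (H ⧸ Z)) := MonoidHom.ker_transferSylow_isComplement' PP hburn
  have hodd : ¬ 2 ∣ Nat.card N := MonoidHom.not_dvd_card_ker_transferSylow PP hburn
  have hoN : ∀ x ∈ N, ∀ n, x ^ (2 ^ n) = 1 → x = 1 := by
    intro x hx n hxn
    have h4 : orderOf x ∣ 2 ^ n := orderOf_dvd_of_pow_eq_one hxn
    have h5 : orderOf x ∣ Nat.card N := by
      have := orderOf_dvd_natCard (⟨x, hx⟩ : N)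
      rwa [Subgroup.orderOf_mk] at this
    have h6 : Nat.Coprime (2 ^ n) (Nat.card N) :=
      Nat.Coprime.pow_left _ ((Nat.Prime.coprime_iff_not_dvd Nat.prime_two).2 hodd)
    have h7 : orderOf x = 1 := Nat.eq_one_of_dvd_coprimes h6 h4 h5
    exact orderOf_eq_one_iff.1 h7
  -- no fixed points
  have key : ∀ u : H, (∀ x, x * u = u * x → x ∈ Q) → ∀ x ∈ N, π u * x = x * π u → x = 1 := by
    intro u hu x hx hxu
    obtain ⟨x, rfl⟩ := hπ x
    have h4 : u * x * u⁻¹ * x⁻¹ ∈ Z := by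
      rw [← hker, map_mul, map_mul, map_mul, map_inv, map_inv, hxu]
      group
    have h5 : x * x * u = u * (x * x) := by
      set z := u * x * u⁻¹ * x⁻¹ with hz
      have h6 : u * x = z * x * u := by rw [hz]; group
      calc x * x * u = (z * z) * (x * x * u) := by rw [hZ2 z h4, one_mul]
        _ = z * (z * x) * x * u := by group
        _ = z * (x * z) * x * u := by rw [hZ z h4 x]
        _ = (z * x) * (z * x * u) := by group
        _ = (z * x) * (u * x) := by rw [h6]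
        _ = (z * x * u) * x := by group
        _ = (u * x) * x := by rw [h6]
        _ = _ := by group
    have h6 : x * x ∈ Q := hu _ h5
    obtain ⟨n, hn⟩ := hQ ⟨x * x, h6⟩
    have h7 : (x * x) ^ (2 ^ n) = 1 := congrArg Subtype.val hn
    apply hoN _ hx (n + 1)
    rw [← map_pow, pow_succ', pow_mul, sq, h7, map_one]
  have hinv1 := inverts (N := N) (v := π v) (by rw [← map_mul, hv2, map_one]) (key v h1)
  have hinv2 := inverts (N := N) (v := π w) (by rw [← map_mul, hw2, map_one]) (key w h2)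
  have hNbot : N = ⊥ := by
    rw [eq_bot_iff]
    intro x hx
    rw [mem_bot]
    apply key (v * w) h3 x hx
    have h4 : π v * (π w * x * (π w)⁻¹) * (π v)⁻¹ = x := by
      rw [hinv2 x hx, hinv1 _ (inv_mem hx), inv_inv]
    rw [map_mul]
    calc π v * π w * x = (π v * (π w * x * (π w)⁻¹) * (π v)⁻¹) * (π v * π w) := by group
      _ = x * (π v * π w) := by rw [h4]
  have h4 := hcompl
  rw [hNbot, isComplement'_bot_left] at h4
  rw [eq_top_iff]
  intro x _
  rw [← hPP, h4]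
  exact mem_top _

end Abstract

variable {G : Type*} [Group G]

/-- the centraliser of `Z` -/
def cz (C : Core G) : Subgroup G where
  carrier := {g | ∀ b, g * C.z b = C.z b * g}
  mul_mem' := fun {x y} hx hy b => by rw [mul_assoc, hy b, ← mul_assoc, hx b, mul_assoc]
  one_mem' := fun b => by rw [one_mul, mul_one]
  inv_mem' := fun {x} hx b => by
    have := hx b
    rw [inv_mul_eq_iff_eq_mul, ← mul_assoc, this, mul_inv_cancel_right]

theorem QQ_le (C : Core G) : C.QQ ≤ cz C := by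
  rintro x ⟨c, hc⟩
  exact hc.1

/-- `Z` as a subgroup of its centraliser -/
def zz (C : Core G) : Subgroup (cz C) where
  carrier := {x | ∃ e, (x : G) = C.z e}
  mul_mem' := fun {x y} ⟨e, he⟩ ⟨f, hf⟩ => ⟨e + f, by rw [C.z_add, ← he, ← hf]; rfl⟩
  one_mem' := ⟨0, C.z_zero.symm⟩
  inv_mem' := fun {x} ⟨e, he⟩ => ⟨e, by
    have : ((x⁻¹ : cz C) : G) = (x : G)⁻¹ := rfl
    rw [this, he, C.z_inv]⟩

/-- `C_G(Z) = Q`, if `Q` is its own normaliser in `C_G(Z)` -/
theorem cent_Z [Finite G] (C : Core G) (K : Coord C)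
    (h : ∀ g : G, (∀ b, g * C.z b = C.z b * g) → (∀ x, x ∈ C.QQ ↔ g * x * g⁻¹ ∈ C.QQ) → g ∈ C.QQ) :
    ∀ g : G, (∀ b, g * C.z b = C.z b * g) → g ∈ C.QQ := by
  have hv : ∀ a : A4, C.v a ∈ cz C := fun a b => C.v_z_comm a b
  have hfix : ∀ a : A4, a ≠ 0 → ∀ x : cz C, x * ⟨C.v a, hv a⟩ = ⟨C.v a, hv a⟩ * x → x ∈ C.QQ.subgroupOf (cz C) := by
    intro a ha x hx
    rw [mem_subgroupOf]
    obtain ⟨b, a', e, he⟩ := Core.eq_of_comm ha (one_ne_zero) (congrArg Subtype.val hx) (x.2 1)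
    rw [he]
    exact Core.TT_le Core.mem_TT_of
  have htop : C.QQ.subgroupOf (cz C) = ⊤ := by
    refine eq_top_of (Z := zz C) (v := ⟨C.v (1, 0), hv _⟩) (w := ⟨C.v (0, 1), hv _⟩) ?_ ?_ ?_ ?_ ?_ ?_ ?_ ?_
      (hfix _ (by decide)) (hfix _ (by decide)) ?_
    · rintro ⟨z, hz⟩ ⟨e, he⟩ ⟨x, hx⟩
      apply Subtype.ext
      have he' : z = C.z e := he
      show x * z = z * x
      rw [he']
      exact hx e
    · rintro ⟨z, hz⟩ ⟨e, he⟩
      rw [mem_subgroupOf, he]
      exact Core.z_mem_QQ e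
    · rintro ⟨⟨x, hx⟩, hxQ⟩
      have hxQ' : x ∈ C.QQ := hxQ
      refine ⟨2, ?_⟩
      apply Subtype.ext
      apply Subtype.ext
      show x ^ (2 ^ 2) = 1
      have h1 := K.sq x hxQ'
      have : x ^ (2 ^ 2) = (x * x) * (x * x) := by
        rw [← sq, ← sq, ← pow_mul]; rfl
      rw [this, h1, C.z_sq]
    · rintro ⟨x, hx⟩ hxQ ⟨y, hy⟩ hyQ
      have hxQ' : x ∈ C.QQ := hxQ
      have hyQ' : y ∈ C.QQ := hyQ
      refine ⟨bf K.μ (K.π x) (K.π y), ?_⟩
      show x * y * x⁻¹ * y⁻¹ = _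
      rw [K.comm hxQ' hyQ']
      have h1 := hy (bf K.μ (K.π x) (K.π y))
      have h2 := hx (bf K.μ (K.π x) (K.π y))
      calc y * x * C.z (bf K.μ (K.π x) (K.π y)) * x⁻¹ * y⁻¹
          = y * (x * C.z (bf K.μ (K.π x) (K.π y))) * x⁻¹ * y⁻¹ := by group
        _ = (y * C.z (bf K.μ (K.π x) (K.π y))) * x * x⁻¹ * y⁻¹ := by rw [h2]; group
        _ = C.z (bf K.μ (K.π x) (K.π y)) := by rw [h1]; group
    · rintro ⟨g, hg⟩ hgn
      rw [mem_normalizer_iff] at hgn
      rw [mem_subgroupOf]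
      refine h g hg (fun x => ?_)
      constructor
      · intro hx
        exact (hgn ⟨x, QQ_le C hx⟩).1 hx
      · intro hx
        have hx' : x ∈ cz C := by
          have h1 : g * x * g⁻¹ ∈ cz C := QQ_le C hx
          have h2 : x = g⁻¹ * (g * x * g⁻¹) * g := by group
          rw [h2]
          exact mul_mem (mul_mem (inv_mem hg) h1) hg
        exact (hgn ⟨x, hx'⟩).2 hx
    · rintro ⟨z, hz⟩ ⟨e, he⟩
      apply Subtype.ext
      have he' : z = C.z e := he
      show z * z = 1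
      rw [he', C.z_sq]
    · exact Subtype.ext (C.v_sq _)
    · exact Subtype.ext (C.v_sq _)
    · intro x hx
      apply hfix ((1, 0) + (0, 1)) (by decide) x
      have : (⟨C.v ((1, 0) + (0, 1)), hv _⟩ : cz C) = ⟨C.v (1, 0), hv _⟩ * ⟨C.v (0, 1), hv _⟩ :=
        Subtype.ext (C.v_add _ _)
      rw [this]
      exact hx
  intro g hg
  have h1 : (⟨g, hg⟩ : cz C) ∈ C.QQ.subgroupOf (cz C) := by rw [htop]; exact mem_top _
  exact h1

end Cfsg.Agent.RuB.CGZ
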