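import Cfsg.Agent.RuB.QSylA
import Cfsg.Agent.RuB.CGZ

/-!
# Step 7 of the Sylow argument: `|G| = 455 * 449 * (2048 * e)` is impossible (RU, helper143)
-/

set_option autoImplicit false

namespace Cfsg.Agent.RuB.QSyl

open Subgroup

variable {G : Type*} [Group G]

/-- the finite checkD -/
theorem checkD : ∀ e ∈ [1, 3, 5, 7, 9, 15, 21], ∀ d ∈ Nat.divisors (455 * e), ∀ i < 12, d * 2 ^ i % 449 = 1 →
    d * 2 ^ i = 1 := by
  decide +kernel

theorem mem_listD {e : ℕ} (he : e ∣ 315) (he2 : e ≤ 24) : e ∈ [1, 3, 5, 7, 9, 15, 21] := by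
  have h : ∀ e ≤ 24, e ∣ 315 → e ∈ [1, 3, 5, 7, 9, 15, 21] := by decide +kernel
  exact h e he2 he

theorem eq_one_of_modD {e n : ℕ} (he : e ∣ 315) (he2 : e ≤ 24) (hn : n ∣ 455 * (2048 * e)) (hm : n % 449 = 1) : n = 1 := by
  have h1 : 455 * (2048 * e) = (455 * e) * 2 ^ 11 := by ring
  rw [h1, Nat.dvd_mul] at hn
  obtain ⟨d, y, hd, hy, rfl⟩ := hn
  rw [Nat.dvd_prime_pow Nat.prime_two] at hy
  obtain ⟨i, hi, rfl⟩ := hy
  have he0 : e ≠ 0 := by
    rintro rfl
    exact absurd he (by decide)
  exact checkD e (mem_listD he he2) d (Nat.mem_divisors.2 ⟨hd, by positivity⟩) i (by omega) hm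

theorem false_of_card [Finite G] (C : Core G) {e : ℕ} (he : e ∣ 315) (he2 : e ≤ 24)
    (hG : Nat.card G = 455 * 449 * (2048 * e)) : False := by
  have hp : Nat.Prime 449 := by norm_num
  have : Fact (Nat.Prime 449) := ⟨hp⟩
  have he0 : e ≠ 0 := by
    rintro rfl
    exact absurd he (by decide)
  have hG' : Nat.card G = 449 * (455 * (2048 * e)) := by rw [hG]; ring
  have hnd : ¬ 449 ∣ 455 * (2048 * e) := by
    intro h
    rcases hp.dvd_mul.1 h with h1 | h1
    · exact absurd h1 (by norm_num)
    · rcases hp.dvd_mul.1 h1 with h2 | h2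
      · exact absurd h2 (by norm_num)
      · have := Nat.le_of_dvd (Nat.pos_of_ne_zero he0) h2
        omega
  obtain ⟨P⟩ : Nonempty (Sylow 449 G) := inferInstance
  have hcP : Nat.card P = 449 := by
    have h1 := P.card_eq_multiplicity
    have h2 : (Nat.card G).factorization 449 = 1 := by
      have hm0 : 455 * (2048 * e) ≠ 0 := by positivity
      rw [hG', Nat.factorization_mul hp.ne_zero hm0, Finsupp.add_apply, hp.factorization_self,
        Nat.factorization_eq_zero_of_not_dvd hnd]
    rw [h2, pow_one] at h1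
    exact h1
  have hidx : (P : Subgroup G).index = 455 * (2048 * e) := by
    have h1 := (P : Subgroup G).card_mul_index
    have h1' : 449 * (P : Subgroup G).index = 449 * (455 * (2048 * e)) := by
      rw [← hG', ← h1, hcP]
    exact Nat.eq_of_mul_eq_mul_left (by norm_num) h1'
  have hn1 : Nat.card (Sylow 449 G) = 1 := by
    have h1 := P.card_dvd_index
    rw [hidx] at h1
    have h2 : Nat.card (Sylow 449 G) % 449 = 1 % 449 := card_sylow_modEq_one 449 G
    exact eq_one_of_modD he he2 h1 h2
  have hss : Subsingleton (Sylow 449 G) := (Nat.card_eq_one_iff_unique.1 hn1).1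
  have hnorm : (P : Subgroup G).Normal := P.normal_of_subsingleton
  -- no fixed points
  have hfix : ∀ b : A4, b ≠ 0 → ∀ x ∈ (P : Subgroup G), C.v b * x = x * C.v b → x = 1 := by
    intro b hb x hx hc
    have h1 : orderOf x ∣ 449 := by
      have := orderOf_dvd_natCard (⟨x, hx⟩ : (P : Subgroup G))
      rw [Subgroup.orderOf_mk] at this
      rwa [hcP] at this
    have h2 : orderOf x ∣ 256 * 455 := by
      rw [← card_cent (C := C) hb]
      have := orderOf_dvd_natCard (⟨x, mem_centralizer_singleton_iff.2 hc.symm⟩ : centralizer ({C.v b} : Set G))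
      rwa [Subgroup.orderOf_mk] at this
    have h3 : orderOf x = 1 := Nat.eq_one_of_dvd_coprimes (by norm_num : Nat.Coprime 449 (256 * 455)) h1 h2
    exact orderOf_eq_one_iff.1 h3
  have hi1 := CGZ.inverts (N := (P : Subgroup G)) (C.v_sq (1, 0)) (hfix _ (by decide))
  have hi2 := CGZ.inverts (N := (P : Subgroup G)) (C.v_sq (0, 1)) (hfix _ (by decide))
  have htriv : ∀ x ∈ (P : Subgroup G), x = 1 := by
    intro x hx
    apply hfix ((1, 0) + (0, 1)) (by decide) x hx
    have h4 : C.v (1, 0) * (C.v (0, 1) * x * (C.v (0, 1))⁻¹) * (C.v (1, 0))⁻¹ = x := by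
      rw [hi2 x hx, hi1 _ (inv_mem hx), inv_inv]
    rw [C.v_add]
    calc C.v (1, 0) * C.v (0, 1) * x
        = (C.v (1, 0) * (C.v (0, 1) * x * (C.v (0, 1))⁻¹) * (C.v (1, 0))⁻¹) * (C.v (1, 0) * C.v (0, 1)) := by group
      _ = x * (C.v (1, 0) * C.v (0, 1)) := by rw [h4]
  have hbot : (P : Subgroup G) = ⊥ := by
    rw [eq_bot_iff]
    intro x hx
    rw [mem_bot]
    exact htriv x hx
  have h5 : Nat.card (P : Subgroup G) = 1 := by rw [hbot, Subgroup.card_bot]
  rw [hcP] at h5
  exact absurd h5 (by norm_num)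

/-- pairsD of possible images of `α`, `α²` -/
def pairsD : Finset (K8 × K8) :=
  Finset.univ.filter (fun p => p.1 ≠ 0 ∧ p.1 ≠ 1 ∧ p.2 ≠ 0 ∧ p.2 ≠ 1 ∧ p.2 ≠ p.1 ∧ p.2 ≠ 1 + p.1)

theorem card_pairsD : pairsD.card = 24 := by decide +kernel

theorem K8_allD (x : K8) : x = 0 ∨ x = 1 ∨ x = K8.al ∨ x = 1 + K8.al ∨ x = K8.al ^ 2 ∨ x = 1 + K8.al ^ 2 ∨
    x = K8.al + K8.al ^ 2 ∨ x = 1 + (K8.al + K8.al ^ 2) := by
  revert x; decide +kernel

theorem card_cent_z [Finite G] (C : Core G)
    (hZ : ∀ g, g * C.z 1 = C.z 1 * g → ∀ e, ∃ e1, g * C.z e * g⁻¹ = C.z e1)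
    (hC : ∀ g, (∀ e, g * C.z e = C.z e * g) → g ∈ C.QQ)
    (hodd : ∃ m, Odd m ∧ Nat.card (centralizer ({C.z 1} : Set G)) = 2048 * m) :
    ∃ e, e ∣ 315 ∧ e ≤ 24 ∧ Nat.card (centralizer ({C.z 1} : Set G)) = 2048 * e := by
  classical
  obtain ⟨m, hm, hcard⟩ := hodd
  have hH : ∀ g : centralizer ({C.z 1} : Set G), (g : G) * C.z 1 = C.z 1 * g :=
    fun g => mem_centralizer_singleton_iff.1 g.2
  let r : centralizer ({C.z 1} : Set G) → K8 → K8 := fun g e => (hZ g (hH g) e).choose
  have hr : ∀ (g : centralizer ({C.z 1} : Set G)) (e : K8), (g : G) * C.z e * (g : G)⁻¹ = C.z (r g e) :=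
    fun g e => (hZ g (hH g) e).choose_spec
  let act : MulAction (centralizer ({C.z 1} : Set G)) K8 :=
    { smul := r
      one_smul := fun e => by
        apply C.z_inj
        show C.z (r 1 e) = C.z e
        rw [← hr]
        show (1 : G) * C.z e * (1 : G)⁻¹ = C.z e
        group
      mul_smul := fun g h e => by
        apply C.z_inj
        show C.z (r (g * h) e) = C.z (r g (r h e))
        rw [← hr, ← hr, ← hr]
        show ((g : G) * h) * C.z e * ((g : G) * h)⁻¹ = _
        group }
  let φ : centralizer ({C.z 1} : Set G) →* Equiv.Perm K8 := MulAction.toPermHom _ K8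
  have hφ : ∀ g e, φ g e = r g e := fun _ _ => rfl
  -- the kernel
  have hker : ∀ g, g ∈ φ.ker ↔ (g : G) ∈ C.QQ := by
    intro g
    rw [MonoidHom.mem_ker]
    constructor
    · intro h
      apply hC
      intro e
      have h1 : r g e = e := by rw [← hφ, h]; rfl
      have h2 := hr g e
      rw [h1, mul_inv_eq_iff_eq_mul] at h2
      exact h2
    · intro h
      ext e
      rw [hφ]
      show r g e = e
      apply C.z_inj
      rw [← hr, Core.zcomm h, mul_inv_cancel_right]
  have hkc : Nat.card φ.ker = 2048 := by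
    rw [← card_QQ C]
    refine Nat.card_congr ⟨fun g => ⟨g.1, (hker _).1 g.2⟩,
      fun q => ⟨⟨q.1, mem_centralizer_singleton_iff.2 (Core.zcomm q.2 1)⟩, (hker _).2 q.2⟩, fun g => ?_, fun q => ?_⟩
    · rfl
    · rfl
  have hrange : Nat.card φ.range = m := by
    have h1 := Subgroup.card_eq_card_quotient_mul_card_subgroup φ.ker
    rw [Nat.card_congr (QuotientGroup.quotientKerEquivRange φ).toEquiv, hkc, hcard, mul_comm] at h1
    exact (Nat.eq_of_mul_eq_mul_right (by norm_num) h1).symm
  refine ⟨m, ?_, ?_, hcard⟩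
  · have h1 : m ∣ 40320 := by
      rw [← hrange]
      have h2 := Subgroup.card_subgroup_dvd_card φ.range
      rw [Nat.card_perm, K8.natCard] at h2
      exact h2
    have h2 : Nat.Coprime m (2 ^ 7) := by
      apply Nat.Coprime.pow_right
      rw [Nat.coprime_comm, Nat.Prime.coprime_iff_not_dvd Nat.prime_two]
      intro h
      exact (Nat.not_even_iff_odd.2 hm) (even_iff_two_dvd.2 h)
    have h3 : (40320 : ℕ) = 2 ^ 7 * 315 := by norm_num
    rw [h3] at h1
    exact h2.dvd_of_dvd_mul_left h1
  · rw [← hrange, ← card_pairsD]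
    -- additivity
    have hadd : ∀ g a b, r g (a + b) = r g a + r g b := by
      intro g a b
      apply C.z_inj
      rw [← hr, C.z_add, C.z_add, ← hr, ← hr]
      group
    have h1 : ∀ g, r g 1 = 1 := by
      intro g
      apply C.z_inj
      rw [← hr, hH, mul_inv_cancel_right]
    have h0 : ∀ g, r g 0 = 0 := by
      intro g
      have := hadd g 0 0
      rw [add_zero] at this
      linear_combination -this
    have hinj : ∀ g a b, r g a = r g b → a = b := by
      intro g a b h
      rw [← hφ, ← hφ] at h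
      exact (φ g).injective h
    let F : φ.range → pairsD := fun σ => ⟨(σ.1 K8.al, σ.1 (K8.al ^ 2)), by
      obtain ⟨g, hg⟩ := σ.2
      rw [← hg, hφ, hφ]
      unfold pairsD
      rw [Finset.mem_filter]
      refine ⟨Finset.mem_univ _, ?_, ?_, ?_, ?_, ?_, ?_⟩
      · intro h
        have := hinj g _ _ (h.trans (h0 g).symm)
        exact absurd this (by decide +kernel)
      · intro h
        have := hinj g _ _ (h.trans (h1 g).symm)
        exact absurd this (by decide +kernel)
      · intro h
        have := hinj g _ _ (h.trans (h0 g).symm)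
        exact absurd this (by decide +kernel)
      · intro h
        have := hinj g _ _ (h.trans (h1 g).symm)
        exact absurd this (by decide +kernel)
      · intro h
        have := hinj g _ _ h
        exact absurd this (by decide +kernel)
      · intro h
        have h2 : r g (K8.al ^ 2) = r g (1 + K8.al) := by
          rw [hadd, h1]
          exact h
        have := hinj g _ _ h2
        exact absurd this (by decide +kernel)⟩
    have hF : Function.Injective F := by
      rintro ⟨σ, g, rfl⟩ ⟨τ, h, rfl⟩ hst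
      have h2 := congrArg Subtype.val hst
      have h3 : r g K8.al = r h K8.al := congrArg Prod.fst h2
      have h4 : r g (K8.al ^ 2) = r h (K8.al ^ 2) := congrArg Prod.snd h2
      apply Subtype.ext
      ext x
      show r g x = r h x
      rcases K8_allD x with rfl | rfl | rfl | rfl | rfl | rfl | rfl | rfl
      · rw [h0, h0]
      · rw [h1, h1]
      · rw [h3]
      · rw [hadd, hadd, h1, h1, h3]
      · rw [h4]
      · rw [hadd, hadd, h1, h1, h4]
      · rw [hadd, hadd, h3, h4]
      · rw [hadd, hadd, hadd, hadd, h1, h1, h3, h4]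
    have h5 := Nat.card_le_card_of_injective F hF
    rw [Nat.card_eq_fintype_card (α := pairsD), Fintype.card_coe] at h5
    exact h5

end Cfsg.Agent.RuB.QSyl
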