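import Cfsg.Agent.RuB.Main
import Cfsg.Agent.RuD.IdxFin

/-!
# A finite group with a `Core` is the Rudvalis group
-/

set_option autoImplicit false

universe u

namespace Cfsg.Agent.RuB.IsoRu

theorem isoRu {G : Type u} [Group G] [Finite G] (C : Core G) (hr : Cfsg.Agent.Ru127.Sg.Rel C) :
    Cfsg.Spor.IsoRu G :=
  Main.isoRu_of_bound Cfsg.Agent.RuD.IdxFin.bound C hr

end Cfsg.Agent.RuB.IsoRu
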