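import Mathlib
import Cfsg.Agent.RuB.AutFix

/-!
# Standard subgroup `A = Sz(8)` with elementary abelian centraliser `V`: basic facts

`G` finite, `A ≤ G` parametrised by `R : SzRel.Rel A F`, `|F| = 8`, `V = C_G(A)` of exponent 2,
`C_G(v) ≤ N_G(A)` for `1 ≠ v ∈ V`.
-/

set_option autoImplicit false

namespace Cfsg.Agent.RuB.Raw

open Cfsg.Agent.ThreePrime

variable {G : Type*} [Group G] {A V : Subgroup G} {F : Type*} [Field F]

/-- root elements of `A` as elements of `G` -/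
def uu (R : SzRel.Rel A F) (a b : F) : G := (R.u a b : G)

/-- torus elements of `A` as elements of `G` -/
def dd (R : SzRel.Rel A F) (k : Fˣ) : G := (R.d k : G)

/-- the standing hypotheses -/
structure Base (R : SzRel.Rel A F) (V : Subgroup G) : Prop where
  cardF : Nat.card F = 8
  simpleA : IsSimpleGroup A
  mem_V : ∀ g, g ∈ V ↔ ∀ a ∈ A, g * a = a * g
  sqV : ∀ v ∈ V, v * v = 1
  cen : ∀ v ∈ V, v ≠ 1 → ∀ g, g * v = v * g → g ∈ Subgroup.normalizer (A : Set G)

section rel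

variable (R : SzRel.Rel A F)

theorem uu_mem (a b : F) : uu R a b ∈ A := (R.u a b).2

theorem dd_mem (k : Fˣ) : dd R k ∈ A := (R.d k).2

theorem uu_mul (a b c e : F) : uu R a b * uu R c e = uu R (a + c) (b + e + a * R.θ c) := by
  unfold uu; rw [← Subgroup.coe_mul, R.u_mul]

theorem uu_zero : uu R 0 0 = 1 := by
  unfold uu; rw [R.u_zero]; rfl

theorem uu_inj {a b c e : F} (h : uu R a b = uu R c e) : a = c ∧ b = e :=
  R.u_inj (Subtype.ext h)

theorem uu_inv (a b : F) : (uu R a b)⁻¹ = uu R a (b + a * R.θ a) := by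
  unfold uu; rw [← Subgroup.coe_inv, R.u_inv]

theorem uu_sq (a b : F) : uu R a b * uu R a b = uu R 0 (a * R.θ a) := by
  unfold uu; rw [← Subgroup.coe_mul, R.u_mul_self]

theorem z_mul (b e : F) : uu R 0 b * uu R 0 e = uu R 0 (b + e) := by
  rw [uu_mul]; congr 1 <;> ring

theorem uu_mul_z (a b e : F) : uu R a b * uu R 0 e = uu R a (b + e) := by
  rw [uu_mul, map_zero]; congr 1 <;> ring

theorem z_sq (b : F) : uu R 0 b * uu R 0 b = 1 := by
  rw [uu_sq, zero_mul, uu_zero]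

theorem z_comm (a b c : F) : uu R a b * uu R 0 c = uu R 0 c * uu R a b := by
  unfold uu; rw [← Subgroup.coe_mul, ← Subgroup.coe_mul, AutFix.comm_u0]

theorem z_inv (b : F) : (uu R 0 b)⁻¹ = uu R 0 b := inv_eq_of_mul_eq_one_right (z_sq R b)

theorem dd_mul (k l : Fˣ) : dd R k * dd R l = dd R (k * l) := by
  unfold dd; rw [← Subgroup.coe_mul, R.d_mul]

theorem dd_inv (k : Fˣ) : (dd R k)⁻¹ = dd R k⁻¹ := by
  unfold dd; rw [← Subgroup.coe_inv, R.d_inv]

theorem dd_conj (k : Fˣ) (a b : F) :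
    dd R k * uu R a b * (dd R k)⁻¹ = uu R (a * k ^ 2 * (R.θ k)⁻¹) (b * R.θ k) := by
  unfold dd uu; rw [← Subgroup.coe_inv, ← Subgroup.coe_mul, ← Subgroup.coe_mul, R.conj_d]

theorem dd_conj_z (k : Fˣ) (b : F) :
    dd R k * uu R 0 b * (dd R k)⁻¹ = uu R 0 (b * R.θ k) := by
  rw [dd_conj, zero_mul, zero_mul]

theorem uu_conj (a b c e : F) :
    uu R a b * uu R c e * (uu R a b)⁻¹ = uu R c (e + a * R.θ c + c * R.θ a) := by
  unfold uu; rw [← Subgroup.coe_inv, ← Subgroup.coe_mul, ← Subgroup.coe_mul, R.conj_u]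

include R in
theorem add_self (x : F) : x + x = 0 := SzRel.Rel.add_self R x

theorem exists_theta {x : F} (hx : x ≠ 0) [Finite F] : ∃ k : Fˣ, R.θ k = x := by
  obtain ⟨k, hk⟩ := R.theta_surj x
  refine ⟨Units.mk0 k ?_, hk⟩
  rintro rfl
  rw [map_zero] at hk
  exact hx hk.symm

theorem norm_ne {a : F} (ha : a ≠ 0) : a * R.θ a ≠ 0 :=
  mul_ne_zero ha fun h => ha ((map_eq_zero R.θ).1 h)

theorem norm_inj {a c : F} (h : a * R.θ a = c * R.θ c) : a = c := by
  by_cases hc : c = 0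
  · subst hc
    rw [zero_mul] at h
    by_contra ha
    exact norm_ne R ha h
  · have ha : a ≠ 0 := by
      rintro rfl
      rw [zero_mul] at h
      exact norm_ne R hc h.symm
    have h6 := congrArg R.θ h
    rw [map_mul, map_mul, R.sq, R.sq] at h6
    have h9 : a * (c * R.θ c) = c * (c * R.θ c) := by
      rw [← h]
      have : a * (a * R.θ a) = R.θ a * a ^ 2 := by ring
      rw [this, h6, h]; ring
    exact mul_right_cancel₀ (norm_ne R hc) h9

theorem exists_norm [Finite F] (b : F) : ∃ a : F, a * R.θ a = b :=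
  Finite.surjective_of_injective (fun _ _ h => norm_inj R h) b

end rel

section base

variable {R : SzRel.Rel A F} (H : Base R V)

include H

theorem finF : Finite F := Nat.finite_of_card_ne_zero (by rw [H.cardF]; norm_num)

theorem V_comm {v : G} (hv : v ∈ V) {a : G} (ha : a ∈ A) : v * a = a * v := (H.mem_V v).1 hv a ha

theorem V_uu {v : G} (hv : v ∈ V) (a b : F) : v * uu R a b = uu R a b * v := V_comm H hv (uu_mem R a b)

theorem V_inv {v : G} (hv : v ∈ V) : v⁻¹ = v := inv_eq_of_mul_eq_one_right (H.sqV v hv)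

theorem V_mul_comm {v w : G} (hv : v ∈ V) (hw : w ∈ V) : v * w = w * v := by
  have h1 := H.sqV _ (mul_mem hv hw)
  calc v * w = v * w * (w * v * (v * w)) * 1 := by
        rw [mul_one]
        have : w * v * (v * w) = 1 := by
          rw [mul_assoc, ← mul_assoc v v w, H.sqV v hv, one_mul, H.sqV w hw]
        rw [this, mul_one]
    _ = w * v := by
        rw [mul_one]
        have : v * w * (w * v * (v * w)) = (v * (w * w) * v) * (v * w) := by group
        rw [this, H.sqV w hw, mul_one, H.sqV v hv, one_mul]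
        have h2 : w * v = (v * w)⁻¹ := by rw [mul_inv_rev, V_inv H hv, V_inv H hw]
        rw [h2, inv_eq_of_mul_eq_one_right h1]

/-- product formula in `T = V × S` -/
theorem T_mul {v v' : G} (_ : v ∈ V) (hv' : v' ∈ V) (a b c e : F) :
    (v * uu R a b) * (v' * uu R c e) = (v * v') * uu R (a + c) (b + e + a * R.θ c) := by
  rw [← uu_mul]
  have := V_uu H hv' a b
  calc v * uu R a b * (v' * uu R c e) = v * (uu R a b * v') * uu R c e := by group
    _ = _ := by rw [← this]; group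

theorem V_cap {v : G} (hv : v ∈ V) {a b : F} (h : v = uu R a b) : v = 1 := by
  have h1 : ∀ x : A, R.u a b * x = x * R.u a b := by
    intro x
    apply Subtype.ext
    show uu R a b * (x : G) = x * uu R a b
    rw [← h]
    exact V_comm H hv x.2
  have ha : a = 0 := by
    have h2 := H.sqV v hv
    rw [h, uu_sq, ← uu_zero R] at h2
    by_contra ha
    exact norm_ne R ha (uu_inj R h2).2
  have hfin := finF H
  subst ha
  by_contra hne
  have hb : b ≠ 0 := by
    rintro rfl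
    exact hne (by rw [h, uu_zero])
  apply R.w_not_mem_normalizer
  apply R.ti (R.u_mem 0 b) (R.u_ne_one hb)
  rw [← h1 R.w, mul_inv_cancel_right]
  exact R.u_mem 0 b

theorem T_inj {v v' : G} (hv : v ∈ V) (hv' : v' ∈ V) {a b c e : F} (h : v * uu R a b = v' * uu R c e) :
    v = v' ∧ a = c ∧ b = e := by
  have h1 : v'⁻¹ * v = uu R c e * (uu R a b)⁻¹ := by
    rw [eq_mul_inv_iff_mul_eq, mul_assoc, h, inv_mul_cancel_left]
  have h2 : v'⁻¹ * v = 1 := by
    rw [uu_inv, uu_mul] at h1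
    exact V_cap H (mul_mem (inv_mem hv') hv) h1
  have h3 : v = v' := (inv_mul_eq_one.1 h2).symm
  subst h3
  have h4 := mul_left_cancel h
  exact ⟨rfl, uu_inj R h4⟩

/-- the subgroup `T = V × S` -/
def TT : Subgroup G where
  carrier := {x | ∃ v ∈ V, ∃ a b : F, x = v * uu R a b}
  mul_mem' := by
    rintro _ _ ⟨v, hv, a, b, rfl⟩ ⟨v', hv', c, e, rfl⟩
    exact ⟨v * v', mul_mem hv hv', _, _, T_mul H hv hv' a b c e⟩
  one_mem' := ⟨1, one_mem _, 0, 0, by rw [uu_zero, one_mul]⟩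
  inv_mem' := by
    rintro _ ⟨v, hv, a, b, rfl⟩
    refine ⟨v, hv, a, b + a * R.θ a, ?_⟩
    rw [mul_inv_rev, V_inv H hv, uu_inv, ← V_uu H hv]

theorem mem_TT {x : G} : x ∈ TT H ↔ ∃ v ∈ V, ∃ a b : F, x = v * uu R a b := Iff.rfl

theorem V_le : V ≤ TT H := fun v hv => ⟨v, hv, 0, 0, by rw [uu_zero, mul_one]⟩

theorem uu_mem_T (a b : F) : uu R a b ∈ TT H := ⟨1, one_mem _, a, b, by rw [one_mul]⟩

theorem T_sq {v : G} (hv : v ∈ V) (a b : F) :
    (v * uu R a b) * (v * uu R a b) = uu R 0 (a * R.θ a) := by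
  rw [T_mul H hv hv, H.sqV v hv, one_mul, ← uu_mul, uu_sq]

theorem T_sq' {x : G} (hx : x ∈ TT H) : ∃ b, x * x = uu R 0 b := by
  obtain ⟨v, hv, a, b, rfl⟩ := hx
  exact ⟨_, T_sq H hv a b⟩

theorem T_four {x : G} (hx : x ∈ TT H) : x ^ 4 = 1 := by
  obtain ⟨b, hb⟩ := T_sq' H hx
  have : x ^ 4 = (x * x) * (x * x) := by simp only [pow_succ, pow_zero, one_mul, mul_assoc]
  rw [this, hb, z_sq]

/-- elements of `T` of order at most two: `E = V × Z`. -/
theorem T_inv {x : G} (hx : x ∈ TT H) : x * x = 1 ↔ ∃ v ∈ V, ∃ b : F, x = v * uu R 0 b := by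
  obtain ⟨v, hv, a, b, rfl⟩ := hx
  constructor
  · intro h
    rw [T_sq H hv, ← uu_zero R] at h
    have : a = 0 := by
      by_contra ha
      exact norm_ne R ha (uu_inj R h).2
    subst this
    exact ⟨v, hv, b, rfl⟩
  · rintro ⟨v', hv', b', h⟩
    rw [h, T_sq H hv', zero_mul, uu_zero]

/-- `Z` is normalised by the elements normalising `T` -/
theorem norm_Z {g : G} (hg : g ∈ Subgroup.normalizer (TT H : Set G)) (b : F) :
    ∃ c, g * uu R 0 b * g⁻¹ = uu R 0 c := by
  have := finF H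
  obtain ⟨a, ha⟩ := exists_norm R b
  have h1 := (Subgroup.mem_normalizer_iff.1 hg _).1 (uu_mem_T H a 0)
  obtain ⟨c, hc⟩ := T_sq' H h1
  refine ⟨c, ?_⟩
  rw [← hc, ← ha, ← uu_sq R a 0]
  group

theorem norm_E {g : G} (hg : g ∈ Subgroup.normalizer (TT H : Set G)) {v : G} (hv : v ∈ V) (b : F) :
    ∃ v' ∈ V, ∃ c, g * (v * uu R 0 b) * g⁻¹ = v' * uu R 0 c := by
  have h0 : v * uu R 0 b ∈ TT H := ⟨v, hv, 0, b, rfl⟩
  have h1 := (Subgroup.mem_normalizer_iff.1 hg _).1 h0
  refine (T_inv H h1).1 ?_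
  have h2 : g * (v * uu R 0 b) * g⁻¹ * (g * (v * uu R 0 b) * g⁻¹) =
      g * ((v * uu R 0 b) * (v * uu R 0 b)) * g⁻¹ := by group
  rw [h2, T_sq H hv, zero_mul, uu_zero, mul_one, mul_inv_cancel]

/-- conjugation of `A` by elements of the normaliser -/
noncomputable def cAut {g : G} (hg : g ∈ Subgroup.normalizer (A : Set G)) : MulAut A :=
  A.normalizerMonoidHom ⟨g, hg⟩

omit H in
theorem cAut_apply {g : G} (hg : g ∈ Subgroup.normalizer (A : Set G)) (x : A) :
    ((cAut (A := A) hg x : A) : G) = g * x * g⁻¹ := rfl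

theorem dd_norm_T (k : Fˣ) : dd R k ∈ Subgroup.normalizer (TT H : Set G) := by
  have key : ∀ k : Fˣ, ∀ x ∈ TT H, dd R k * x * (dd R k)⁻¹ ∈ TT H := by
    rintro k _ ⟨v, hv, a, b, rfl⟩
    refine ⟨v, hv, a * k ^ 2 * (R.θ k)⁻¹, b * R.θ k, ?_⟩
    rw [← dd_conj]
    have := V_comm H hv (dd_mem R k)
    calc dd R k * (v * uu R a b) * (dd R k)⁻¹ = (dd R k * v) * uu R a b * (dd R k)⁻¹ := by group
      _ = _ := by rw [← this]; group
  rw [Subgroup.mem_normalizer_iff]
  intro x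
  refine ⟨key k x, fun h => ?_⟩
  have h1 := key k⁻¹ _ h
  rw [← dd_inv, inv_inv] at h1
  have h2 : (dd R k)⁻¹ * (dd R k * x * (dd R k)⁻¹) * dd R k = x := by group
  rwa [h2] at h1

/-- `g ∈ N(A)` centralising `Z` lies in `T` -/
theorem fixZ {g : G} (hg : g ∈ Subgroup.normalizer (A : Set G))
    (hz : ∀ b, g * uu R 0 b * g⁻¹ = uu R 0 b) : g ∈ TT H := by
  have := finF H
  obtain ⟨a, b, h⟩ := AutFix.eq_conj R (by rw [H.cardF]) this (cAut (A := A) hg) (by
    intro b
    apply Subtype.ext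
    rw [cAut_apply]
    exact hz b)
  have h1 : (uu R a b)⁻¹ * g ∈ V := by
    rw [H.mem_V]
    intro x hx
    have h2 := congrArg Subtype.val (h ⟨x, hx⟩)
    rw [cAut_apply] at h2
    have h3 : g * x * g⁻¹ = uu R a b * x * (uu R a b)⁻¹ := h2
    have h4 : g * x = uu R a b * x * (uu R a b)⁻¹ * g := by rw [← h3]; group
    rw [mul_assoc, h4]; group
  refine ⟨_, h1, a, b, ?_⟩
  rw [V_uu H h1]; group

/-- `g ∈ N(A) ∩ N(T)` with `g ^ 2 ∈ T` lies in `T` -/
theorem sq_mem {g : G} (hg : g ∈ Subgroup.normalizer (A : Set G))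
    (hgT : g ∈ Subgroup.normalizer (TT H : Set G)) (h2 : g * g ∈ TT H) : g ∈ TT H := by
  have hfin := finF H
  have : Fintype F := Fintype.ofFinite F
  have hc : Fintype.card F = 8 := by rw [← Nat.card_eq_fintype_card, H.cardF]
  have hA : ∀ a b : F, uu R a b ∈ Subgroup.normalizer (A : Set G) := fun a b =>
    Subgroup.le_normalizer (uu_mem R a b)
  have hmem : ∀ x : A, (x : G) ∈ TT H → x ∈ R.T := by
    rintro x ⟨v, hv, a, b, h⟩
    have h4 : v ∈ A := by
      have : v = x * (uu R a b)⁻¹ := by rw [h]; group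
      rw [this]
      exact mul_mem x.2 (inv_mem (uu_mem R a b))
    -- `v ∈ V ∩ A = 1`
    have h5 : v = 1 := by
      have h6 : (⟨v, h4⟩ : A) ∈ R.T := AutFix.mem_T_of_comm R one_ne_zero (by
        apply Subtype.ext
        exact V_uu H hv 0 1)
      obtain ⟨c, e, h7⟩ := h6
      exact V_cap H hv (congrArg Subtype.val h7)
    rw [h5, one_mul] at h
    exact ⟨a, b, Subtype.ext h⟩
  obtain ⟨a, b, h⟩ := AutFix.eq_conj_of_pow (n := 3) R hc (cAut (A := A) hg) (by
    rintro x ⟨a, b, rfl⟩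
    apply hmem
    rw [cAut_apply]
    exact (Subgroup.mem_normalizer_iff.1 hgT _).1 (uu_mem_T H a b)) (by
    intro a b
    have h3 : (MulAut.conj (R.u a b) : MulAut A) * cAut (A := A) hg =
        cAut (A := A) (mul_mem (hA a b) hg) := by
      ext x
      show uu R a b * (g * x * g⁻¹) * (uu R a b)⁻¹ = uu R a b * g * x * (uu R a b * g)⁻¹
      group
    rw [h3]
    unfold cAut
    rw [← map_pow]
    have h4 : ((⟨uu R a b * g, mul_mem (hA a b) hg⟩ : Subgroup.normalizer (A : Set G)) ^ 2 ^ 3) = 1 := by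
      apply Subtype.ext
      show (uu R a b * g) ^ 8 = 1
      have h5 : (uu R a b * g) ^ 2 ∈ TT H := by
        have : (uu R a b * g) ^ 2 = uu R a b * (g * uu R a b * g⁻¹) * (g * g) := by
          rw [pow_two]; group
        rw [this]
        exact mul_mem (mul_mem (uu_mem_T H a b) ((Subgroup.mem_normalizer_iff.1 hgT _).1 (uu_mem_T H a b))) h2
      have := T_four H h5
      rw [← pow_mul] at this
      exact this
    rw [h4, map_one])
  have h1 : (uu R a b)⁻¹ * g ∈ V := by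
    rw [H.mem_V]
    intro x hx
    have h2 := congrArg Subtype.val (h ⟨x, hx⟩)
    rw [cAut_apply] at h2
    have h3 : g * x * g⁻¹ = uu R a b * x * (uu R a b)⁻¹ := h2
    have h4 : g * x = uu R a b * x * (uu R a b)⁻¹ * g := by rw [← h3]; group
    rw [mul_assoc, h4]; group
  refine ⟨_, h1, a, b, ?_⟩
  rw [V_uu H h1]; group

/-- `V` is TI with normaliser in `N(A)` -/
theorem ti [Finite G] {g v : G} (hv : v ∈ V) (hv1 : v ≠ 1) (h : g * v * g⁻¹ ∈ V) :
    g ∈ Subgroup.normalizer (A : Set G) := by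
  have hfin := finF H
  have hs := H.simpleA
  have hv' : g * v * g⁻¹ ≠ 1 := by
    intro h1
    exact hv1 (by simpa using h1)
  -- `A ^ g ≤ N(A)`
  have h1 : ∀ a ∈ A, g * a * g⁻¹ ∈ Subgroup.normalizer (A : Set G) := by
    intro a ha
    apply H.cen _ h hv'
    have := V_comm H hv ha
    calc g * a * g⁻¹ * (g * v * g⁻¹) = g * (a * v) * g⁻¹ := by group
      _ = g * (v * a) * g⁻¹ := by rw [this]
      _ = _ := by group
  have h2 : ∀ a ∈ A, g⁻¹ * a * g ∈ Subgroup.normalizer (A : Set G) := by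
    intro a ha
    apply H.cen _ hv hv1
    have := V_comm H h ha
    calc g⁻¹ * a * g * v = g⁻¹ * (a * (g * v * g⁻¹)) * g := by group
      _ = g⁻¹ * ((g * v * g⁻¹) * a) * g := by rw [this]
      _ = _ := by group
  -- the intersection
  let B : Subgroup A := (A.map (MulAut.conj g).toMonoidHom).subgroupOf A
  have hB : ∀ x : A, x ∈ B ↔ ∃ a ∈ A, g * a * g⁻¹ = x := by
    intro x
    show (x : G) ∈ A.map (MulAut.conj g).toMonoidHom ↔ _
    rw [Subgroup.mem_map]
    rfl
  have hBn : B.Normal := by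
    constructor
    intro n hn x
    rw [hB] at hn ⊢
    obtain ⟨a, ha, hax⟩ := hn
    refine ⟨g⁻¹ * ((x : G) * (n : G) * (x : G)⁻¹) * g, ?_, by simp [mul_assoc]⟩
    have h3 : g⁻¹ * ((x : G) * (n : G) * (x : G)⁻¹) * g = (g⁻¹ * x * g) * a * (g⁻¹ * x * g)⁻¹ := by
      rw [← hax]; group
    rw [h3]
    exact (Subgroup.mem_normalizer_iff.1 (h2 x x.2) _).1 ha
  rcases hBn.eq_bot_or_eq_top with hb | hb
  · exfalso
    -- then `A ^ g` centralises `A`
    have h3 : ∀ a ∈ A, g * a * g⁻¹ ∈ V := by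
      intro a ha
      rw [H.mem_V]
      intro x hx
      have h4 : x⁻¹ * (g * a * g⁻¹ * x * (g * a * g⁻¹)⁻¹) ∈ A :=
        mul_mem (inv_mem hx) ((Subgroup.mem_normalizer_iff.1 (h1 a ha) _).1 hx)
      have h5 : (⟨_, h4⟩ : A) ∈ B := by
        rw [hB]
        refine ⟨(g⁻¹ * x⁻¹ * g) * a * (g⁻¹ * x⁻¹ * g)⁻¹ * a⁻¹, ?_, ?_⟩
        · exact mul_mem ((Subgroup.mem_normalizer_iff.1 (h2 _ (inv_mem hx)) _).1 ha) (inv_mem ha)
        · show _ = x⁻¹ * (g * a * g⁻¹ * x * (g * a * g⁻¹)⁻¹)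
          group
      rw [hb, Subgroup.mem_bot] at h5
      have h6 : x⁻¹ * (g * a * g⁻¹ * x * (g * a * g⁻¹)⁻¹) = 1 := congrArg Subtype.val h5
      have h7 := inv_mul_eq_one.1 h6
      have h8 : x * (g * a * g⁻¹) = g * a * g⁻¹ * x := by
        conv_lhs => rw [h7]
        group
      exact h8.symm
    have h4 := H.sqV _ (h3 _ (uu_mem R 1 0))
    have h5 : g * (uu R 1 0 * uu R 1 0) * g⁻¹ = 1 := by rw [← h4]; group
    rw [uu_sq, one_mul, map_one] at h5
    have h6 : uu R 0 1 = 1 := by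
      have : uu R 0 1 = g⁻¹ * (g * uu R 0 1 * g⁻¹) * g := by group
      rw [this, h5]; group
    rw [← uu_zero R] at h6
    exact one_ne_zero (uu_inj R h6).2
  · have h3 : ∀ x ∈ A, g⁻¹ * x * g ∈ A := by
      intro x hx
      have : (⟨x, hx⟩ : A) ∈ B := by rw [hb]; trivial
      rw [hB] at this
      obtain ⟨a, ha, hax⟩ := this
      have : g⁻¹ * x * g = a := by
        have h9 : x = g * a * g⁻¹ := hax.symm
        rw [h9]; group
      rw [this]; exact ha
    have h4 : g⁻¹ ∈ Subgroup.normalizer (A : Set G) := by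
      rw [Subgroup.mem_normalizer_iff]
      intro x
      rw [inv_inv]
      refine ⟨h3 x, fun h => ?_⟩
      have hinj : Function.Injective (fun x : A => (⟨g⁻¹ * x * g, h3 x x.2⟩ : A)) := by
        intro x y hxy
        have := Subtype.ext_iff.1 hxy
        apply Subtype.ext
        simpa using this
      obtain ⟨y, hy⟩ := (Finite.surjective_of_injective hinj) ⟨_, h⟩
      have h5 := Subtype.ext_iff.1 hy
      have h6 : (y : G) = x := by simpa using h5
      rw [← h6]; exact y.2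
    have := inv_mem h4
    rwa [inv_inv] at this

theorem norm_V_of_norm_A {g : G} (hg : g ∈ Subgroup.normalizer (A : Set G)) {v : G} (hv : v ∈ V) :
    g * v * g⁻¹ ∈ V := by
  rw [H.mem_V]
  intro a ha
  have h1 : g⁻¹ * a * g ∈ A := by
    have := (Subgroup.mem_normalizer_iff.1 (inv_mem hg) a).1 ha
    rwa [inv_inv] at this
  have h2 := V_comm H hv h1
  calc g * v * g⁻¹ * a = g * (v * (g⁻¹ * a * g)) * g⁻¹ := by group
    _ = g * ((g⁻¹ * a * g) * v) * g⁻¹ := by rw [h2]
    _ = _ := by group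

end base

end Cfsg.Agent.RuB.Raw
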