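import Cfsg.Agent.RuB.Count

/-!
# Elements of order 5, 7, 13 in `Sz(8)` (RU, helper143)

They generate their centralisers; orders of the normalisers.
-/

set_option autoImplicit false

namespace Cfsg.Agent.RuB.LFacts

open Subgroup
open Cfsg.Agent.ThreePrime

section general

variable {J : Type*} [Group J] [Finite J] {p m : ℕ} [Fact p.Prime]

omit [Group J] [Finite J] in
theorem factorization_one (hJ : Nat.card J = p * m) (hm : ¬ p ∣ m) : (Nat.card J).factorization p = 1 := by
  have hp : p.Prime := Fact.out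
  have hm0 : m ≠ 0 := by rintro rfl; exact hm (dvd_zero _)
  rw [hJ, Nat.factorization_mul hp.ne_zero hm0, Finsupp.add_apply, hp.factorization_self,
    Nat.factorization_eq_zero_of_not_dvd hm]

omit [Finite J] in
theorem card_centralizer_zpowers (x : J) :
    centralizer ((zpowers x : Subgroup J) : Set J) = centralizer ({x} : Set J) := by
  rw [zpowers_eq_closure, centralizer_closure]

/-- the Sylow count for a Sylow subgroup of prime order -/
theorem count (hJ : Nat.card J = p * m) (hm : ¬ p ∣ m) {x : J} (hx : orderOf x = p) :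
    ∃ e n, Nat.card (centralizer ({x} : Set J)) * e = Nat.card (normalizer ((zpowers x : Subgroup J) : Set J)) ∧
      Nat.card (normalizer ((zpowers x : Subgroup J) : Set J)) * n = Nat.card J ∧ e ∣ p - 1 ∧ n % p = 1 := by
  have hp : p.Prime := Fact.out
  have hc : Nat.card (zpowers x) = p ^ (Nat.card J).factorization p := by
    rw [Nat.card_zpowers, hx, factorization_one hJ hm, pow_one]
  let P : Sylow p J := Sylow.ofCard (zpowers x) hc
  refine ⟨(centralizer ((zpowers x : Subgroup J) : Set J)).relIndex (normalizer ((zpowers x : Subgroup J) : Set J)),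
    (normalizer ((zpowers x : Subgroup J) : Set J)).index, ?_, ?_, ?_, ?_⟩
  · rw [← card_centralizer_zpowers]
    have h1 := Subgroup.card_mul_index ((centralizer ((zpowers x : Subgroup J) : Set J)).subgroupOf
      (normalizer ((zpowers x : Subgroup J) : Set J)))
    rw [Nat.card_congr (Subgroup.subgroupOfEquivOfLe (centralizer_le_normalizer _)).toEquiv] at h1
    exact h1
  · exact Subgroup.card_mul_index _
  · have h1 := Subgroup.card_dvd_of_injective _ (QuotientGroup.kerLift_injective (zpowers x).normalizerMonoidHom)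
    rw [normalizerMonoidHom_ker, ← index, ← relIndex] at h1
    have h2 : Nat.card (MulAut (zpowers x)) = p - 1 := by
      rw [IsCyclic.card_mulAut, Nat.card_zpowers, hx, Nat.totient_prime hp]
    rw [h2] at h1
    exact h1
  · have h1 := P.card_eq_index_normalizer
    have h2 := card_sylow_modEq_one p J
    rw [h1] at h2
    have h3 : (normalizer ((zpowers x : Subgroup J) : Set J)).index % p = 1 % p := h2
    rw [h3, Nat.mod_eq_of_lt hp.one_lt]

/-- elements of order `p` generate conjugate subgroups -/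
theorem exists_conj_zpowers (hJ : Nat.card J = p * m) (hm : ¬ p ∣ m) {x y : J} (hx : orderOf x = p)
    (hy : orderOf y = p) : ∃ g, g * x * g⁻¹ ∈ zpowers y := by
  have hcx : Nat.card (zpowers x) = p ^ (Nat.card J).factorization p := by
    rw [Nat.card_zpowers, hx, factorization_one hJ hm, pow_one]
  have hcy : Nat.card (zpowers y) = p ^ (Nat.card J).factorization p := by
    rw [Nat.card_zpowers, hy, factorization_one hJ hm, pow_one]
  let P : Sylow p J := Sylow.ofCard (zpowers x) hcx
  let P' : Sylow p J := Sylow.ofCard (zpowers y) hcy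
  obtain ⟨g, hg⟩ := MulAction.exists_smul_eq J P P'
  refine ⟨g, ?_⟩
  have h1 : g * x * g⁻¹ ∈ ((g • P : Sylow p J) : Subgroup J) := by
    rw [Sylow.coe_subgroup_smul, Subgroup.mem_pointwise_smul_iff_inv_smul_mem]
    have : (MulAut.conj g)⁻¹ • (g * x * g⁻¹) = x := by
      rw [← map_inv, MulAut.smul_def, MulAut.conj_apply]
      group
    rw [this]
    exact mem_zpowers x
  rw [hg] at h1
  exact h1

end general

variable {J : Type*} [Group J] [Finite J] (R : SzRel.Rel J K8)

include R

/-- the centraliser of an element that is no 2-element has odd order -/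
theorem not_two_dvd {x : J} (hx : x ^ 4 ≠ 1) : ¬ 2 ∣ Nat.card (centralizer ({x} : Set J)) := by
  intro h
  obtain ⟨i, hi⟩ := exists_prime_orderOf_dvd_card' 2 h
  have hi2 : (i : J) * i = 1 := by
    have h1 : i * i = 1 := by rw [← sq, ← hi, pow_orderOf_eq_one]
    exact congrArg Subtype.val h1
  have hi1 : (i : J) ≠ 1 := by
    intro h1
    have h2 : i = 1 := Subtype.ext h1
    rw [h2, orderOf_one] at hi
    exact absurd hi (by norm_num)
  have hxi : (i : J) * x = x * i := mem_centralizer_singleton_iff.1 i.2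
  obtain ⟨g, hg⟩ := Count.exists_conj R hi2 hi1
  have h1 : (g⁻¹ * x * g) * R.u 0 1 = R.u 0 1 * (g⁻¹ * x * g) := by
    have h2 : R.u 0 1 = g⁻¹ * (i : J) * g := by rw [← hg]; group
    rw [h2]
    calc g⁻¹ * x * g * (g⁻¹ * (i : J) * g) = g⁻¹ * (x * i) * g := by group
      _ = g⁻¹ * (i * x) * g := by rw [hxi]
      _ = _ := by group
  have h2 : g⁻¹ * x * g ∈ R.T := R.mem_T_of_comm_Z ⟨1, rfl⟩ (R.u_ne_one one_ne_zero) h1
  have h3 := R.pow_four h2
  apply hx
  have h4 : (g⁻¹ * x * g) ^ 4 = g⁻¹ * x ^ 4 * g := by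
    have := conj_pow (a := g⁻¹) (b := x) (i := 4)
    rwa [inv_inv] at this
  rw [h4] at h3
  calc x ^ 4 = g * (g⁻¹ * x ^ 4 * g) * g⁻¹ := by group
    _ = 1 := by rw [h3]; group

omit [Finite J] in
theorem card_dvd (x : J) : Nat.card (centralizer ({x} : Set J)) ∣ 29120 := by
  rw [← Count.card_J R]
  exact Subgroup.card_subgroup_dvd_card _

omit R in
theorem mem_of_card {x g : J} (h : Nat.card (centralizer ({x} : Set J)) = orderOf x) (hg : g * x = x * g) :
    g ∈ zpowers x := by
  have h1 : zpowers x ≤ centralizer ({x} : Set J) := by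
    rw [zpowers_le, mem_centralizer_singleton_iff]
  have h2 : zpowers x = centralizer ({x} : Set J) := by
    apply Subgroup.eq_of_le_of_card_ge h1
    rw [h, Nat.card_zpowers]
  rw [h2, mem_centralizer_singleton_iff]
  exact hg

omit R [Finite J] in
theorem card_of_forall {x : J} (h : ∀ g, g * x = x * g → g ∈ zpowers x) :
    Nat.card (centralizer ({x} : Set J)) = orderOf x := by
  have h2 : zpowers x = centralizer ({x} : Set J) := by
    apply le_antisymm
    · rw [zpowers_le, mem_centralizer_singleton_iff]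
    · intro g hg
      exact h g (mem_centralizer_singleton_iff.1 hg)
  rw [← h2, Nat.card_zpowers]

omit R [Finite J] in
theorem pow_four_ne {x : J} {n : ℕ} (hx : orderOf x = n) (hn : ¬ n ∣ 4) : x ^ 4 ≠ 1 := by
  intro h
  exact hn (hx ▸ orderOf_dvd_of_pow_eq_one h)

/-- `C(x) = ⟨x⟩` for `|x| = 7` -/
theorem cent7 {x g : J} (hx : orderOf x = 7) (h : g * x = x * g) : g ∈ zpowers x := by
  have : Fact (Nat.Prime 7) := ⟨by norm_num⟩
  have hJ : Nat.card J = 7 * 4160 := Count.card_J R
  -- a generator of the torus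
  have hk7 : ∀ k : K8ˣ, k ^ 7 = 1 := by
    intro k
    apply Units.ext
    rcases K8.pow_seven (k : K8) with h1 | h1
    · exact absurd h1 k.ne_zero
    · rw [Units.val_pow_eq_pow_val, h1, Units.val_one]
  have hd : ∀ (k : K8ˣ) (n : ℕ), R.d k ^ n = R.d (k ^ n) := by
    intro k n
    induction n with
    | zero => rw [pow_zero, pow_zero, R.d_one]
    | succ n ih => rw [pow_succ, pow_succ, ih, R.d_mul]
  let k0 : K8ˣ := Units.mk0 K8.al (by decide +kernel)
  have hk0 : k0 ≠ 1 := by
    intro h1
    have : (k0 : K8) = 1 := congrArg Units.val h1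
    revert this
    show K8.al = 1 → False
    decide +kernel
  have hy : orderOf (R.d k0) = 7 := by
    apply orderOf_eq_prime
    · rw [hd, hk7, R.d_one]
    · intro h1
      exact hk0 (R.d_inj (h1.trans R.d_one.symm))
  obtain ⟨a, ha⟩ := exists_conj_zpowers hJ (by norm_num) hx hy
  obtain ⟨n, hn⟩ := mem_zpowers_iff.1 ha
  have hD : a * x * a⁻¹ ∈ R.D := by
    rw [← hn]
    exact zpow_mem (R.d_mem k0) n
  obtain ⟨k, hk⟩ := hD
  have hk1 : k ≠ 1 := by
    rintro rfl
    rw [R.d_one] at hk
    have h1 : x = 1 := by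
      calc x = a⁻¹ * (a * x * a⁻¹) * a := by group
        _ = 1 := by rw [hk]; group
    rw [h1, orderOf_one] at hx
    exact absurd hx (by norm_num)
  have h1 : (a * g * a⁻¹) * R.d k = R.d k * (a * g * a⁻¹) := by
    rw [← hk]
    calc a * g * a⁻¹ * (a * x * a⁻¹) = a * (g * x) * a⁻¹ := by group
      _ = a * (x * g) * a⁻¹ := by rw [h]
      _ = _ := by group
  obtain ⟨l, hl⟩ := R.cent_d hk1 h1
  -- `l` is a power of `k`
  have h2 : ∃ n : ℕ, l = k ^ n := by
    have hcard : Fintype.card K8ˣ = 7 := by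
      rw [Fintype.card_units, K8.card]
    have h3 : zpowers k = ⊤ := by
      have h4 : orderOf k = 7 := orderOf_eq_prime (hk7 k) hk1
      apply Subgroup.eq_top_of_card_eq
      rw [Nat.card_zpowers, h4, Nat.card_eq_fintype_card, hcard]
    have h4 : l ∈ zpowers k := by rw [h3]; exact mem_top _
    rw [mem_zpowers_iff_mem_range_orderOf] at h4
    obtain ⟨n, -, hn⟩ := Finset.mem_image.1 h4
    exact ⟨n, hn.symm⟩
  obtain ⟨n, rfl⟩ := h2
  rw [← hd, ← hk] at hl
  have h3 : g = x ^ n := by
    have h4 : a * g * a⁻¹ = a * x ^ n * a⁻¹ := by rw [hl, conj_pow]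
    have := mul_left_cancel (mul_right_cancel h4)
    exact this
  rw [h3]
  exact pow_mem (mem_zpowers x) n

/-- no element of order 7 commutes with an element of order `n`, `n` prime to 7 -/
theorem not_seven_dvd {x : J} {n : ℕ} (hx : orderOf x = n) (hn : ¬ n ∣ 7) : ¬ 7 ∣ Nat.card (centralizer ({x} : Set J)) := by
  intro h
  have : Fact (Nat.Prime 7) := ⟨by norm_num⟩
  obtain ⟨y, hy⟩ := exists_prime_orderOf_dvd_card' 7 h
  have hyx : (y : J) * x = x * y := mem_centralizer_singleton_iff.1 y.2
  have hy7 : orderOf (y : J) = 7 := by rw [← hy]; exact Subgroup.orderOf_coe y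
  have h1 := cent7 R hy7 hyx.symm
  have h2 : orderOf x ∣ orderOf (y : J) := orderOf_dvd_of_mem_zpowers h1
  rw [hx, hy7] at h2
  exact hn h2

theorem card_cent13 {x : J} (hx : orderOf x = 13) : Nat.card (centralizer ({x} : Set J)) = 13 := by
  have : Fact (Nat.Prime 13) := ⟨by norm_num⟩
  have hJ : Nat.card J = 13 * 2240 := Count.card_J R
  obtain ⟨e, n, h1, h2, h3, h4⟩ := count hJ (by norm_num) hx
  have h5 : 13 ∣ Nat.card (centralizer ({x} : Set J)) := by
    have h6 : orderOf x ∣ Nat.card (centralizer ({x} : Set J)) := by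
      have := orderOf_dvd_natCard (⟨x, mem_centralizer_singleton_iff.2 rfl⟩ : centralizer ({x} : Set J))
      rwa [Subgroup.orderOf_mk] at this
    rwa [hx] at h6
  have h6 := card_dvd R x
  have h7 := not_two_dvd R (pow_four_ne hx (by norm_num))
  have h8 := not_seven_dvd R hx (by norm_num)
  have h9 : ∀ c : ℕ, 13 ∣ c → c ∣ 29120 → ¬ 2 ∣ c → ¬ 7 ∣ c → c = 13 ∨ c = 65 := by
    intro c hc1 hc2 hc3 hc4
    obtain ⟨d, rfl⟩ := hc1
    have h10 : d ∣ 2240 := by
      have : (29120 : ℕ) = 13 * 2240 := by norm_num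
      rw [this] at hc2
      exact Nat.dvd_of_mul_dvd_mul_left (by norm_num) hc2
    have h11 : Nat.Coprime d 448 := by
      have e : (448 : ℕ) = 2 ^ 6 * 7 := by norm_num
      rw [e]
      apply Nat.Coprime.mul_right
      · apply Nat.Coprime.pow_right
        rw [Nat.coprime_comm, Nat.Prime.coprime_iff_not_dvd Nat.prime_two]
        exact fun h => hc3 (h.mul_left 13)
      · rw [Nat.coprime_comm, Nat.Prime.coprime_iff_not_dvd (by norm_num)]
        exact fun h => hc4 (h.mul_left 13)
    have h12 : d ∣ 5 := by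
      have e : (2240 : ℕ) = 5 * 448 := by norm_num
      rw [e] at h10
      exact h11.dvd_of_dvd_mul_right h10
    rcases (Nat.dvd_prime (by norm_num)).1 h12 with rfl | rfl
    · left; rfl
    · right; rfl
  rcases h9 _ h5 h6 h7 h8 with h | h
  · exact h
  · exfalso
    rw [h] at h1
    rw [← h1, hJ] at h2
    have h10 : e * n = 448 := by
      have : 65 * (e * n) = 65 * 448 := by rw [← mul_assoc, h2]
      exact Nat.eq_of_mul_eq_mul_left (by norm_num) this
    have h11 : e ≤ 12 := Nat.le_of_dvd (by norm_num) h3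
    have h12 : e ≠ 0 := by rintro rfl; omega
    interval_cases e <;> omega

/-- `C(x) = ⟨x⟩` for `|x| = 13` -/
theorem cent13 {x g : J} (hx : orderOf x = 13) (h : g * x = x * g) : g ∈ zpowers x :=
  mem_of_card (by rw [card_cent13 R hx, hx]) h

theorem card_cent5 {x : J} (hx : orderOf x = 5) : Nat.card (centralizer ({x} : Set J)) = 5 := by
  have h5 : 5 ∣ Nat.card (centralizer ({x} : Set J)) := by
    have h6 : orderOf x ∣ Nat.card (centralizer ({x} : Set J)) := by
      have := orderOf_dvd_natCard (⟨x, mem_centralizer_singleton_iff.2 rfl⟩ : centralizer ({x} : Set J))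
      rwa [Subgroup.orderOf_mk] at this
    rwa [hx] at h6
  have h6 := card_dvd R x
  have h7 := not_two_dvd R (pow_four_ne hx (by norm_num))
  have h8 := not_seven_dvd R hx (by norm_num)
  have h13 : ¬ 13 ∣ Nat.card (centralizer ({x} : Set J)) := by
    intro h
    have : Fact (Nat.Prime 13) := ⟨by norm_num⟩
    obtain ⟨y, hy⟩ := exists_prime_orderOf_dvd_card' 13 h
    have hyx : (y : J) * x = x * y := mem_centralizer_singleton_iff.1 y.2
    have hy7 : orderOf (y : J) = 13 := by rw [← hy]; exact Subgroup.orderOf_coe y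
    have h1 := cent13 R hy7 hyx.symm
    have h2 : orderOf x ∣ orderOf (y : J) := orderOf_dvd_of_mem_zpowers h1
    rw [hx, hy7] at h2
    exact absurd h2 (by norm_num)
  have h11 : Nat.Coprime (Nat.card (centralizer ({x} : Set J))) 5824 := by
    have e : (5824 : ℕ) = 2 ^ 6 * (7 * 13) := by norm_num
    rw [e]
    apply Nat.Coprime.mul_right
    · apply Nat.Coprime.pow_right
      rw [Nat.coprime_comm, Nat.Prime.coprime_iff_not_dvd Nat.prime_two]
      exact h7
    · apply Nat.Coprime.mul_right
      · rw [Nat.coprime_comm, Nat.Prime.coprime_iff_not_dvd (by norm_num)]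
        exact h8
      · rw [Nat.coprime_comm, Nat.Prime.coprime_iff_not_dvd (by norm_num)]
        exact h13
  have h12 : Nat.card (centralizer ({x} : Set J)) ∣ 5 := by
    have e : (29120 : ℕ) = 5 * 5824 := by norm_num
    rw [e] at h6
    exact h11.dvd_of_dvd_mul_right h6
  exact Nat.dvd_antisymm h12 h5

/-- `C(x) = ⟨x⟩` for `|x| = 5` -/
theorem cent5 {x g : J} (hx : orderOf x = 5) (h : g * x = x * g) : g ∈ zpowers x :=
  mem_of_card (by rw [card_cent5 R hx, hx]) h

theorem card_cent7 {x : J} (hx : orderOf x = 7) : Nat.card (centralizer ({x} : Set J)) = 7 := by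
  rw [card_of_forall (fun g hg => cent7 R hx hg), hx]

/-- `|N(⟨x⟩)| = 20` for `|x| = 5` -/
theorem card_norm5 {x : J} (hx : orderOf x = 5) :
    Nat.card (normalizer ((zpowers x : Subgroup J) : Set J)) = 20 := by
  have : Fact (Nat.Prime 5) := ⟨by norm_num⟩
  have hJ : Nat.card J = 5 * 5824 := Count.card_J R
  obtain ⟨e, n, h1, h2, h3, h4⟩ := count hJ (by norm_num) hx
  rw [card_cent5 R hx] at h1
  rw [← h1] at h2 ⊢
  have h11 : e ≤ 4 := Nat.le_of_dvd (by norm_num) h3
  have h12 : e ≠ 0 := by rintro rfl; omega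
  interval_cases e <;> omega

/-- `|N(⟨x⟩)| = 14` for `|x| = 7` -/
theorem card_norm7 {x : J} (hx : orderOf x = 7) :
    Nat.card (normalizer ((zpowers x : Subgroup J) : Set J)) = 14 := by
  have : Fact (Nat.Prime 7) := ⟨by norm_num⟩
  have hJ : Nat.card J = 7 * 4160 := Count.card_J R
  obtain ⟨e, n, h1, h2, h3, h4⟩ := count hJ (by norm_num) hx
  rw [card_cent7 R hx] at h1
  rw [← h1] at h2 ⊢
  have h11 : e ≤ 6 := Nat.le_of_dvd (by norm_num) h3
  have h12 : e ≠ 0 := by rintro rfl; omega
  interval_cases e <;> omega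

/-- `|N(⟨x⟩)| = 52` for `|x| = 13` -/
theorem card_norm13 {x : J} (hx : orderOf x = 13) :
    Nat.card (normalizer ((zpowers x : Subgroup J) : Set J)) = 52 := by
  have : Fact (Nat.Prime 13) := ⟨by norm_num⟩
  have hJ : Nat.card J = 13 * 2240 := Count.card_J R
  obtain ⟨e, n, h1, h2, h3, h4⟩ := count hJ (by norm_num) hx
  rw [card_cent13 R hx] at h1
  rw [← h1] at h2 ⊢
  have h11 : e ≤ 12 := Nat.le_of_dvd (by norm_num) h3
  have h12 : e ≠ 0 := by rintro rfl; omega
  interval_cases e <;> omega

end Cfsg.Agent.RuB.LFacts
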