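import Cfsg.Agent.RuB.Count
import Cfsg.Agent.RuB.QGroup

/-!
# Elements normalising `V` and centralising a torus element (RU, helper143)

* `conj_L`: an element normalising `V` normalises `L`.
* `comm_v_of_comm_dk`: if moreover it commutes with `dk k`, `k ≠ 1`, then its square centralises `V`.
-/

set_option autoImplicit false

namespace Cfsg.Agent.RuB.NormL

open Subgroup
open Cfsg.Agent.ThreePrime

section rel

variable {J : Type*} [Group J] (R : SzRel.Rel J K8)

include R in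
theorem finite_J : Finite J := Nat.finite_of_card_ne_zero (by rw [Count.card_J R]; norm_num)

theorem conj_d' (k : K8ˣ) (a b : K8) : R.d k * R.u a b * (R.d k)⁻¹ = R.u (a * (k : K8) ^ 5) (b * (k : K8) ^ 4) := by
  have h := R.conj_d k a b
  rw [K8.theta_eq R.θ R.sq] at h
  have hk : (k : K8) ^ 7 = 1 := by
    rcases K8.pow_seven (k : K8) with h1 | h1
    · exact absurd h1 k.ne_zero
    · exact h1
  have h2 : a * (k : K8) ^ 2 * ((k : K8) ^ 4)⁻¹ = a * (k : K8) ^ 5 := by
    have hk0 : ((k : K8) ^ 4) ≠ 0 := pow_ne_zero _ k.ne_zero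
    field_simp
    linear_combination (-a) * hk
  rw [h2] at h
  exact h

theorem unit_eq (k : K8ˣ) : ((k ^ 3)⁻¹ * (k ^ 3)⁻¹ : K8ˣ) = k := by
  have h7 : k ^ 7 = 1 := by
    apply Units.ext
    rcases K8.pow_seven (k : K8) with h1 | h1
    · exact absurd h1 k.ne_zero
    · rw [Units.val_pow_eq_pow_val, h1, Units.val_one]
  rw [← mul_inv, ← pow_add]
  rw [inv_eq_iff_mul_eq_one, ← pow_succ]
  exact h7

include R in
/-- `Sz(8)` is perfect -/
theorem perfect : commutator J = ⊤ := by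
  have hfin := finite_J R
  set N := commutator J with hN
  have hnorm : N.Normal := by rw [hN]; infer_instance
  have hcomm : ∀ x y : J, x * y * x⁻¹ * y⁻¹ ∈ N := fun x y => commutator_mem_commutator (mem_top x) (mem_top y)
  let k0 : K8ˣ := Units.mk0 K8.al (by decide +kernel)
  have hu : ∀ a b, R.u a b ∈ N := by
    intro a b
    have hall : ∀ a b : K8, ∃ c e : K8, c * K8.al ^ 5 + c = a ∧
        e * K8.al ^ 4 + (e + c * c ^ 4) + c * K8.al ^ 5 * c ^ 4 = b := by decide +kernel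
    obtain ⟨c, e, h1, h2⟩ := hall a b
    have h3 := hcomm (R.d k0) (R.u c e)
    rw [conj_d' R, R.u_inv, K8.theta_eq R.θ R.sq, R.u_mul, K8.theta_eq R.θ R.sq] at h3
    have h4 : (k0 : K8) = K8.al := rfl
    rw [h4, h1, h2] at h3
    exact h3
  have hd : ∀ k, R.d k ∈ N := by
    intro k
    have h3 := hcomm R.w (R.d (k ^ 3))
    rw [R.w_inv, R.w_mul_d, mul_assoc (R.d _) R.w R.w, R.w_mul_w, mul_one, R.d_inv, R.d_mul] at h3
    have h4 := unit_eq k
    rw [h4] at h3
    exact h3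
  have hw : R.w ∈ N := by
    obtain ⟨g, hg⟩ := Count.exists_conj R R.w_mul_w R.w_ne_one
    rw [← hg]
    exact hnorm.conj_mem _ (hu 0 1) g
  rw [eq_top_iff]
  intro g _
  rcases R.bruhat g with ⟨a, b, k, rfl⟩ | ⟨a, b, c, e, k, rfl⟩
  · exact mul_mem (hu _ _) (hd _)
  · exact mul_mem (mul_mem (hu _ _) hw) (mul_mem (hu _ _) (hd _))

/-- the image of `T` under an automorphism is a conjugate of `T` -/
theorem exists_conj_T (φ : J ≃* J) : ∃ m : J, m * R.u 0 1 * m⁻¹ = φ (R.u 0 1) ∧ ∀ x ∈ R.T, m⁻¹ * φ x * m ∈ R.T := by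
  have hfin := finite_J R
  have h1 : φ (R.u 0 1) * φ (R.u 0 1) = 1 := by
    rw [← map_mul, (R.u_sq_iff 0 1).2 rfl, map_one]
  have h2 : φ (R.u 0 1) ≠ 1 := by
    intro h
    exact R.u_ne_one one_ne_zero ((map_eq_one_iff φ φ.injective).1 h)
  obtain ⟨m, hm⟩ := Count.exists_conj R h1 h2
  refine ⟨m, hm, fun x hx => ?_⟩
  apply R.mem_T_of_comm_Z (z := R.u 0 1) ⟨1, rfl⟩ (R.u_ne_one one_ne_zero)
  have h3 : x * R.u 0 1 = R.u 0 1 * x := by
    obtain ⟨a, b, rfl⟩ := hx
    rw [R.comm_iff, map_zero, mul_zero, zero_mul]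
  have h4 : R.u 0 1 = m⁻¹ * φ (R.u 0 1) * m := by rw [← hm]; group
  rw [h4]
  calc m⁻¹ * φ x * m * (m⁻¹ * φ (R.u 0 1) * m) = m⁻¹ * (φ x * φ (R.u 0 1)) * m := by group
    _ = m⁻¹ * (φ (R.u 0 1) * φ x) * m := by rw [← map_mul, h3, map_mul]
    _ = _ := by group

/-- the only conjugates of `T` normalised by the torus are `T` and `T ^ w` -/
theorem two_sides {m : J} {k : K8ˣ} (hk : k ≠ 1) (h : m⁻¹ * R.d k * m ∈ normalizer (R.T : Set J)) :
    (∀ x ∈ R.T, m * x * m⁻¹ ∈ R.T) ∨ ∀ x ∈ R.T, R.w * (m * x * m⁻¹) * R.w ∈ R.T := by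
  rcases R.bruhat m with ⟨a, b, l, rfl⟩ | ⟨a, b, c, e, l, rfl⟩
  · left
    intro x hx
    exact R.conj_ud_mem hx
  · right
    -- `u a b = 1`
    have h1 : R.w * ((R.u a b)⁻¹ * R.d k * R.u a b) * R.w ∈ normalizer (R.T : Set J) := by
      have h2 := R.ud_mem_normalizer c e l
      have h3 := mul_mem (mul_mem h2 h) (inv_mem h2)
      have h4 : R.u c e * R.d l * ((R.u a b * R.w * (R.u c e * R.d l))⁻¹ * R.d k * (R.u a b * R.w * (R.u c e * R.d l))) *
          (R.u c e * R.d l)⁻¹ = (R.w)⁻¹ * ((R.u a b)⁻¹ * R.d k * R.u a b) * R.w := by group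
      rw [h4, R.w_inv] at h3
      exact h3
    have hub : R.u a b ∈ normalizer (R.T : Set J) := by
      have := R.ud_mem_normalizer a b 1
      rwa [R.d_one, mul_one] at this
    have h2 : (R.u a b)⁻¹ * R.d k * R.u a b ∈ normalizer (R.T : Set J) :=
      mul_mem (mul_mem (inv_mem hub) (R.D_le (R.d_mem k))) hub
    obtain ⟨k', hk'⟩ := R.mem_D_of h2 h1
    have h3 : R.d k * R.u a b = R.u a b * R.d k' := by
      rw [← hk']; group
    have h4 : R.u (a * (k : K8) ^ 5) (b * (k : K8) ^ 4) * R.d k = R.u a b * R.d k' := by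
      rw [← conj_d' R, ← h3]; group
    obtain ⟨h5, h6, -⟩ := R.ud_inj h4
    have h7 : R.d k * R.u a b * (R.d k)⁻¹ = R.u a b := by rw [conj_d' R, h5, h6]
    rcases R.fpf h7 with h8 | ⟨rfl, rfl⟩
    · exact absurd h8 hk
    · intro x hx
      have h9 := R.conj_ud_mem (a := c) (b := e) (k := l) hx
      have h10 : R.w * (R.u 0 0 * R.w * (R.u c e * R.d l) * x * (R.u 0 0 * R.w * (R.u c e * R.d l))⁻¹) * R.w =
          R.u c e * R.d l * x * (R.u c e * R.d l)⁻¹ := by
        rw [R.u_zero, one_mul]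
        calc R.w * (R.w * (R.u c e * R.d l) * x * (R.w * (R.u c e * R.d l))⁻¹) * R.w
            = (R.w * R.w) * (R.u c e * R.d l) * x * (R.u c e * R.d l)⁻¹ * ((R.w)⁻¹ * R.w) := by group
          _ = _ := by rw [R.w_mul_w, inv_mul_cancel, one_mul, mul_one]
      rw [h10]
      exact h9

/-- the square of an automorphism fixing a torus element preserves `T` -/
theorem sq_preserves (φ : J ≃* J) {k : K8ˣ} (hk : k ≠ 1) (h : φ (R.d k) = R.d k) : ∀ x ∈ R.T, φ (φ x) ∈ R.T := by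
  have hfin := finite_J R
  obtain ⟨m, hm, hT⟩ := exists_conj_T R φ
  have hn : m⁻¹ * R.d k * m ∈ normalizer (R.T : Set J) := by
    refine R.ti (x := R.u 0 1) (R.u_mem 0 1) (R.u_ne_one one_ne_zero) ?_
    have h1 := hT (R.d k * R.u 0 1 * (R.d k)⁻¹) (by rw [conj_d' R]; exact R.u_mem _ _)
    rw [map_mul, map_mul, map_inv, h, ← hm] at h1
    have h2 : m⁻¹ * R.d k * m * R.u 0 1 * (m⁻¹ * R.d k * m)⁻¹ =
        m⁻¹ * (R.d k * (m * R.u 0 1 * m⁻¹) * (R.d k)⁻¹) * m := by group
    rw [h2]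
    exact h1
  rcases two_sides R hk hn with h1 | h1
  · have h2 : ∀ x ∈ R.T, φ x ∈ R.T := by
      intro x hx
      have h3 := h1 _ (hT x hx)
      have h4 : m * (m⁻¹ * φ x * m) * m⁻¹ = φ x := by group
      rwa [h4] at h3
    intro x hx
    exact h2 _ (h2 x hx)
  · have h2 : ∀ x ∈ R.T, R.w * φ x * R.w ∈ R.T := by
      intro x hx
      have h3 := h1 _ (hT x hx)
      have h4 : m * (m⁻¹ * φ x * m) * m⁻¹ = φ x := by group
      rwa [h4] at h3
    -- `φ w = w d`
    have h5 : (φ R.w * R.w) * R.d k = R.d k * (φ R.w * R.w) := by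
      have h6 : R.w * R.d k = (R.d k)⁻¹ * R.w := by rw [R.w_mul_d, R.d_inv]
      have h7 : φ R.w * (R.d k)⁻¹ = R.d k * φ R.w := by
        have h8 : R.w * (R.d k)⁻¹ = R.d k * R.w := by
          rw [R.d_inv, R.w_mul_d, inv_inv]
        have h9 := congrArg φ h8
        rw [map_mul, map_mul, map_inv, h] at h9
        exact h9
      calc φ R.w * R.w * R.d k = φ R.w * (R.w * R.d k) := by group
        _ = (φ R.w * (R.d k)⁻¹) * R.w := by rw [h6]; group
        _ = _ := by rw [h7]; group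
    obtain ⟨l, hl⟩ := R.cent_d hk h5
    have h6 : φ R.w = R.d l * R.w := by
      calc φ R.w = φ R.w * (R.w * R.w) := by rw [R.w_mul_w, mul_one]
        _ = (φ R.w * R.w) * R.w := by group
        _ = _ := by rw [hl]
    intro x hx
    -- `φ (w φ x w) = φ w φ² x φ w`
    have hwx : R.w * φ x * R.w ∈ R.T := h2 x hx
    have h7 := h2 _ hwx
    rw [map_mul, map_mul, h6] at h7
    have h8 : R.w * (R.d l * R.w * φ (φ x) * (R.d l * R.w)) * R.w = (R.w * R.d l * R.w) * φ (φ x) * (R.d l) * (R.w * R.w) := by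
      group
    have h9 : R.w * R.d l * R.w = (R.d l)⁻¹ := by
      rw [R.w_mul_d, mul_assoc, R.w_mul_w, mul_one, R.d_inv]
    rw [h8, h9, R.w_mul_w, mul_one] at h7
    obtain ⟨a, b, hab⟩ := h7
    have h10 : φ (φ x) = R.d l * R.u a b * (R.d l)⁻¹ := by rw [← hab]; group
    rw [h10, conj_d' R]
    exact R.u_mem _ _

end rel

variable {G : Type*} [Group G] (C : Core G)

/-- `g` normalises `V` -/
def NV (g : G) : Prop := ∀ a, ∃ a', g * C.v a * g⁻¹ = C.v a'

variable {C}

theorem NV.inv {g : G} (h : NV C g) : NV C g⁻¹ := by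
  choose f hf using h
  have hinj : Function.Injective f := by
    intro a b hab
    have h1 : g * C.v a * g⁻¹ = g * C.v b * g⁻¹ := by rw [hf, hf, hab]
    exact C.v_inj (mul_left_cancel (mul_right_cancel h1))
  have hsurj := Finite.surjective_of_injective hinj
  intro a
  obtain ⟨b, hb⟩ := hsurj a
  refine ⟨b, ?_⟩
  rw [inv_inv, ← hb, ← hf]
  group

theorem NV.mul {g h : G} (hg : NV C g) (hh : NV C h) : NV C (g * h) := by
  intro a
  obtain ⟨b, hb⟩ := hh a
  obtain ⟨c, hc⟩ := hg b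
  refine ⟨c, ?_⟩
  rw [← hc, ← hb]
  group

theorem NV.conj_mem {g : G} (h : NV C g) {l : G} (hl : l ∈ C.L) : g * l * g⁻¹ ∈ C.L := by
  have key : ∀ x ∈ C.L, ∃ b, ∃ x' ∈ C.L, g * x * g⁻¹ = C.v b * x' := by
    intro x hx
    refine C.cent (1, 0) (by decide) _ ?_
    obtain ⟨a', ha'⟩ := h.inv (1, 0)
    rw [inv_inv] at ha'
    have h1 : C.v (1, 0) = g * C.v a' * g⁻¹ := by rw [← ha']; group
    rw [h1]
    have h2 := C.v_comm a' x hx
    calc g * x * g⁻¹ * (g * C.v a' * g⁻¹) = g * (x * C.v a') * g⁻¹ := by group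
      _ = g * (C.v a' * x) * g⁻¹ := by rw [h2]
      _ = _ := by group
  let φ : C.L →* G := (MulAut.conj g).toMonoidHom.comp C.L.subtype
  have h1 : commutator C.L ≤ C.L.comap φ := by
    rw [commutator_def, commutator_le]
    intro x _ y _
    rw [mem_comap]
    obtain ⟨b, x', hx', hxx⟩ := key x x.2
    obtain ⟨c, y', hy', hyy⟩ := key y y.2
    have h2 : φ x = C.v b * x' := hxx
    have h3 : φ y = C.v c * y' := hyy
    rw [map_commutatorElement, h2, h3, commutatorElement_def]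
    have h4 := C.v_comm b x' hx'
    have h5 := C.v_comm c y' hy'
    have h6 := C.v_comm b y' hy'
    have h7 := C.v_comm c x' hx'
    have h8 := C.v_v_comm b c
    have h9 : C.v b * x' * (C.v c * y') * (C.v b * x')⁻¹ * (C.v c * y')⁻¹ = x' * y' * x'⁻¹ * y'⁻¹ := by
      have e1 : C.v b * x' * (C.v c * y') = (x' * y') * (C.v b * C.v c) := by
        calc C.v b * x' * (C.v c * y') = (C.v b * x') * (C.v c * y') := by group
          _ = x' * (C.v b * (y' * C.v c)) := by rw [h4, h5]; group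
          _ = x' * ((C.v b * y') * C.v c) := by group
          _ = _ := by rw [h6]; group
      have e2 : C.v c * y' * (C.v b * x') = (y' * x') * (C.v b * C.v c) := by
        calc C.v c * y' * (C.v b * x') = (C.v c * y') * (C.v b * x') := by group
          _ = y' * (C.v c * (x' * C.v b)) := by rw [h4, h5]; group
          _ = y' * ((C.v c * x') * C.v b) := by group
          _ = y' * x' * (C.v c * C.v b) := by rw [h7]; group
          _ = _ := by rw [h8]
      calc C.v b * x' * (C.v c * y') * (C.v b * x')⁻¹ * (C.v c * y')⁻¹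
          = (C.v b * x' * (C.v c * y')) * (C.v c * y' * (C.v b * x'))⁻¹ := by group
        _ = ((x' * y') * (C.v b * C.v c)) * ((y' * x') * (C.v b * C.v c))⁻¹ := by rw [e2, e1]
        _ = _ := by group
    rw [h9]
    exact mul_mem (mul_mem (mul_mem hx' hy') (inv_mem hx')) (inv_mem hy')
  rw [perfect C.R] at h1
  exact h1 (mem_top (⟨l, hl⟩ : C.L))

/-- an element normalising `V` normalises `L` -/
theorem conj_L {g : G} (h : ∀ a, ∃ a', g * C.v a * g⁻¹ = C.v a') (l : G) : l ∈ C.L ↔ g * l * g⁻¹ ∈ C.L := by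
  constructor
  · intro hl
    exact NV.conj_mem h hl
  · intro hl
    have h1 := NV.conj_mem (NV.inv h) hl
    have h2 : g⁻¹ * (g * l * g⁻¹) * g⁻¹⁻¹ = l := by group
    rwa [h2] at h1

/-- conjugation by an element normalising `V` on `L` -/
def conjAut {g : G} (h : ∀ a, ∃ a', g * C.v a * g⁻¹ = C.v a') : C.L ≃* C.L where
  toFun l := ⟨g * l * g⁻¹, (conj_L h l).1 l.2⟩
  invFun l := ⟨g⁻¹ * l * g, by
    rw [conj_L h]
    have h2 : g * (g⁻¹ * (l : G) * g) * g⁻¹ = l := by group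
    rw [h2]
    exact l.2⟩
  left_inv l := Subtype.ext (by show g⁻¹ * (g * (l : G) * g⁻¹) * g = l; group)
  right_inv l := Subtype.ext (by show g * (g⁻¹ * (l : G) * g) * g⁻¹ = l; group)
  map_mul' l m := Subtype.ext (by show g * ((l : G) * m) * g⁻¹ = g * l * g⁻¹ * (g * m * g⁻¹); group)

theorem exists_pow (k : K8ˣ) (hk : k ≠ 1) (l : K8ˣ) : ∃ n : ℕ, l = k ^ n := by
  have hcard : Fintype.card K8ˣ = 7 := by
    rw [Fintype.card_units, K8.card]
  have h7 : k ^ 7 = 1 := by rw [← hcard, pow_card_eq_one]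
  have : Fact (Nat.Prime 7) := ⟨by norm_num⟩
  have h3 : zpowers k = ⊤ := by
    have h4 : orderOf k = 7 := orderOf_eq_prime h7 hk
    apply Subgroup.eq_top_of_card_eq
    rw [Nat.card_zpowers, h4, Nat.card_eq_fintype_card, hcard]
  have h4 : l ∈ zpowers k := by rw [h3]; exact mem_top _
  rw [mem_zpowers_iff_mem_range_orderOf] at h4
  obtain ⟨n, -, hn⟩ := Finset.mem_image.1 h4
  exact ⟨n, hn.symm⟩

/-- the square of an element normalising `V` and commuting with a torus element centralises `V` -/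
theorem comm_v_of_comm_dk (hcz : ∀ g : G, (∀ b, g * C.z b = C.z b * g) → g ∈ C.QQ) {g : G}
    (hV : ∀ a, ∃ a', g * C.v a * g⁻¹ = C.v a') {k : K8ˣ} (hk : k ≠ 1) (hgk : g * C.dk k = C.dk k * g) (a : A4) :
    g * g * C.v a = C.v a * (g * g) := by
  -- `y = g²` normalises `Z`
  have hφ : conjAut hV (C.R.d k) = C.R.d k := by
    apply Subtype.ext
    show g * C.dk k * g⁻¹ = C.dk k
    rw [hgk, mul_inv_cancel_right]
  have h1 : ∀ b, ∃ b', g * g * C.z b * (g * g)⁻¹ = C.z b' := by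
    intro b
    obtain ⟨a', b', h2⟩ := sq_preserves C.R (conjAut hV) hk hφ (C.R.u 0 b) (C.R.u_mem 0 b)
    have h3 : g * g * C.z b * (g * g)⁻¹ = C.U a' b' := by
      have h4 := congrArg Subtype.val h2
      have h5 : g * (g * C.z b * g⁻¹) * g⁻¹ = C.U a' b' := h4
      rw [← h5]
      group
    have h4 : C.U a' b' * C.U a' b' = 1 := by
      rw [← h3]
      calc g * g * C.z b * (g * g)⁻¹ * (g * g * C.z b * (g * g)⁻¹) = g * g * (C.z b * C.z b) * (g * g)⁻¹ := by group
        _ = 1 := by rw [C.z_sq]; group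
    rw [C.U_sq] at h4
    have h5 : a' = 0 := Core.pow5_eq_zero _ (C.z_eq_one h4)
    subst h5
    exact ⟨b', h3⟩
  choose r hr using h1
  have hyk : (g * g) * C.dk k = C.dk k * (g * g) := by
    rw [mul_assoc, hgk, ← mul_assoc, hgk, mul_assoc]
  have hr0 : r 0 = 0 := by
    apply C.z_eq_one
    rw [← hr, C.z_zero]
    group
  have hrk : ∀ b, r (b * (k : K8) ^ 4) = r b * (k : K8) ^ 4 := by
    intro b
    apply C.z_inj
    rw [← hr, ← C.dk_z, ← C.dk_z, ← hr]
    have h2 : g * g * (C.dk k * C.z b * (C.dk k)⁻¹) * (g * g)⁻¹ =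
        (g * g * C.dk k) * C.z b * (g * g * C.dk k)⁻¹ := by group
    rw [h2, hyk]
    group
  have hk4 : k ^ 4 ≠ 1 := by
    have hall : ∀ x : K8, x ^ 4 = 1 → x = 1 := by decide +kernel
    intro h
    apply hk
    apply Units.ext
    rw [Units.val_one]
    apply hall
    rw [← Units.val_pow_eq_pow_val, h, Units.val_one]
  have hrn : ∀ n : ℕ, r (((k ^ 4) ^ n : K8ˣ) : K8) = r 1 * (((k ^ 4) ^ n : K8ˣ) : K8) := by
    intro n
    induction n with
    | zero => rw [pow_zero, Units.val_one, mul_one]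
    | succ n ih =>
      rw [pow_succ, Units.val_mul, Units.val_pow_eq_pow_val k 4, hrk, ih]
      ring
  have hlin : ∀ b, r b = r 1 * b := by
    intro b
    by_cases hb : b = 0
    · rw [hb, hr0, mul_zero]
    · obtain ⟨n, hn⟩ := exists_pow (k ^ 4) hk4 (Units.mk0 b hb)
      have h2 := hrn n
      rw [← hn, Units.val_mk0] at h2
      exact h2
  have hr1 : r 1 ≠ 0 := by
    intro h
    have h2 := hr 1
    rw [h, C.z_zero] at h2
    have h3 : C.z 1 = 1 := by
      calc C.z 1 = (g * g)⁻¹ * (g * g * C.z 1 * (g * g)⁻¹) * (g * g) := by group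
        _ = 1 := by rw [h2]; group
    exact one_ne_zero (C.z_eq_one h3)
  have hall : ∀ x : K8, x ≠ 0 → ∃ y : K8, y ≠ 0 ∧ x * y ^ 4 = 1 := by decide +kernel
  obtain ⟨y, hy0, hy⟩ := hall _ hr1
  let k' : K8ˣ := Units.mk0 y hy0
  have hx : C.dk k' * (g * g) ∈ C.QQ := by
    apply hcz
    intro b
    have h2 : C.dk k' * (g * g) * C.z b * (C.dk k' * (g * g))⁻¹ = C.z b := by
      have h3 : C.dk k' * (g * g) * C.z b * (C.dk k' * (g * g))⁻¹ =
          C.dk k' * (g * g * C.z b * (g * g)⁻¹) * (C.dk k')⁻¹ := by group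
      rw [h3, hr, C.dk_z, hlin]
      congr 1
      have h4 : (k' : K8) = y := rfl
      rw [h4]
      linear_combination b * hy
    rw [mul_inv_eq_iff_eq_mul] at h2
    exact h2
  have hdk : C.dk k' * C.dk k = C.dk k * C.dk k' := by
    have h2 := C.R.d_mul k' k
    have h3 := C.R.d_mul k k'
    rw [mul_comm k k', ← h2] at h3
    exact (congrArg Subtype.val h3).symm
  have hxk : C.dk k * (C.dk k' * (g * g)) * (C.dk k)⁻¹ = C.dk k' * (g * g) := by
    rw [mul_inv_eq_iff_eq_mul]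
    calc C.dk k * (C.dk k' * (g * g)) = (C.dk k * C.dk k') * (g * g) := by group
      _ = C.dk k' * (C.dk k * (g * g)) := by rw [← hdk]; group
      _ = _ := by rw [← hyk]; group
  obtain ⟨c, hc⟩ := hx
  have hc0 : c = 0 := by
    have h2 := Core.Act.dk hc k
    rw [hxk] at h2
    have h3 := h2.unique hc
    have hall : ∀ c k : K8, c * k ^ 4 = c → c = 0 ∨ k = 1 := by decide +kernel
    rcases hall _ _ h3 with h4 | h4
    · exact h4
    · exact absurd (Units.ext h4) hk
  subst hc0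
  obtain ⟨b, a', e, hxe⟩ := Core.TT_eq (C := C) (x := C.dk k' * (g * g)) hc
  have h2 : C.dk k * (C.v b * C.U a' e) * (C.dk k)⁻¹ = C.v b * C.U (a' * (k : K8) ^ 5) (e * (k : K8) ^ 4) := by
    calc C.dk k * (C.v b * C.U a' e) * (C.dk k)⁻¹ = (C.dk k * C.v b) * C.U a' e * (C.dk k)⁻¹ := by group
      _ = C.v b * (C.dk k * C.U a' e * (C.dk k)⁻¹) := by rw [C.dk_v_comm]; group
      _ = _ := by rw [C.dk_conj]
  rw [← hxe, hxk, hxe] at h2
  obtain ⟨-, h3, h4⟩ := Core.T_inj h2
  have h5 : a' = 0 := by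
    have hall : ∀ c k : K8, c = c * k ^ 5 → c = 0 ∨ k = 1 := by decide +kernel
    rcases hall _ _ h3 with h4 | h4
    · exact h4
    · exact absurd (Units.ext h4) hk
  have h6 : e = 0 := by
    have hall : ∀ c k : K8, c = c * k ^ 4 → c = 0 ∨ k = 1 := by decide +kernel
    rcases hall _ _ h4 with h4 | h4
    · exact h4
    · exact absurd (Units.ext h4) hk
  subst h5 h6
  rw [C.U_zero, mul_one] at hxe
  have h7 : g * g = (C.dk k')⁻¹ * C.v b := by rw [← hxe]; group
  rw [h7]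
  have h8 := C.dk_v_comm k' a
  have h9 := C.v_v_comm a b
  have h10 : (C.dk k')⁻¹ * C.v a = C.v a * (C.dk k')⁻¹ := by
    rw [inv_mul_eq_iff_eq_mul, ← mul_assoc, h8, mul_inv_cancel_right]
  calc (C.dk k')⁻¹ * C.v b * C.v a = (C.dk k')⁻¹ * (C.v a * C.v b) := by rw [h9]; group
    _ = (C.dk k')⁻¹ * C.v a * C.v b := by group
    _ = _ := by rw [h10]; group

end Cfsg.Agent.RuB.NormL
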