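import Cfsg.Agent.RuB.NormQ
import Cfsg.Agent.Ru127.Form

/-!
# `|N_G(Z)| = 2 ^ 14 * 21`
-/

set_option autoImplicit false

namespace Cfsg.Agent.RuB.NormZ

open Cfsg.Agent.RuB Cfsg.Agent.RuB.Core Cfsg.Agent.RuB.GLThree Cfsg.Agent.RuB.NormQ Cfsg.Agent.Ru127.Form

variable {G : Type*} [Group G] (C : Core G)

/-- the subgroup `Z` -/
def Zs : Subgroup G where
  carrier := {x | ∃ b, x = C.z b}
  mul_mem' := by
    rintro _ _ ⟨a, rfl⟩ ⟨b, rfl⟩
    exact ⟨a + b, (C.z_add a b).symm⟩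
  one_mem' := ⟨0, C.z_zero.symm⟩
  inv_mem' := by
    rintro _ ⟨a, rfl⟩
    exact ⟨a, C.z_inv a⟩

variable {C}

theorem mem_Zs {x : G} : x ∈ Zs C ↔ ∃ b, x = C.z b := Iff.rfl

theorem z_mem_Zs (b : K8) : C.z b ∈ Zs C := ⟨b, rfl⟩

theorem exists_ind {g : G} (hg : g ∈ nor (Zs C)) : ∃ r, Ind C g r := by
  have h : ∀ b, ∃ c, g * C.z b * g⁻¹ = C.z c := fun b => conj_mem_of_mem_nor hg (z_mem_Zs b)
  choose r hr using h
  exact ⟨r, hr⟩

theorem mem_nor_of_ind {g : G} {r : K8 → K8} (h : Ind C g r) : g ∈ nor (Zs C) := by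
  rw [mem_nor]
  have hinj : Function.Injective r := by
    intro a b hab
    have h1 : r (a + b) = 0 := by rw [h.add, hab, K8.add_self]
    exact K8.add_eq_zero (h.zero h1)
  have hsurj : Function.Surjective r := Finite.surjective_of_injective hinj
  ext x
  rw [mem_cj]
  constructor
  · rintro ⟨b, hb⟩
    refine ⟨r b, ?_⟩
    rw [← h, ← hb]
    group
  · rintro ⟨b, rfl⟩
    obtain ⟨c, rfl⟩ := hsurj b
    refine ⟨c, ?_⟩
    rw [← h]
    group

theorem dk_mem_nor (k : K8ˣ) : C.dk k ∈ nor (Zs C) := mem_nor_of_ind (ind_dk k)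

/-- `|Q| = 2 ^ 11` -/
theorem card_QQ (K : Coord C) : Nat.card C.QQ = 2 ^ 11 := by
  choose s hs hsπ using K.surj
  have e : ((A4 × K8 × K8) × K8) ≃ C.QQ := by
    refine Equiv.ofBijective (fun p => ⟨s p.1 * C.z p.2, mul_mem (hs _) (z_mem_QQ _)⟩) ⟨?_, ?_⟩
    · rintro ⟨w, a⟩ ⟨w', a'⟩ h
      simp only [Subtype.mk.injEq] at h
      have h1 : K.π (s w * C.z a) = K.π (s w' * C.z a') := by rw [h]
      rw [K.mul _ (hs _) _ (z_mem_QQ _), K.mul _ (hs _) _ (z_mem_QQ _), K.z, K.z, add_zero, add_zero,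
        hsπ, hsπ] at h1
      subst h1
      have h2 := C.z_inj (mul_left_cancel h)
      subst h2
      rfl
    · rintro ⟨x, hx⟩
      obtain ⟨e, he⟩ := K.eq_mul_z hx (hs (K.π x)) (hsπ _).symm
      exact ⟨(K.π x, e), Subtype.ext he.symm⟩
  rw [← Nat.card_congr e, Nat.card_prod, Nat.card_prod, Nat.card_prod, Nat.card_prod, K8.natCard,
    Nat.card_eq_fintype_card, ZMod.card]
  norm_num

/-- under `C_G(Z) = QQ`, the centraliser of `Z` is normalised by `nor Z` -/
theorem nor_QQ (hC : ∀ g, (∀ b, g * C.z b = C.z b * g) → g ∈ C.QQ) {g : G} {r : K8 → K8} (hg : Ind C g r) :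
    ∀ x, x ∈ C.QQ ↔ g * x * g⁻¹ ∈ C.QQ := by
  have hinj : Function.Injective r := by
    intro a b hab
    have h1 : r (a + b) = 0 := by rw [hg.add, hab, K8.add_self]
    exact K8.add_eq_zero (hg.zero h1)
  have hsurj : Function.Surjective r := Finite.surjective_of_injective hinj
  intro x
  constructor
  · intro hx
    apply hC
    intro b
    obtain ⟨c, rfl⟩ := hsurj b
    rw [← hg c]
    have := zcomm hx c
    calc g * x * g⁻¹ * (g * C.z c * g⁻¹) = g * (x * C.z c) * g⁻¹ := by group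
      _ = g * (C.z c * x) * g⁻¹ := by rw [this]
      _ = _ := by group
  · intro hx
    apply hC
    intro b
    have h1 := zcomm hx (r b)
    rw [← hg b] at h1
    calc x * C.z b = g⁻¹ * ((g * x * g⁻¹) * (g * C.z b * g⁻¹)) * g := by group
      _ = g⁻¹ * ((g * C.z b * g⁻¹) * (g * x * g⁻¹)) * g := by rw [h1]
      _ = _ := by group

theorem card_nor (K : Coord C) (hμ : K.μ ≠ 0) (hC : ∀ g, (∀ b, g * C.z b = C.z b * g) → g ∈ C.QQ)
    {g0 : G} (hg0 : g0 ∈ nor (Zs C)) (ht : ∃ x ∈ C.TT, g0 * x * g0⁻¹ ∉ C.TT) :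
    Nat.card (nor (Zs C)) = 2 ^ 14 * 21 := by
  -- the set of codes
  have hS : ∀ p, p < 512 → good p = true → ∃ g, ∃ r, Ind C g r ∧ cod r = p := by
    obtain ⟨r0, hr0⟩ := exists_ind hg0
    refine all_of (S := fun p => ∃ g, ∃ r, Ind C g r ∧ cod r = p) ?_ ?_ (cod_lt r0) ⟨g0, r0, hr0, rfl⟩
      (good_cod hr0.add (fun x hx => hr0.zero hx)) (not_semi K hμ hr0 (nor_QQ hC hr0) ht)
    · rintro _ _ ⟨g, r, hg, rfl⟩ ⟨h, s, hh, rfl⟩
      exact ⟨g * h, r ∘ s, hg.comp hh, cod_comp hg.add⟩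
    · intro m hm
      obtain ⟨c, hc, rfl⟩ := mem_ms m hm
      let k : K8ˣ := Units.mk0 (c ^ 2) (pow_ne_zero _ hc)
      have hk : (k : K8) ^ 4 = c := by
        show (c ^ 2) ^ 4 = c
        rw [← pow_mul]; exact K8.pow_eight c
      refine ⟨C.dk k, _, ind_dk k, ?_⟩
      rw [hk]
  choose! s rr hs hcod using hS
  choose r hr using fun g : nor (Zs C) => exists_ind g.2
  have e : ({p // p ∈ (Finset.range 512).filter fun p => good p = true} × C.QQ) ≃ nor (Zs C) := by
    have hp : ∀ p : {p // p ∈ (Finset.range 512).filter fun p => good p = true}, p.1 < 512 ∧ good p.1 = true := by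
      rintro ⟨p, hp⟩
      rw [Finset.mem_filter, Finset.mem_range] at hp
      exact hp
    have hQn : ∀ x ∈ C.QQ, Ind C x id := fun x hx => ind_one_iff.2 (fun b => zcomm hx b)
    refine Equiv.ofBijective (fun p => ⟨s p.1.1 * p.2.1, mem_nor_of_ind
      ((hs _ (hp p.1).1 (hp p.1).2).comp (hQn _ p.2.2))⟩) ⟨?_, ?_⟩
    · rintro ⟨p, x⟩ ⟨p', x'⟩ h
      simp only [Subtype.mk.injEq] at h
      have h1 := (hs _ (hp p).1 (hp p).2).comp (hQn _ x.2)
      have h2 := (hs _ (hp p').1 (hp p').2).comp (hQn _ x'.2)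
      rw [h] at h1
      have h3 := h1.unique h2
      rw [Function.comp_id, Function.comp_id] at h3
      have h4 : p = p' := by
        apply Subtype.ext
        rw [← hcod _ (hp p).1 (hp p).2, ← hcod _ (hp p').1 (hp p').2, h3]
      subst h4
      have h5 := mul_left_cancel h
      have h6 : x = x' := Subtype.ext h5
      rw [h6]
    · rintro ⟨g, hg⟩
      obtain ⟨r1, hr1⟩ := exists_ind hg
      have hgood : good (cod r1) = true := good_cod hr1.add (fun x hx => hr1.zero hx)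
      have h1 := hs _ (cod_lt r1) hgood
      have h2 : rr (cod r1) = r1 := cod_inj h1.add hr1.add (hcod _ (cod_lt r1) hgood)
      rw [h2] at h1
      have h3 : (s (cod r1))⁻¹ * g ∈ C.QQ := by
        apply hC
        intro b
        have e1 := h1 b
        have e2 := hr1 b
        rw [← e1] at e2
        calc (s (cod r1))⁻¹ * g * C.z b = (s (cod r1))⁻¹ * (g * C.z b * g⁻¹) * g := by group
          _ = (s (cod r1))⁻¹ * (s (cod r1) * C.z b * (s (cod r1))⁻¹) * g := by rw [e2]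
          _ = _ := by group
      refine ⟨(⟨cod r1, ?_⟩, ⟨_, h3⟩), ?_⟩
      · rw [Finset.mem_filter, Finset.mem_range]
        exact ⟨cod_lt r1, hgood⟩
      · apply Subtype.ext
        show s (cod r1) * ((s (cod r1))⁻¹ * g) = g
        group
  rw [← Nat.card_congr e, Nat.card_prod, card_QQ K, Nat.card_eq_fintype_card, Fintype.card_coe, card_good]
  norm_num

end Cfsg.Agent.RuB.NormZ
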