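import Cfsg.Agent.RuB.Plane

/-!
# `N(Q) ≤ N(T)` unless the coordinates are `(ν, μ) = (5, 7)`
-/

set_option autoImplicit false

namespace Cfsg.Agent.RuB.Core

variable {G : Type*} [Group G] {C : Core G}

/-- an element of `Q` commuting with `v b`, `b ≠ 0`, lies in `T` -/
theorem mem_TT_of_comm {x : G} (hx : x ∈ C.QQ) {b : A4} (hb : b ≠ 0) (h : x * C.v b = C.v b * x) : x ∈ C.TT := by
  obtain ⟨c, hc⟩ := hx
  have h1 := hc.2 b
  rw [h, mul_inv_cancel_right] at h1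
  have h2 : C.z (c * emb b) = 1 := by
    exact (left_eq_mul.1 h1)
  have h3 := C.z_eq_one h2
  rcases mul_eq_zero.1 h3 with h4 | h4
  · rw [h4] at hc; exact hc
  · exact absurd (emb_eq_zero.1 h4) hb

theorem comm_v_of_mem_TT {x : G} (hx : x ∈ C.TT) (b : A4) : x * C.v b = C.v b * x := by
  have h1 := hx.2 b
  rw [zero_mul, C.z_zero, mul_one] at h1
  exact mul_inv_eq_iff_eq_mul.1 h1

/-- an element of `Q` commuting with all of `Q` lies in `Z` -/
theorem eq_z_of_central {x : G} (hx : x ∈ C.QQ) (h : ∀ y ∈ C.QQ, x * y = y * x) : ∃ e, x = C.z e := by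
  have hxT : x ∈ C.TT := mem_TT_of_comm hx (b := (1, 0)) (by decide) (h _ (TT_le (v_mem_TT _)))
  obtain ⟨b, a, e, rfl⟩ := TT_eq hxT
  have ha : a = 0 := by
    have key : ∀ c, a * c ^ 4 + a ^ 4 * c = 0 := by
      intro c
      have h1 := h (C.U c 0) (TT_le (U_mem_TT c 0))
      have h2 : C.U a e * C.U c 0 * (C.U a e)⁻¹ = C.U c 0 := by
        rw [mul_inv_eq_iff_eq_mul]
        have h3 : C.v b * (C.U a e * C.U c 0) = C.v b * (C.U c 0 * C.U a e) := by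
          rw [← mul_assoc, h1, ← mul_assoc, ← mul_assoc, C.v_U_comm]
        exact mul_left_cancel h3
      rw [C.U_conj] at h2
      have h4 := (C.U_inj h2).2
      linear_combination h4
    have fin : ∀ a : K8, a * 1 ^ 4 + a ^ 4 * 1 = 0 → a * K8.al ^ 4 + a ^ 4 * K8.al = 0 → a = 0 := by decide +kernel
    exact fin a (key 1) (key K8.al)
  subst ha
  obtain ⟨w, hw⟩ := C.exists_act 1
  have h1 := h w ⟨1, hw⟩
  have h2 : w * C.v b * w⁻¹ = C.v b := by
    rw [mul_inv_eq_iff_eq_mul]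
    have h3 : C.v b * w * C.U 0 e = w * C.v b * C.U 0 e := by
      rw [← C.z_eq, mul_assoc, hw.1, ← mul_assoc, C.z_eq, h1, mul_assoc]
    exact (mul_right_cancel h3).symm
  rw [hw.2] at h2
  have h3 : C.z (1 * emb b) = 1 := mul_eq_left.1 h2
  have h4 := C.z_eq_one h3
  rw [one_mul, emb_eq_zero] at h4
  subst h4
  exact ⟨e, by rw [C.v_zero, one_mul, C.z_eq]⟩

variable {g : G} (hg : ∀ x, x ∈ C.QQ ↔ g * x * g⁻¹ ∈ C.QQ)

include hg

theorem conj_z_of_norm (e : K8) : ∃ e', g * C.z e * g⁻¹ = C.z e' := by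
  refine eq_z_of_central ((hg _).1 (z_mem_QQ e)) (fun y hy => ?_)
  have hy' : g⁻¹ * y * g ∈ C.QQ := by
    rw [hg]
    have : g * (g⁻¹ * y * g) * g⁻¹ = y := by group
    rwa [this]
  have h1 := zcomm hy' e
  calc g * C.z e * g⁻¹ * y = g * (C.z e * (g⁻¹ * y * g)) * g⁻¹ := by group
    _ = g * (g⁻¹ * y * g * C.z e) * g⁻¹ := by rw [h1]
    _ = _ := by group

theorem norm_inv : ∀ x, x ∈ C.QQ ↔ g⁻¹ * x * g⁻¹⁻¹ ∈ C.QQ := by
  intro x
  have h1 := hg (g⁻¹ * x * g)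
  have h2 : g * (g⁻¹ * x * g) * g⁻¹ = x := by group
  rw [h2] at h1
  rw [inv_inv]
  exact h1.symm

/-- enough: `v 1` goes to `E` -/
theorem norm_TT_of {b : A4} {e : K8} (h : g * C.v (1, 0) * g⁻¹ = C.v b * C.z e) (x : G) :
    x ∈ C.TT ↔ g * x * g⁻¹ ∈ C.TT := by
  have hb : b ≠ 0 := by
    rintro rfl
    rw [C.v_zero, one_mul] at h
    obtain ⟨e', he'⟩ := conj_z_of_norm (norm_inv hg) e
    rw [inv_inv, ← h] at he'
    have h1 : C.v (1, 0) = C.z e' := by rw [← he']; group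
    have h2 := C.v_notin (1, 0) (by rw [h1]; exact C.z_mem _)
    exact absurd h2 (by decide)
  constructor
  · intro hx
    have h1 := comm_v_of_mem_TT hx (1, 0)
    refine mem_TT_of_comm ((hg _).1 (TT_le hx)) hb ?_
    have h2 : g * x * g⁻¹ * (C.v b * C.z e) = C.v b * C.z e * (g * x * g⁻¹) := by
      rw [← h]
      calc g * x * g⁻¹ * (g * C.v (1, 0) * g⁻¹) = g * (x * C.v (1, 0)) * g⁻¹ := by group
        _ = g * (C.v (1, 0) * x) * g⁻¹ := by rw [h1]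
        _ = _ := by group
    have h3 := zcomm ((hg _).1 (TT_le hx)) e
    have h4 : g * x * g⁻¹ * C.v b * C.z e = C.v b * (g * x * g⁻¹) * C.z e := by
      rw [mul_assoc (C.v b), h3, ← mul_assoc (C.v b), ← h2, mul_assoc]
    exact mul_right_cancel h4
  · intro hx
    have hxQ : x ∈ C.QQ := (hg _).2 (TT_le hx)
    refine mem_TT_of_comm hxQ (b := (1, 0)) (by decide) ?_
    have h1 := comm_v_of_mem_TT hx b
    have h2 : g * x * g⁻¹ * (C.v b * C.z e) = C.v b * C.z e * (g * x * g⁻¹) := by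
      rw [← mul_assoc, h1, mul_assoc, hx.1 e, ← mul_assoc]
    rw [← h] at h2
    calc x * C.v (1, 0) = g⁻¹ * (g * x * g⁻¹ * (g * C.v (1, 0) * g⁻¹)) * g := by group
      _ = g⁻¹ * (g * C.v (1, 0) * g⁻¹ * (g * x * g⁻¹)) * g := by rw [h2]
      _ = _ := by group

/-- the good case -/
theorem norm_TT_coord (K : Coord C) (hK : ¬ (K.ν = ⟨5⟩ ∧ K.μ = ⟨7⟩)) (x : G) : x ∈ C.TT ↔ g * x * g⁻¹ ∈ C.TT := by
  have hgv : ∀ b, g * C.v b * g⁻¹ ∈ C.QQ := fun b => (hg _).1 (TT_le (v_mem_TT b))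
  have hq : ∀ b, qf K.ν K.μ (K.π (g * C.v b * g⁻¹)) = 0 := by
    intro b
    have h1 := K.sq _ (hgv b)
    have h2 : g * C.v b * g⁻¹ * (g * C.v b * g⁻¹) = 1 := by
      calc g * C.v b * g⁻¹ * (g * C.v b * g⁻¹) = g * (C.v b * C.v b) * g⁻¹ := by group
        _ = 1 := by rw [C.v_sq]; group
    rw [h2] at h1
    exact C.z_eq_one h1.symm
  -- kernels
  have hker : ∀ b, b ≠ 0 → ∀ y ∈ C.QQ, (bf K.μ (K.π (g * C.v b * g⁻¹)) (K.π y) = 0 ↔ g⁻¹ * y * g ∈ C.TT) := by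
    intro b hb y hy
    have hy' : g⁻¹ * y * g ∈ C.QQ := by
      have := (norm_inv hg y).1 hy
      rwa [inv_inv] at this
    have h1 := K.comm (hgv b) hy
    constructor
    · intro h0
      rw [h0, C.z_zero, mul_one] at h1
      refine mem_TT_of_comm hy' hb ?_
      calc g⁻¹ * y * g * C.v b = g⁻¹ * (y * (g * C.v b * g⁻¹)) * g := by group
        _ = g⁻¹ * (g * C.v b * g⁻¹ * y) * g := by rw [h1]
        _ = _ := by group
    · intro h0
      have h2 := comm_v_of_mem_TT h0 b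
      have h3 : g * C.v b * g⁻¹ * y = y * (g * C.v b * g⁻¹) := by
        calc g * C.v b * g⁻¹ * y = g * (C.v b * (g⁻¹ * y * g)) * g⁻¹ := by group
          _ = g * (g⁻¹ * y * g * C.v b) * g⁻¹ := by rw [h2]
          _ = _ := by group
      rw [h3] at h1
      exact C.z_eq_one (left_eq_mul.1 h1)
  have hsum : K.π (g * C.v (1, 0) * g⁻¹) + K.π (g * C.v (0, 1) * g⁻¹) = K.π (g * C.v (1, 1) * g⁻¹) := by
    rw [← K.mul _ (hgv _) _ (hgv _)]
    congr 1
    have : C.v (1, 1) = C.v (1, 0) * C.v (0, 1) := by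
      rw [← C.v_add]; rfl
    rw [this]; group
  have hfin : (K.π (g * C.v (1, 0) * g⁻¹)).2 = 0 ∧ (K.π (g * C.v (0, 1) * g⁻¹)).2 = 0 := by
    refine Plane.unique hK (hq _) (hq _) (by rw [hsum]; exact hq _) ?_ ?_ ?_
    · intro s
      obtain ⟨y, hy, rfl⟩ := K.surj s
      rw [hker _ (by decide) y hy, hker _ (by decide) y hy]
    · intro s
      obtain ⟨y, hy, rfl⟩ := K.surj s
      rw [hsum, hker _ (by decide) y hy, hker _ (by decide) y hy]
      exact id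
    · intro f
      obtain ⟨f', hf'⟩ := conj_z_of_norm (norm_inv hg) f
      rw [inv_inv] at hf'
      obtain ⟨w, hw⟩ := C.exists_act f'
      have hwQ : g * w * g⁻¹ ∈ C.QQ := (hg _).1 ⟨f', hw⟩
      refine ⟨K.π (g * w * g⁻¹), ?_⟩
      have h1 := K.comm (hgv (1, 0)) hwQ
      have h2 := hw.2 (1, 0)
      rw [emb_one, mul_one, mul_inv_eq_iff_eq_mul] at h2
      -- `w v = v z w`
      have h3 : C.v (1, 0) * w = w * C.v (1, 0) * C.z f' := by
        rw [h2, mul_assoc (C.v (1, 0)) (C.z f') w, ← hw.1 f', ← mul_assoc, mul_assoc (C.v (1, 0) * w), C.z_sq, mul_one]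
      have h4 : g * C.z f' * g⁻¹ = C.z f := by rw [← hf']; group
      have h5 : g * C.v (1, 0) * g⁻¹ * (g * w * g⁻¹) = g * w * g⁻¹ * (g * C.v (1, 0) * g⁻¹) * C.z f := by
        rw [← h4]
        calc g * C.v (1, 0) * g⁻¹ * (g * w * g⁻¹) = g * (C.v (1, 0) * w) * g⁻¹ := by group
          _ = g * (w * C.v (1, 0) * C.z f') * g⁻¹ := by rw [h3]
          _ = _ := by group
      rw [h1] at h5
      exact C.z_inj (mul_left_cancel h5)
  have h1 : (K.π (g * C.v (1, 0) * g⁻¹)) = K.π (C.v (K.π (g * C.v (1, 0) * g⁻¹)).1) := by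
    rw [K.v]
    exact Prod.ext rfl hfin.1
  obtain ⟨e, he⟩ := K.eq_mul_z (hgv _) (TT_le (v_mem_TT _)) h1
  exact norm_TT_of hg he x

/-- `N(Q) ≤ N(T)` unless the coordinates are `(5, 7)` -/
theorem norm_TT (h : ¬ ∃ K : Coord C, K.ν = ⟨5⟩ ∧ K.μ = ⟨7⟩) (x : G) : x ∈ C.TT ↔ g * x * g⁻¹ ∈ C.TT := by
  rcases dichotomy (C := C) with hgood | hbad
  · obtain ⟨K⟩ := exists_coord hgood
    exact norm_TT_coord hg K (fun hK => h ⟨K, hK⟩) x
  · have h1 : g * C.v (1, 0) * g⁻¹ ∈ C.QQ := (hg _).1 (TT_le (v_mem_TT _))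
    have h2 : g * C.v (1, 0) * g⁻¹ * (g * C.v (1, 0) * g⁻¹) = 1 := by
      calc g * C.v (1, 0) * g⁻¹ * (g * C.v (1, 0) * g⁻¹) = g * (C.v (1, 0) * C.v (1, 0)) * g⁻¹ := by group
        _ = 1 := by rw [C.v_sq]; group
    have h3 : g * C.v (1, 0) * g⁻¹ ∈ C.TT := by
      by_contra h4
      exact hbad _ h1 h4 0 0 (by rw [h2, C.v_zero, C.z_zero, mul_one])
    obtain ⟨b, a, e, h4⟩ := TT_eq h3
    rw [h4, T_sq] at h2
    have h5 := pow5_eq_zero _ (C.z_eq_one h2)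
    subst h5
    exact norm_TT_of hg (b := b) (e := e) (by rw [h4, C.z_eq]) x

end Cfsg.Agent.RuB.Core
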