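import Cfsg.Agent.RuB.LocChk
import Cfsg.Agent.RuB.NormZ
import Cfsg.Agent.RuB.CGZ
import Cfsg.Agent.RuB.Count
import Cfsg.Agent.RuB.NormTT

/-!
# `LocalData` for the Rudvalis configuration
-/

set_option autoImplicit false

namespace Cfsg.Agent.RuB.Local

open Cfsg.Agent.RuB Cfsg.Agent.RuB.Core Cfsg.Agent.RuB.NormZ Cfsg.Agent.RuB.NormQ Cfsg.Agent.Ru127
open Cfsg.Agent.Ru127.Form (nor mem_cj mem_nor IsCoord LocalData)
open Cfsg.Agent.Ru127.Inst (W8 q8 b8 R8 code qN bN inT tL)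
open Cfsg.Agent.RuB.Count (NoV ZC InvL zc_VL exists_grow' exists_conj_L z_one_inv)

/-! ### the general transport -/

section transport

variable {G : Type*} [Group G]

theorem mem_centralizer_cj {Y : Subgroup G} {g x : G} :
    x ∈ Subgroup.centralizer (Form.cj g Y : Set G) ↔ g⁻¹ * x * g ∈ Subgroup.centralizer (Y : Set G) := by
  rw [Subgroup.mem_centralizer_iff, Subgroup.mem_centralizer_iff]
  constructor
  · intro h y hy
    have h1 := h (g * y * g⁻¹) (by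
      show _ ∈ Form.cj g Y
      rw [mem_cj]
      have : g⁻¹ * (g * y * g⁻¹) * g = y := by group
      rw [this]
      exact hy)
    calc y * (g⁻¹ * x * g) = g⁻¹ * ((g * y * g⁻¹) * x) * g := by group
      _ = g⁻¹ * (x * (g * y * g⁻¹)) * g := by rw [h1]
      _ = _ := by group
  · intro h y hy
    have hy' : g⁻¹ * y * g ∈ Y := mem_cj.1 hy
    have h1 := h _ hy'
    calc y * x = g * ((g⁻¹ * y * g) * (g⁻¹ * x * g)) * g⁻¹ := by group
      _ = g * ((g⁻¹ * x * g) * (g⁻¹ * y * g)) * g⁻¹ := by rw [h1]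
      _ = _ := by group

theorem isCoord_cj {W F : Type} [AddCommGroup W] [AddCommGroup F] {D : Set G} {Y : Subgroup G}
    {R : Form.RuForm W F} {π : G → W} {ζ : F → G}
    (h : IsCoord D Y R π ζ) (hD : ∀ d ∈ D, ∀ g, g * d * g⁻¹ ∈ D) (g : G) :
    IsCoord D (Form.cj g Y) R (fun x => π (g⁻¹ * x * g)) (fun a => g * ζ a * g⁻¹) where
  π_mul := by
    intro x hx y hy
    rw [mem_centralizer_cj] at hx hy
    have e : g⁻¹ * (x * y) * g = (g⁻¹ * x * g) * (g⁻¹ * y * g) := by group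
    show π (g⁻¹ * (x * y) * g) = _
    rw [e, h.π_mul _ hx _ hy]
  π_surj := by
    intro w
    obtain ⟨x, hx, rfl⟩ := h.π_surj w
    refine ⟨g * x * g⁻¹, ?_, ?_⟩
    · rw [mem_centralizer_cj]
      have e : g⁻¹ * (g * x * g⁻¹) * g = x := by group
      rwa [e]
    · have e : g⁻¹ * (g * x * g⁻¹) * g = x := by group
      show π (g⁻¹ * (g * x * g⁻¹) * g) = _
      rw [e]
  π_ker := by
    intro x hx
    rw [mem_centralizer_cj] at hx
    rw [mem_cj]
    exact h.π_ker _ hx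
  le_cent := by
    intro x hx
    rw [mem_cj] at hx
    rw [mem_centralizer_cj]
    exact h.le_cent hx
  ζ_add := by
    intro a c
    show g * ζ (a + c) * g⁻¹ = (g * ζ a * g⁻¹) * (g * ζ c * g⁻¹)
    rw [h.ζ_add]
    group
  ζ_inj := by
    intro a c hac
    exact h.ζ_inj (mul_left_cancel (mul_right_cancel hac))
  ζ_range := by
    intro y
    rw [mem_cj, h.ζ_range]
    constructor
    · rintro ⟨a, ha⟩
      exact ⟨a, by show g * ζ a * g⁻¹ = y; rw [ha]; group⟩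
    · rintro ⟨a, ha⟩
      exact ⟨a, by rw [← ha]; group⟩
  sq := by
    intro x hx
    rw [mem_centralizer_cj] at hx
    have h1 := h.sq _ hx
    show x * x = g * ζ (R.q (π (g⁻¹ * x * g))) * g⁻¹
    rw [← h1]
    group
  comm := by
    intro x hx y hy
    rw [mem_centralizer_cj] at hx hy
    have h1 := h.comm _ hx _ hy
    show x⁻¹ * y⁻¹ * x * y = g * ζ (R.b (π (g⁻¹ * x * g)) (π (g⁻¹ * y * g))) * g⁻¹
    rw [← h1]
    group
  D_iff := by
    intro x hx
    rw [mem_centralizer_cj] at hx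
    show x ∈ D ↔ π (g⁻¹ * x * g) ∈ R.T
    rw [← h.D_iff _ hx]
    constructor
    · intro hxD
      have := hD _ hxD g⁻¹
      rwa [inv_inv] at this
    · intro hxD
      have := hD _ hxD g
      have e : g * (g⁻¹ * x * g) * g⁻¹ = x := by group
      rwa [e] at this

theorem card_nor_cj (Y : Subgroup G) (g : G) : Nat.card (nor (Form.cj g Y)) = Nat.card (nor Y) := by
  symm
  refine Nat.card_congr ⟨fun n => ⟨g * n.1 * g⁻¹, ?_⟩, fun n => ⟨g⁻¹ * n.1 * g, ?_⟩, fun n => ?_, fun n => ?_⟩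
  · rw [mem_nor, ← Form.cj_mul]
    have e : g * n.1 * g⁻¹ * g = g * n.1 := by group
    rw [e, Form.cj_mul, mem_nor.1 n.2]
  · have h := mem_nor.1 n.2
    rw [mem_nor, Form.cj_mul, Form.cj_mul, h, Form.cj_inv_cj]
  · apply Subtype.ext
    show g⁻¹ * (g * n.1 * g⁻¹) * g = n.1
    group
  · apply Subtype.ext
    show g * (g⁻¹ * n.1 * g) * g⁻¹ = n.1
    group

end transport

/-! ### the setting -/

variable {G : Type*} [Group G] (C : Core G)

/-- the conjugates of the `v a` -/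
def DD : Set G := {x | ∃ g a, a ≠ 0 ∧ x = g * C.v a * g⁻¹}

/-- the conjugates of `Z` -/
def ZZ : Set (Subgroup G) := {Y | ∃ g, Y = Form.cj g (Zs C)}

variable {C}

theorem v_mem_DD {a : A4} (ha : a ≠ 0) : C.v a ∈ DD C := ⟨1, a, ha, by group⟩

theorem DD_conj {d : G} (hd : d ∈ DD C) (g : G) : g * d * g⁻¹ ∈ DD C := by
  obtain ⟨h, a, ha, rfl⟩ := hd
  exact ⟨g * h, a, ha, by group⟩

theorem DD_of_conj {d g : G} (hd : g * d * g⁻¹ ∈ DD C) : d ∈ DD C := by
  have := DD_conj hd g⁻¹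
  have e : g⁻¹ * (g * d * g⁻¹) * g⁻¹⁻¹ = d := by group
  rwa [e] at this

theorem Zs_mem_ZZ : Zs C ∈ ZZ C := ⟨1, (Form.cj_one _).symm⟩

theorem cj_mem_ZZ {Y : Subgroup G} (hY : Y ∈ ZZ C) (g : G) : Form.cj g Y ∈ ZZ C := by
  obtain ⟨h, rfl⟩ := hY
  exact ⟨g * h, (Form.cj_mul _ _ _).symm⟩

theorem vz_mem_DD [Finite G] {a : A4} (ha : a ≠ 0) (e : K8) : C.v a * C.z e ∈ DD C := by
  by_cases he : e = 0
  · rw [he, C.z_zero, mul_one]
    exact v_mem_DD ha
  · have hl : InvL C (C.z e) := ⟨C.z_mem e, C.z_sq e, fun h => he (C.z_eq_one h)⟩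
    obtain ⟨x, hx⟩ := exists_grow' ha hl
    exact ⟨x, a, ha, hx.symm⟩

theorem vl_mem_DD [Finite G] {a : A4} (ha : a ≠ 0) {l : G} (hl : InvL C l) : C.v a * l ∈ DD C := by
  obtain ⟨x, hx⟩ := exists_grow' ha hl
  exact ⟨x, a, ha, hx.symm⟩

theorem card_cent_v [Finite G] {a : A4} (ha : a ≠ 0) :
    Nat.card (Subgroup.centralizer ({C.v a} : Set G)) = 4 * 29120 := by
  have e : (A4 × C.L) ≃ Subgroup.centralizer ({C.v a} : Set G) := by
    refine Equiv.ofBijective (fun p => ⟨C.v p.1 * p.2, ?_⟩) ⟨?_, ?_⟩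
    · rw [Subgroup.mem_centralizer_singleton_iff]
      have h1 := C.v_comm a _ p.2.2
      have h2 := C.v_v_comm a p.1
      calc C.v p.1 * p.2 * C.v a = C.v p.1 * (p.2 * C.v a) := by group
        _ = (C.v p.1 * C.v a) * p.2 := by rw [← h1]; group
        _ = C.v a * (C.v p.1 * p.2) := by rw [← h2]; group
    · rintro ⟨b, l⟩ ⟨b', l'⟩ h
      have h1 := C.vl_inj l.2 l'.2 (congrArg Subtype.val h)
      exact Prod.ext h1.1 (Subtype.ext h1.2)
    · rintro ⟨x, hx⟩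
      rw [Subgroup.mem_centralizer_singleton_iff] at hx
      obtain ⟨b, l, hl, rfl⟩ := C.cent a ha x hx
      exact ⟨(b, ⟨l, hl⟩), rfl⟩
  rw [← Nat.card_congr e, Nat.card_prod, Count.card_L, Nat.card_prod, Nat.card_eq_fintype_card, ZMod.card]

theorem noV [Finite G] (K : Coord C) : NoV C := by
  intro g b h
  have hb : b ≠ 0 := by
    rintro rfl
    rw [C.v_zero] at h
    have h1 : C.z 1 = 1 := by
      calc C.z 1 = g⁻¹ * (g * C.z 1 * g⁻¹) * g := by group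
        _ = 1 := by rw [h]; group
    exact one_ne_zero (C.z_eq_one h1)
  have h1 : Form.cj g C.QQ ≤ Subgroup.centralizer ({C.v b} : Set G) := by
    intro x hx
    rw [mem_cj] at hx
    rw [Subgroup.mem_centralizer_singleton_iff, ← h]
    have h2 := zcomm hx 1
    calc x * (g * C.z 1 * g⁻¹) = g * ((g⁻¹ * x * g) * C.z 1) * g⁻¹ := by group
      _ = g * (C.z 1 * (g⁻¹ * x * g)) * g⁻¹ := by rw [h2]
      _ = _ := by group
  have h2 : Nat.card (Form.cj g C.QQ) = 2 ^ 11 := by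
    rw [← card_QQ K]
    exact (Nat.card_congr (C.QQ.equivMapOfInjective _ (MulAut.conj g).injective).toEquiv).symm
  have h3 := Subgroup.card_dvd_of_le h1
  rw [h2, card_cent_v hb] at h3
  omega

theorem mem_cent_Zs {x : G} : x ∈ Subgroup.centralizer (Zs C : Set G) ↔ ∀ b, x * C.z b = C.z b * x := by
  rw [Subgroup.mem_centralizer_iff]
  constructor
  · intro h b
    exact (h _ (z_mem_Zs b)).symm
  · rintro h y ⟨b, rfl⟩
    exact (h b).symm

theorem qf_eq (w : W8) : qf ⟨5⟩ ⟨7⟩ w = q8 w := by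
  unfold qf q8
  ring

theorem bf_eq (x y : W8) : bf ⟨7⟩ x y = b8 x y := by
  unfold bf b8
  ring

/-! ### `C_G(Z) = Q` and the plane of an element of `N_G(Z)` -/

theorem val_eq_zero {a : K8} : a.val.val = 0 ↔ a = 0 := by
  constructor
  · intro h
    exact Inst.K8_val_inj (by rw [h]; rfl)
  · rintro rfl
    rfl

theorem cent_le [Finite G] (K : Coord C) (hμ : K.μ = ⟨7⟩) : ∀ g, (∀ b, g * C.z b = C.z b * g) → g ∈ C.QQ :=
  CGZ.cent_Z C K (fun _ hz hn => mem_QQ_of K (by rw [hμ]; decide +kernel) hz hn)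

theorem mem_cent_iff [Finite G] (K : Coord C) (hμ : K.μ = ⟨7⟩) {x : G} :
    x ∈ Subgroup.centralizer (Zs C : Set G) ↔ x ∈ C.QQ := by
  rw [mem_cent_Zs]
  exact ⟨cent_le K hμ x, fun h b => zcomm h b⟩

/-- an involution of class `D` inside `Q` is conjugate to some `v a` under `N_G(Z)` -/
theorem exists_nor_of_mem_DD [Finite G] (K : Coord C) {x : G} (hx : x ∈ C.QQ) (hD : x ∈ DD C) :
    ∃ n ∈ nor (Zs C), ∃ a, a ≠ 0 ∧ x = n * C.v a * n⁻¹ := by
  obtain ⟨h, a, ha, rfl⟩ := hD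
  have hL : ∀ b, h⁻¹ * C.z b * h ∈ C.L := by
    intro b
    by_cases hb : b = 0
    · rw [hb, C.z_zero]
      have : h⁻¹ * 1 * h = 1 := by group
      rw [this]
      exact one_mem _
    · have h1 : (h⁻¹ * C.z b * h) * C.v a = C.v a * (h⁻¹ * C.z b * h) := by
        have h2 := zcomm hx b
        calc (h⁻¹ * C.z b * h) * C.v a = h⁻¹ * (C.z b * (h * C.v a * h⁻¹)) * h := by group
          _ = h⁻¹ * ((h * C.v a * h⁻¹) * C.z b) * h := by rw [h2]
          _ = _ := by group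
      obtain ⟨b', l, hl, h3⟩ := C.cent a ha _ h1
      have hzc : ZC C (C.z b) := Count.InvL.zc ⟨C.z_mem b, C.z_sq b, fun h => hb (C.z_eq_one h)⟩
      have h4 : ZC C (C.v b' * l) := by
        rw [← h3]
        have := hzc.conj h⁻¹
        rwa [inv_inv] at this
      have h5 := zc_VL (noV K) hl h4
      rw [h3, h5, C.v_zero, one_mul]
      exact hl
  have hinv : InvL C (h⁻¹ * C.z 1 * h) := by
    refine ⟨hL 1, ?_, ?_⟩
    · calc h⁻¹ * C.z 1 * h * (h⁻¹ * C.z 1 * h) = h⁻¹ * (C.z 1 * C.z 1) * h := by group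
        _ = 1 := by rw [C.z_sq]; group
    · intro h1
      have : C.z 1 = 1 := by
        calc C.z 1 = h * (h⁻¹ * C.z 1 * h) * h⁻¹ := by group
          _ = 1 := by rw [h1]; group
      exact one_ne_zero (C.z_eq_one this)
  obtain ⟨m, hm, hm1⟩ := exists_conj_L hinv
  have hz1 : (h * m)⁻¹ * C.z 1 * (h * m) = C.z 1 := by
    calc (h * m)⁻¹ * C.z 1 * (h * m) = m⁻¹ * (h⁻¹ * C.z 1 * h) * m := by group
      _ = m⁻¹ * (m * C.z 1 * m⁻¹) * m := by rw [hm1]
      _ = C.z 1 := by group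
  have hnL : ∀ b, (h * m)⁻¹ * C.z b * (h * m) ∈ C.L := by
    intro b
    have e : (h * m)⁻¹ * C.z b * (h * m) = m⁻¹ * (h⁻¹ * C.z b * h) * m := by group
    rw [e]
    exact mul_mem (mul_mem (inv_mem hm) (hL b)) hm
  have hind : ∀ b, ∃ b', (h * m)⁻¹ * C.z b * (h * m)⁻¹⁻¹ = C.z b' := by
    intro b
    rw [inv_inv]
    have h1 : ((h * m)⁻¹ * C.z b * (h * m)) * C.z 1 = C.z 1 * ((h * m)⁻¹ * C.z b * (h * m)) := by
      have hc := C.z_comm b 1
      calc ((h * m)⁻¹ * C.z b * (h * m)) * C.z 1 = ((h * m)⁻¹ * C.z b * (h * m)) * ((h * m)⁻¹ * C.z 1 * (h * m)) := by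
            rw [hz1]
        _ = (h * m)⁻¹ * (C.z b * C.z 1) * (h * m) := by group
        _ = (h * m)⁻¹ * (C.z 1 * C.z b) * (h * m) := by rw [hc]
        _ = ((h * m)⁻¹ * C.z 1 * (h * m)) * ((h * m)⁻¹ * C.z b * (h * m)) := by group
        _ = _ := by rw [hz1]
    obtain ⟨a', b', h2⟩ := Count.mem_T_of_comm (hnL b) h1
    have h3 : C.U a' b' * C.U a' b' = 1 := by
      rw [← h2]
      calc (h * m)⁻¹ * C.z b * (h * m) * ((h * m)⁻¹ * C.z b * (h * m)) = (h * m)⁻¹ * (C.z b * C.z b) * (h * m) := by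
            group
        _ = 1 := by rw [C.z_sq]; group
    rw [C.U_sq] at h3
    have h4 : a' = 0 := pow5_eq_zero _ (C.z_eq_one h3)
    exact ⟨b', by rw [h2, h4]; rfl⟩
  choose r hr using hind
  have hn : (h * m)⁻¹ ∈ nor (Zs C) := mem_nor_of_ind (r := r) hr
  refine ⟨h * m, by simpa using inv_mem hn, a, ha, ?_⟩
  have h6 := C.v_comm a m hm
  calc h * C.v a * h⁻¹ = h * (C.v a * m) * m⁻¹ * h⁻¹ := by group
    _ = h * (m * C.v a) * m⁻¹ * h⁻¹ := by rw [h6]
    _ = _ := by group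

section plane

variable [Finite G] (K : Coord C)

/-- the coordinate of `n v a n⁻¹` -/
def pp (n : G) (a : A4) : W8 := K.π (n * C.v a * n⁻¹)

variable {K}

theorem conj_mem_QQ (hμ : K.μ = ⟨7⟩) {n : G} (hn : n ∈ nor (Zs C)) {x : G} (hx : x ∈ C.QQ) :
    n * x * n⁻¹ ∈ C.QQ := by
  obtain ⟨r, hr⟩ := exists_ind hn
  exact (nor_QQ (cent_le K hμ) hr x).1 hx

omit [Finite G] in
theorem v_mem_QQ (a : A4) : C.v a ∈ C.QQ := TT_le (v_mem_TT a)

theorem pp_add (hμ : K.μ = ⟨7⟩) {n : G} (hn : n ∈ nor (Zs C)) (a b : A4) :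
    pp K n (a + b) = pp K n a + pp K n b := by
  unfold pp
  rw [← K.mul _ (conj_mem_QQ hμ hn (v_mem_QQ a)) _ (conj_mem_QQ hμ hn (v_mem_QQ b)), C.v_add]
  congr 1
  group

theorem pp_ne (hμ : K.μ = ⟨7⟩) {n : G} (hn : n ∈ nor (Zs C)) {a : A4} (ha : a ≠ 0) : pp K n a ≠ 0 := by
  intro h
  obtain ⟨e, he⟩ := K.ker _ (conj_mem_QQ hμ hn (v_mem_QQ a)) h
  have h1 := Form.conj_inv_mem_of_mem_nor hn (z_mem_Zs (C := C) e)
  rw [← he] at h1
  obtain ⟨b, hb⟩ := h1
  have h2 : C.v a = C.z b := by rw [← hb]; group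
  exact ha (C.v_notin a (by rw [h2]; exact C.z_mem b))

theorem q_pp (hν : K.ν = ⟨5⟩) (hμ : K.μ = ⟨7⟩) {n : G} (hn : n ∈ nor (Zs C)) (a : A4) : q8 (pp K n a) = 0 := by
  have h1 := K.sq _ (conj_mem_QQ hμ hn (v_mem_QQ a))
  rw [hν, hμ, qf_eq] at h1
  apply C.z_eq_one
  show C.z (q8 (K.π (n * C.v a * n⁻¹))) = 1
  rw [← h1]
  calc n * C.v a * n⁻¹ * (n * C.v a * n⁻¹) = n * (C.v a * C.v a) * n⁻¹ := by group
    _ = 1 := by rw [C.v_sq]; group

theorem b_pp (hμ : K.μ = ⟨7⟩) {n : G} (hn : n ∈ nor (Zs C)) {a b : A4} (ha : a ≠ 0) (hb : b ≠ 0) (u : W8) :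
    b8 (pp K n a) u = 0 ↔ b8 (pp K n b) u = 0 := by
  obtain ⟨r, hr⟩ := exists_ind hn
  obtain ⟨y', hy', rfl⟩ := K.surj u
  obtain ⟨y, hy, rfl⟩ : ∃ y, y ∈ C.QQ ∧ n * y * n⁻¹ = y' := by
    refine ⟨n⁻¹ * y' * n, ?_, by group⟩
    have := conj_mem_QQ hμ (inv_mem hn) hy'
    rwa [inv_inv] at this
  have key : ∀ a : A4, a ≠ 0 → (b8 (pp K n a) (K.π (n * y * n⁻¹)) = 0 ↔ (K.π y).2.2 = 0) := by
    intro a ha
    have h1 := form_conj K hr (v_mem_QQ a) hy (conj_mem_QQ hμ hn (v_mem_QQ a)) hy'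
    rw [hμ, bf_eq, K.v] at h1
    unfold pp
    rw [h1]
    have h2 : bf ⟨7⟩ ((a, 0, 0) : A4 × K8 × K8) (K.π y) = emb a * (K.π y).2.2 := by
      unfold bf
      ring
    rw [h2]
    constructor
    · intro h
      have h3 := hr.zero h
      rcases mul_eq_zero.mp h3 with h4 | h4
      · exact absurd (emb_eq_zero.1 h4) ha
      · exact h4
    · intro h
      rw [h, mul_zero, hr.add.zero]
  rw [key a ha, key b hb]

theorem code_ne {x y : W8} (h : x ≠ y) : code x ≠ code y := fun h' => h (Inst.code_inj h')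

theorem beq_zero {a : K8} : (a.val.val == 0) = decide (a = 0) := by
  by_cases h : a = 0
  · simp [h, val_eq_zero.2 rfl]
  · have h1 : a.val.val ≠ 0 := fun h' => h (val_eq_zero.1 h')
    simp [h, h1]

theorem pr_pp (hν : K.ν = ⟨5⟩) (hμ : K.μ = ⟨7⟩) {n : G} (hn : n ∈ nor (Zs C)) {a b : A4} (ha : a ≠ 0) (hb : b ≠ 0)
    (hab : a ≠ b) : LocChk.pr (code (pp K n a)) (code (pp K n b)) = true := by
  have h1 := pp_ne hμ hn ha
  have h2 := pp_ne hμ hn hb
  have hab' : a + b ≠ 0 := fun h => hab (A4.add_eq_zero h)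
  have h3 := pp_ne hμ hn hab'
  have h4 : pp K n a ≠ pp K n b := by
    intro h
    apply h3
    rw [pp_add hμ hn, h, Inst.two_W8]
  unfold LocChk.pr
  simp only [Bool.and_eq_true, bne_iff_ne, beq_iff_eq]
  refine ⟨⟨⟨⟨⟨⟨?_, ?_⟩, ?_⟩, ?_⟩, ?_⟩, ?_⟩, ?_⟩
  · intro h
    exact h1 (Inst.code_eq_zero.1 h)
  · intro h
    exact h2 (Inst.code_eq_zero.1 h)
  · exact code_ne h4
  · rw [← Inst.code_q, q_pp hν hμ hn]; rfl
  · rw [← Inst.code_q, q_pp hν hμ hn]; rfl
  · rw [← Inst.code_add, ← pp_add hμ hn, ← Inst.code_q, q_pp hν hμ hn]; rfl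
  · unfold LocChk.same
    rw [List.all_eq_true]
    intro u hu
    rw [List.mem_range] at hu
    have e := Inst.code_decode ⟨u, hu⟩
    simp only at e
    rw [← e, ← Inst.code_b, ← Inst.code_b, beq_zero, beq_zero]
    have := b_pp hμ hn ha hb (Inst.decode u)
    simp [this]

theorem mem_sing (hν : K.ν = ⟨5⟩) (hμ : K.μ = ⟨7⟩) {n : G} (hn : n ∈ nor (Zs C)) {a : A4} (ha : a ≠ 0) :
    code (pp K n a) ∈ LocChk.sing := by
  unfold LocChk.sing
  rw [List.mem_filter, List.mem_range]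
  refine ⟨Inst.code_lt _, ?_⟩
  simp only [Bool.and_eq_true, bne_iff_ne, beq_iff_eq]
  refine ⟨fun h => pp_ne hμ hn ha (Inst.code_eq_zero.1 h), ?_⟩
  rw [← Inst.code_q, q_pp hν hμ hn]; rfl

theorem other : ∀ a : A4, a ≠ 0 → ∃ b : A4, b ≠ 0 ∧ a ≠ b := by decide

theorem inT_pp (hν : K.ν = ⟨5⟩) (hμ : K.μ = ⟨7⟩) {n : G} (hn : n ∈ nor (Zs C)) {a : A4} (ha : a ≠ 0) :
    inT (code (pp K n a)) = true := by
  obtain ⟨b, hb, hab⟩ := other a ha
  have h := LocChk.ckA_true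
  unfold LocChk.ckA at h
  rw [List.all_eq_true] at h
  have h1 := h _ (mem_sing hν hμ hn ha)
  rw [List.all_eq_true] at h1
  have h2 := h1 _ (mem_sing hν hμ hn hb)
  rw [pr_pp hν hμ hn ha hb hab] at h2
  simpa using h2

/-- if `n` moves `TT`, its plane is not the standard one -/
theorem pp_not_std (hμ : K.μ = ⟨7⟩) {n : G} (hn : n ∈ nor (Zs C)) (ht : ∃ x ∈ C.TT, n * x * n⁻¹ ∉ C.TT)
    {a : A4} (ha : a ≠ 0) : (pp K n a).2 ≠ 0 := by
  intro h
  obtain ⟨x, hx, hx'⟩ := ht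
  apply hx'
  obtain ⟨r, hr⟩ := exists_ind hn
  have hxQ := TT_le hx
  rw [K.mem_TT_iff (conj_mem_QQ hμ hn hxQ)]
  have h1 := form_conj K hr (v_mem_QQ a) hxQ (conj_mem_QQ hμ hn (v_mem_QQ a)) (conj_mem_QQ hμ hn hxQ)
  have h2 : bf K.μ (K.π (C.v a)) (K.π x) = 0 := by
    rw [K.v]
    have := (K.mem_TT_iff hxQ).1 hx
    simp only [bf, this]
    ring
  rw [h2, hr.add.zero] at h1
  have h3 : K.π (n * C.v a * n⁻¹) = ((pp K n a).1, 0, 0) := Prod.ext rfl h
  rw [h3] at h1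
  simp only [bf] at h1
  have h4 : emb (pp K n a).1 * (K.π (n * x * n⁻¹)).2.2 = 0 := by linear_combination h1
  rcases mul_eq_zero.mp h4 with h5 | h5
  · exfalso
    apply pp_ne hμ hn ha
    exact Prod.ext (emb_eq_zero.1 h5) h
  · exact h5

end plane

/-! ### the instance -/

section inst

variable [Finite G] {K : Coord C}

theorem mem_DD_of_pp (hμ : K.μ = ⟨7⟩) {n : G} (hn : n ∈ nor (Zs C)) {a : A4} (ha : a ≠ 0) {x : G} (hx : x ∈ C.QQ)
    (h : K.π x = pp K n a) : x ∈ DD C := by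
  obtain ⟨e, he⟩ := K.eq_mul_z hx (conj_mem_QQ hμ hn (v_mem_QQ a)) h
  obtain ⟨e', he'⟩ : ∃ e', n⁻¹ * C.z e * n = C.z e' := Form.conj_inv_mem_of_mem_nor hn (z_mem_Zs (C := C) e)
  have h1 : x = n * (C.v a * C.z e') * n⁻¹ := by
    rw [he, ← he']
    group
  rw [h1]
  exact DD_conj (vz_mem_DD ha e') n

theorem code_std : ∀ w : W8, code w = 1 ∨ code w = 2 ∨ code w = 3 → w.2 = 0 ∧ w.1 ≠ 0 := by decide +kernel

theorem pp_dk (hμ : K.μ = ⟨7⟩) {n : G} (hn : n ∈ nor (Zs C)) (a : A4) (k : K8ˣ) :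
    pp K (C.dk k * n) a = Plane.dilate (k : K8) (pp K n a) := by
  unfold pp Plane.dilate
  rw [← K.dk k _ (conj_mem_QQ hμ hn (v_mem_QQ a))]
  congr 1
  group

theorem mem_DD_of_inT (hν : K.ν = ⟨5⟩) (hμ : K.μ = ⟨7⟩) {g0 : G} (hg0 : g0 ∈ nor (Zs C))
    (ht : ∃ x ∈ C.TT, g0 * x * g0⁻¹ ∉ C.TT) {x : G} (hx : x ∈ C.QQ) (h : inT (code (K.π x)) = true) : x ∈ DD C := by
  by_cases h0 : code (K.π x) = 1 ∨ code (K.π x) = 2 ∨ code (K.π x) = 3
  · obtain ⟨h1, h2⟩ := code_std _ h0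
    have h3 : K.π x = K.π (C.v (K.π x).1) := by
      rw [K.v]
      exact Prod.ext rfl h1
    obtain ⟨e, he⟩ := K.eq_mul_z hx (v_mem_QQ _) h3
    rw [he]
    exact vz_mem_DD h2 e
  · have e1 : ((1, 0) : A4) ≠ 0 := by decide
    have e2 : ((0, 1) : A4) ≠ 0 := by decide
    have e3 : ((1, 0) + (0, 1) : A4) ≠ 0 := by decide
    have hB := LocChk.ckB_true
    unfold LocChk.ckB at hB
    rw [List.all_eq_true] at hB
    have h1 := hB _ (mem_sing hν hμ hg0 e1)
    rw [List.all_eq_true] at h1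
    have h2 := h1 _ (mem_sing hν hμ hg0 e2)
    rw [pr_pp hν hμ hg0 e1 e2 (by decide)] at h2
    simp only [Bool.not_true, Bool.false_or, Bool.or_eq_true, beq_iff_eq] at h2
    have hns := pp_not_std hμ hg0 ht e1
    have h3 := h2.resolve_left (by
      intro h'
      apply hns
      refine (code_std _ ?_).1
      rcases h' with (h' | h') | h'
      · exact Or.inl h'
      · exact Or.inr (Or.inl h')
      · exact Or.inr (Or.inr h'))
    rw [List.all_eq_true] at h3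
    have h4 := h3 _ (Inst.mem_tL (Inst.code_lt _) h)
    simp only [Bool.or_eq_true, beq_iff_eq] at h4
    have h5 := h4.resolve_left (by
      intro h'
      apply h0
      rcases h' with (h' | h') | h'
      · exact Or.inl h'
      · exact Or.inr (Or.inl h')
      · exact Or.inr (Or.inr h'))
    rw [List.any_eq_true] at h5
    obtain ⟨k, hk, h6⟩ := h5
    simp only [Bool.or_eq_true, beq_iff_eq] at h6
    have hk8 : k < 8 := by
      simp only [List.mem_cons, List.not_mem_nil, or_false] at hk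
      omega
    have hk0 : k ≠ 0 := by
      simp only [List.mem_cons, List.not_mem_nil, or_false] at hk
      omega
    have hkne : (⟨⟨k, hk8⟩⟩ : K8) ≠ 0 := by
      intro h'
      exact hk0 (congrArg (fun t : K8 => t.val.val) h')
    let κ : K8ˣ := Units.mk0 _ hkne
    have hval : (κ : K8).val.val = k := rfl
    have main : ∀ a : A4, a ≠ 0 → LocChk.dilN k (code (pp K g0 a)) = code (K.π x) → x ∈ DD C := by
      intro a ha h7
      rw [← hval, ← LocChk.code_dil] at h7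
      have h8 := Inst.code_inj h7
      rw [← pp_dk hμ hg0] at h8
      exact mem_DD_of_pp hμ (mul_mem (dk_mem_nor κ) hg0) ha hx h8.symm
    rw [← Inst.code_add, ← pp_add hμ hg0] at h6
    rcases h6 with (h6 | h6) | h6
    · exact main _ e1 h6
    · exact main _ e2 h6
    · exact main _ e3 h6

theorem isCoord (hν : K.ν = ⟨5⟩) (hμ : K.μ = ⟨7⟩) {g0 : G} (hg0 : g0 ∈ nor (Zs C))
    (ht : ∃ x ∈ C.TT, g0 * x * g0⁻¹ ∉ C.TT) : IsCoord (DD C) (Zs C) R8 K.π C.z where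
  π_mul := by
    intro x hx y hy
    rw [mem_cent_iff K hμ] at hx hy
    exact K.mul x hx y hy
  π_surj := by
    intro w
    obtain ⟨x, hx, h⟩ := K.surj w
    exact ⟨x, (mem_cent_iff K hμ).2 hx, h⟩
  π_ker := by
    intro x hx
    rw [mem_cent_iff K hμ] at hx
    constructor
    · intro h
      exact K.ker x hx h
    · rintro ⟨b, rfl⟩
      exact K.z b
  le_cent := by
    rintro x ⟨b, rfl⟩
    rw [mem_cent_Zs]
    intro c
    exact C.z_comm b c
  ζ_add := C.z_add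
  ζ_inj := fun a b h => C.z_inj h
  ζ_range := by
    intro y
    constructor
    · rintro ⟨b, rfl⟩
      exact ⟨b, rfl⟩
    · rintro ⟨b, rfl⟩
      exact ⟨b, rfl⟩
  sq := by
    intro x hx
    rw [mem_cent_iff K hμ] at hx
    have := K.sq x hx
    rw [hν, hμ, qf_eq] at this
    exact this
  comm := by
    intro x hx y hy
    rw [mem_cent_iff K hμ] at hx hy
    have := K.comm hx hy
    rw [hμ, bf_eq] at this
    show x⁻¹ * y⁻¹ * x * y = C.z (b8 (K.π x) (K.π y))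
    calc x⁻¹ * y⁻¹ * x * y = x⁻¹ * y⁻¹ * (x * y) := by group
      _ = _ := by rw [this]; group
  D_iff := by
    intro x hx
    rw [mem_cent_iff K hμ] at hx
    have e : K.π x ∈ R8.T ↔ inT (code (K.π x)) = true := Inst.T_iff _
    rw [e]
    constructor
    · intro hD
      obtain ⟨n, hn, a, ha, hxe⟩ := exists_nor_of_mem_DD K hx hD
      have h1 := inT_pp hν hμ hn ha
      unfold pp at h1
      rwa [← hxe] at h1
    · intro h
      exact mem_DD_of_inT hν hμ hg0 ht hx h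

omit [Finite G] in
/-- every automorphism of `Z` moving one element to another -/
theorem exists_nor_conj {a b : K8} (ha : a ≠ 0) (hb : b ≠ 0) : ∃ n ∈ nor (Zs C), n * C.z a * n⁻¹ = C.z b := by
  have hk0 : (b * a⁻¹) ^ 2 ≠ 0 := pow_ne_zero _ (mul_ne_zero hb (inv_ne_zero ha))
  refine ⟨C.dk (Units.mk0 _ hk0), dk_mem_nor _, ?_⟩
  rw [C.dk_z]
  congr 1
  show a * ((b * a⁻¹) ^ 2) ^ 4 = b
  rw [← pow_mul, K8.pow_eight]
  field_simp

/-- the local data -/
theorem localData (hν : K.ν = ⟨5⟩) (hμ : K.μ = ⟨7⟩) {g0 : G} (hg0 : g0 ∈ nor (Zs C))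
    (ht : ∃ x ∈ C.TT, g0 * x * g0⁻¹ ∉ C.TT) : LocalData (DD C) (ZZ C) R8 where
  D_ne := by
    rintro _ ⟨g, a, ha, rfl⟩ h
    apply ha
    apply C.v_eq_one
    calc C.v a = g⁻¹ * (g * C.v a * g⁻¹) * g := by group
      _ = 1 := by rw [h]; group
  D_sq := by
    rintro _ ⟨g, a, ha, rfl⟩
    calc g * C.v a * g⁻¹ * (g * C.v a * g⁻¹) = g * (C.v a * C.v a) * g⁻¹ := by group
      _ = 1 := by rw [C.v_sq]; group
  D_conj := fun d hd g => DD_conj hd g
  Z_conj := fun Y hY g => cj_mem_ZZ hY g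
  Z_trans := by
    rintro _ ⟨g, rfl⟩ _ ⟨h, rfl⟩
    exact ⟨h * g⁻¹, by rw [Form.cj_mul, Form.cj_inv_cj]⟩
  coord := by
    rintro _ ⟨g, rfl⟩
    exact ⟨_, _, isCoord_cj (isCoord hν hμ hg0 ht) (fun d hd g => DD_conj hd g) g⟩
  norm_trans := by
    rintro _ ⟨g, rfl⟩ a ha c hc ha1 hc1
    obtain ⟨a', ha'⟩ := mem_cj.1 ha
    obtain ⟨c', hc'⟩ := mem_cj.1 hc
    have ea : a = g * C.z a' * g⁻¹ := by rw [← ha']; group
    have ec : c = g * C.z c' * g⁻¹ := by rw [← hc']; group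
    have ha0 : a' ≠ 0 := by
      rintro rfl
      apply ha1
      rw [ea, C.z_zero]; group
    have hc0 : c' ≠ 0 := by
      rintro rfl
      apply hc1
      rw [ec, C.z_zero]; group
    obtain ⟨n, hn, h⟩ := exists_nor_conj (C := C) ha0 hc0
    refine ⟨g * n * g⁻¹, ?_, ?_⟩
    · rw [mem_nor, ← Form.cj_mul]
      have e : g * n * g⁻¹ * g = g * n := by group
      rw [e, Form.cj_mul, mem_nor.1 hn]
    · rw [ea, ec, ← h]
      group
  norm_card := by
    rintro _ ⟨g, rfl⟩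
    rw [card_nor_cj]
    exact card_nor K (by rw [hμ]; decide +kernel) (cent_le K hμ) hg0 ht
  H2 := by
    rintro _ ⟨h, a, ha, rfl⟩ z hz1 hzz hzD hcomm
    have h1 : (h⁻¹ * z * h) * C.v a = C.v a * (h⁻¹ * z * h) := by
      have h2 : h * C.v a * h⁻¹ * z = z * (h * C.v a * h⁻¹) := hcomm
      calc (h⁻¹ * z * h) * C.v a = h⁻¹ * (z * (h * C.v a * h⁻¹)) * h := by group
        _ = h⁻¹ * ((h * C.v a * h⁻¹) * z) * h := by rw [h2]
        _ = _ := by group
    obtain ⟨b, l, hl, h3⟩ := C.cent a ha _ h1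
    have h3sq : (C.v b * l) * (C.v b * l) = 1 := by
      rw [← h3]
      calc h⁻¹ * z * h * (h⁻¹ * z * h) = h⁻¹ * (z * z) * h := by group
        _ = 1 := by rw [hzz]; group
    have hll : l * l = 1 := by
      have h1 := C.v_comm b l hl
      calc l * l = (C.v b * C.v b) * (l * l) := by rw [C.v_sq, one_mul]
        _ = C.v b * (C.v b * l) * l := by group
        _ = C.v b * (l * C.v b) * l := by rw [h1]
        _ = C.v b * l * (C.v b * l) := by group
        _ = 1 := h3sq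
    have hzD' : C.v b * l ∉ DD C := by
      rw [← h3]
      intro h'
      apply hzD
      have := DD_conj h' h
      have e : h * (h⁻¹ * z * h) * h⁻¹ = z := by group
      rwa [e] at this
    have hvl1 : C.v b * l ≠ 1 := by
      rw [← h3]
      intro h'
      apply hz1
      calc z = h * (h⁻¹ * z * h) * h⁻¹ := by group
        _ = 1 := by rw [h']; group
    have hl1 : l ≠ 1 := by
      rintro rfl
      rw [mul_one] at hzD' hvl1
      have hb : b ≠ 0 := by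
        rintro rfl
        exact hvl1 C.v_zero
      exact hzD' (v_mem_DD hb)
    have hb : b = 0 := by
      by_contra hb
      exact hzD' (vl_mem_DD hb ⟨hl, hll, hl1⟩)
    rw [hb, C.v_zero, one_mul] at h3
    obtain ⟨m, hm, hm1⟩ := exists_conj_L (C := C) (l := l) ⟨hl, hll, hl1⟩
    have hzz' : z = (h * m) * C.z 1 * (h * m)⁻¹ := by
      calc z = h * (h⁻¹ * z * h) * h⁻¹ := by group
        _ = h * (m * C.z 1 * m⁻¹) * h⁻¹ := by rw [h3, hm1]
        _ = _ := by group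
    have hdd : h * C.v a * h⁻¹ = (h * m) * C.v a * (h * m)⁻¹ := by
      have h6 := C.v_comm a m hm
      calc h * C.v a * h⁻¹ = h * (C.v a * m) * m⁻¹ * h⁻¹ := by group
        _ = h * (m * C.v a) * m⁻¹ * h⁻¹ := by rw [h6]
        _ = _ := by group
    rw [hzz', hdd]
    refine ⟨Form.cj (h * m) (Zs C), ⟨_, rfl⟩, ?_, ?_, ?_⟩
    · rw [mem_cj]
      exact ⟨1, by group⟩
    · intro y hy
      obtain ⟨b, hb⟩ := mem_cj.1 hy
      have ey : y = (h * m) * C.z b * (h * m)⁻¹ := by rw [← hb]; group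
      have h7 := C.v_z_comm a b
      show (h * m) * C.v a * (h * m)⁻¹ * y = y * ((h * m) * C.v a * (h * m)⁻¹)
      rw [ey]
      calc (h * m) * C.v a * (h * m)⁻¹ * ((h * m) * C.z b * (h * m)⁻¹) = (h * m) * (C.v a * C.z b) * (h * m)⁻¹ := by
            group
        _ = (h * m) * (C.z b * C.v a) * (h * m)⁻¹ := by rw [h7]
        _ = _ := by group
    · intro g hg1 hg2
      rw [mem_centralizer_cj, mem_cent_Zs]
      have e1 : ((h * m)⁻¹ * g * (h * m)) * C.v a = C.v a * ((h * m)⁻¹ * g * (h * m)) := by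
        have h8 : g * ((h * m) * C.v a * (h * m)⁻¹) = ((h * m) * C.v a * (h * m)⁻¹) * g := hg1
        calc ((h * m)⁻¹ * g * (h * m)) * C.v a = (h * m)⁻¹ * (g * ((h * m) * C.v a * (h * m)⁻¹)) * (h * m) := by group
          _ = (h * m)⁻¹ * (((h * m) * C.v a * (h * m)⁻¹) * g) * (h * m) := by rw [h8]
          _ = _ := by group
      have e2 : ((h * m)⁻¹ * g * (h * m)) * C.z 1 = C.z 1 * ((h * m)⁻¹ * g * (h * m)) := by
        have h8 : g * ((h * m) * C.z 1 * (h * m)⁻¹) = ((h * m) * C.z 1 * (h * m)⁻¹) * g := hg2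
        calc ((h * m)⁻¹ * g * (h * m)) * C.z 1 = (h * m)⁻¹ * (g * ((h * m) * C.z 1 * (h * m)⁻¹)) * (h * m) := by group
          _ = (h * m)⁻¹ * (((h * m) * C.z 1 * (h * m)⁻¹) * g) * (h * m) := by rw [h8]
          _ = _ := by group
      obtain ⟨b', a', f', h9⟩ := eq_of_comm ha one_ne_zero e1 e2
      rw [h9]
      exact fun c => zcomm (TT_le mem_TT_of) c

omit [Finite G] in
/-- an element normalising `QQ` normalises `Z` -/
theorem mem_nor_of_norm {g : G} (hg : ∀ x, x ∈ C.QQ ↔ g * x * g⁻¹ ∈ C.QQ) : g ∈ nor (Zs C) := by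
  have h := fun e => conj_z_of_norm hg e
  choose r hr using h
  exact mem_nor_of_ind (r := r) hr

theorem localData' (hν : K.ν = ⟨5⟩) (hμ : K.μ = ⟨7⟩) {g0 : G} (hg0 : ∀ x, x ∈ C.QQ ↔ g0 * x * g0⁻¹ ∈ C.QQ)
    (ht : ∃ x ∈ C.TT, g0 * x * g0⁻¹ ∉ C.TT) : LocalData (DD C) (ZZ C) R8 :=
  localData hν hμ (mem_nor_of_norm hg0) ht

end inst

end Cfsg.Agent.RuB.Local
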