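import Cfsg.Agent.RuB.QSylE

/-!
# `C(Z) = Q` if `N(Q) ≤ N(T)`, by the Z*-theorem in `C(Z)/Z`
-/

set_option autoImplicit false

namespace Cfsg.Agent.RuB.QSyl

open Subgroup Cfsg.Agent.RuB Cfsg.Agent.RuB.Core Cfsg.Agent.RuB.Count

section general

theorem inverts {H : Type*} [Group H] [Finite H] (N : Subgroup H) [N.Normal] {u : H} (hu : u * u = 1)
    (c : ∀ n ∈ N, u * n = n * u → n = 1) : ∀ n ∈ N, u * n * u⁻¹ = n⁻¹ := by
  intro n hn
  let φ : MulAut N := MulAut.conjNormal u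
  have h1 : MonoidHom.FixedPointFree φ := by
    intro m hm
    have h2 := congrArg Subtype.val hm
    rw [MulAut.conjNormal_apply] at h2
    exact Subtype.ext (c m m.2 (mul_inv_eq_iff_eq_mul.1 h2))
  have h2 : Function.Involutive φ := by
    intro m
    apply Subtype.ext
    rw [MulAut.conjNormal_apply, MulAut.conjNormal_apply]
    calc u * (u * (m : H) * u⁻¹) * u⁻¹ = (u * u) * m * (u * u)⁻¹ := by group
      _ = m := by rw [hu]; group
  have h3 := h1.coe_eq_inv_of_involutive h2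
  have h4 : φ ⟨n, hn⟩ = (⟨n, hn⟩ : N)⁻¹ := congrFun h3 ⟨n, hn⟩
  have h5 := congrArg Subtype.val h4
  rw [MulAut.conjNormal_apply] at h5
  exact h5

/-- a four-group acting with all three involutions fixed-point-freely -/
theorem eq_bot_of_four {H : Type*} [Group H] [Finite H] (N : Subgroup H) [N.Normal] {u1 u2 : H} (h1 : u1 * u1 = 1)
    (h2 : u2 * u2 = 1) (c1 : ∀ n ∈ N, u1 * n = n * u1 → n = 1) (c2 : ∀ n ∈ N, u2 * n = n * u2 → n = 1)
    (c3 : ∀ n ∈ N, (u1 * u2) * n = n * (u1 * u2) → n = 1) : N = ⊥ := by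
  rw [eq_bot_iff]
  intro n hn
  rw [mem_bot]
  refine c3 n hn ?_
  have e1 := inverts N h1 c1
  have e2 := inverts N h2 c2
  have h3 : u1 * (u2 * n * u2⁻¹) * u1⁻¹ = n := by
    rw [e2 n hn, e1 _ (inv_mem hn), inv_inv]
  calc u1 * u2 * n = u1 * (u2 * n * u2⁻¹) * u1⁻¹ * (u1 * u2) := by group
    _ = n * (u1 * u2) := by rw [h3]

end general

variable {G : Type*} [Group G] {C : Core G}

theorem ne10 : ((1, 0) : A4) ≠ 0 := by decide
theorem ne01 : ((0, 1) : A4) ≠ 0 := by decide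
theorem ne11 : ((1, 1) : A4) ≠ 0 := by decide

theorem v_ne_z (e : K8) : C.v (1, 0) ≠ C.z e := by
  intro h
  exact ne10 (C.v_notin (1, 0) (by rw [h]; exact C.z_mem e))

/-- the centraliser of `Z` -/
def WW (C : Core G) : Subgroup G where
  carrier := {g | ∀ e, g * C.z e = C.z e * g}
  mul_mem' := fun {a b} ha hb e => by
    rw [mul_assoc, hb, ← mul_assoc, ha, mul_assoc]
  one_mem' := fun e => by rw [one_mul, mul_one]
  inv_mem' := fun {a} ha e => by
    calc a⁻¹ * C.z e = a⁻¹ * (C.z e * a) * a⁻¹ := by group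
      _ = C.z e * a⁻¹ := by rw [← ha]; group

/-- `Z` as a subgroup of `C(Z)` -/
def ZW (C : Core G) : Subgroup (WW C) where
  carrier := {w | ∃ e, (w : G) = C.z e}
  mul_mem' := by
    rintro a b ⟨e, he⟩ ⟨f, hf⟩
    exact ⟨e + f, by rw [Subgroup.coe_mul, he, hf, C.z_add]⟩
  one_mem' := ⟨0, by rw [C.z_zero]; rfl⟩
  inv_mem' := by
    rintro a ⟨e, he⟩
    exact ⟨e, by rw [Subgroup.coe_inv, he, C.z_inv]⟩

instance normal_ZW : (ZW C).Normal := by
  constructor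
  rintro n ⟨e, he⟩ g
  refine ⟨e, ?_⟩
  have h1 := g.2 e
  rw [Subgroup.coe_mul, Subgroup.coe_mul, Subgroup.coe_inv, he, h1, mul_inv_cancel_right]

theorem QQ_le_WW : C.QQ ≤ WW C := fun _ hx e => zcomm hx e

variable [Finite G] (hN : ∀ g : G, (∀ x, x ∈ C.QQ ↔ g * x * g⁻¹ ∈ C.QQ) → g ∈ NT C)

include hN

/-- `C(Z) = Q` -/
theorem cent_Z {g : G} (hg : ∀ e, g * C.z e = C.z e * g) : g ∈ C.QQ := by
  have : Fact (Nat.Prime 2) := ⟨Nat.prime_two⟩
  let W := ↥(WW C) ⧸ (ZW C)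
  let π : ↥(WW C) →* W := QuotientGroup.mk' (ZW C)
  have hπ : Function.Surjective π := QuotientGroup.mk'_surjective _
  let P : Sylow 2 W := ((QS hN).subtype (N := WW C) QQ_le_WW).mapSurjective hπ
  have hP : ∀ w : ↥(WW C), π w ∈ P ↔ (w : G) ∈ C.QQ := by
    intro w
    constructor
    · intro h
      have h1 : π w ∈ ((QS hN).subtype (N := WW C) QQ_le_WW : Subgroup (WW C)).map π := h
      obtain ⟨q, hq, h2⟩ := h1
      have h3 : (q : G) ∈ C.QQ := hq
      have h4 : q⁻¹ * w ∈ ZW C := QuotientGroup.eq.1 h2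
      obtain ⟨e, he⟩ := h4
      have h5 : (w : G) = q * C.z e := by
        rw [← he, Subgroup.coe_mul, Subgroup.coe_inv]; group
      rw [h5]
      exact mul_mem h3 (z_mem_QQ e)
    · intro h
      have h1 : π w ∈ ((QS hN).subtype (N := WW C) QQ_le_WW : Subgroup (WW C)).map π := ⟨w, h, rfl⟩
      exact h1
  -- the images of the `v b`
  let vv : A4 → ↥(WW C) := fun b => ⟨C.v b, fun e => C.v_z_comm b e⟩
  have hvv : ∀ b, vv b * vv b = 1 := fun b => Subtype.ext (C.v_sq b)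
  have key : ∀ (b : A4), b ≠ 0 → ∀ w : ↥(WW C), π (w * vv b * w⁻¹) ∈ P → (w : G) ∈ C.QQ ∧ π (w * vv b * w⁻¹) = π (vv b) := by
    intro b hb w hw
    rw [hP] at hw
    have h1 : (w : G) ∈ C.QQ := mem_QQ_of_conj hN w.2 hb hw
    refine ⟨h1, ?_⟩
    obtain ⟨c, hc⟩ := h1
    refine (QuotientGroup.eq.2 ?_)
    refine ⟨c * emb b, ?_⟩
    have h2 := hc.2 b
    show ((w : G) * C.v b * (w : G)⁻¹)⁻¹ * C.v b = _
    rw [h2, mul_inv_rev, C.z_inv, C.v_inv, mul_assoc, C.v_sq, mul_one]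
  have hcomm : ∀ (b : A4), b ≠ 0 → ∀ w : ↥(WW C), π (vv b) * π w = π w * π (vv b) → (w : G) ∈ C.QQ := by
    intro b hb w hw
    refine (key b hb w ?_).1
    have h1 : π (w * vv b * w⁻¹) = π (vv b) := by
      rw [map_mul, map_mul, map_inv, ← hw, mul_inv_cancel_right]
    rw [h1, hP]
    exact TT_le (v_mem_TT b)
  have e10 := ne10
  have e01 := ne01
  have e11 := ne11
  have hsq : ∀ b, π (vv b) * π (vv b) = 1 := fun b => by rw [← map_mul, hvv, map_one]
  have hne : π (vv (1, 0)) ≠ 1 := by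
    intro h
    have h1 : vv (1, 0) ∈ ZW C := (QuotientGroup.eq_one_iff _).1 h
    obtain ⟨e, he⟩ := h1
    exact v_ne_z e he
  obtain ⟨N, hNn, hNo, hNc⟩ := Cfsg.Agent.S0215.result P (π (vv (1, 0))) (by
      rw [orderOf_eq_prime_iff]
      exact ⟨by rw [pow_two, hsq], hne⟩) (by
      rw [hP]; exact TT_le (v_mem_TT _)) (by
      intro x hx
      obtain ⟨w, rfl⟩ := hπ x
      rw [← map_inv, ← map_mul, ← map_mul] at hx ⊢
      exact (key _ e10 w hx).2)
  have hfix : ∀ (b : A4), b ≠ 0 → ∀ n ∈ N, π (vv b) * n = n * π (vv b) → n = 1 := by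
    intro b hb n hn hc
    obtain ⟨w, rfl⟩ := hπ n
    have h1 := hcomm b hb w hc
    have h2 : π w ∈ P := (hP w).2 h1
    have h3 : orderOf (π w) ∣ Nat.card N := by
      have h4 := orderOf_dvd_natCard (⟨π w, hn⟩ : N)
      rwa [Subgroup.orderOf_mk] at h4
    obtain ⟨k, hk⟩ := P.2 ⟨π w, h2⟩
    have h4 : (π w) ^ 2 ^ k = 1 := congrArg Subtype.val hk
    have h5 := orderOf_dvd_of_pow_eq_one h4
    have h6 : Nat.Coprime (2 ^ k) (Nat.card N) := Nat.Coprime.pow_left k (Nat.coprime_two_left.2 hNo)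
    exact orderOf_eq_one_iff.1 (Nat.eq_one_of_dvd_coprimes h6 h5 h3)
  have hbot : N = ⊥ := by
    refine eq_bot_of_four N (u1 := π (vv (1, 0))) (u2 := π (vv (0, 1))) (hsq _) (hsq _) (hfix _ e10) (hfix _ e01) ?_
    intro n hn hc
    refine hfix (1, 1) e11 n hn ?_
    have h1 : π (vv (1, 1)) = π (vv (1, 0)) * π (vv (0, 1)) := by
      rw [← map_mul]
      congr 1
      apply Subtype.ext
      show C.v (1, 1) = C.v (1, 0) * C.v (0, 1)
      rw [← C.v_add]; rfl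
    rw [h1]; exact hc
  refine hcomm (1, 0) e10 ⟨g, hg⟩ ?_
  have h1 := hNc (π ⟨g, hg⟩)
  rw [hbot, mem_bot] at h1
  calc π (vv (1, 0)) * π ⟨g, hg⟩ = (π (vv (1, 0)) * π ⟨g, hg⟩ * (π (vv (1, 0)))⁻¹ * (π ⟨g, hg⟩)⁻¹) * (π ⟨g, hg⟩ * π (vv (1, 0))) := by group
    _ = _ := by rw [h1, one_mul]

theorem card_G' : Nat.card G = 455 * 449 * Nat.card (centralizer ({C.z 1} : Set G)) := by
  have e10 : ((1, 0) : A4) ≠ 0 := by decide
  rw [card_G (C := C) noV e10]
  have h1 : Nat.card {y : G // AS C (1, 0) (C.z 1) y} = 0 := by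
    have : IsEmpty {y : G // AS C (1, 0) (C.z 1) y} := ⟨fun y => gamma_zero hN e10 y.2.1 ⟨1, by group⟩ y.2.2⟩
    exact Nat.card_of_isEmpty
  rw [h1, add_zero]

theorem card_odd_part : ∃ m, Odd m ∧ Nat.card (centralizer ({C.z 1} : Set G)) = 2048 * m := by
  have hle : C.QQ ≤ centralizer ({C.z 1} : Set G) := fun q hq => mem_centralizer_singleton_iff.2 (zcomm hq 1)
  have h1 : 2048 ∣ Nat.card (centralizer ({C.z 1} : Set G)) := by rw [← card_QQ C]; exact Subgroup.card_dvd_of_le hle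
  obtain ⟨m, hm⟩ := h1
  refine ⟨m, ?_, hm⟩
  rw [← Nat.not_even_iff_odd]
  intro he
  obtain ⟨k, hk⟩ := he.two_dvd
  have h2 : 2 ^ 12 ∣ Nat.card G := (Dvd.intro k (by rw [hm, hk]; ring)).trans (Subgroup.card_subgroup_dvd_card (centralizer ({C.z 1} : Set G)))
  have h3 := (Nat.prime_two.pow_dvd_iff_le_factorization Nat.card_pos.ne').1 h2
  rw [factorization_card hN] at h3
  omega

end Cfsg.Agent.RuB.QSyl
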