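import Cfsg.Agent.RuB.QSylD
import Cfsg.Agent.RuB.QSylF

/-!
# In a finite group every `Core` is of type `(ν, μ) = (5, 7)` and `N(Q)` does not normalise `T`

Otherwise `N(Q) ≤ N(T)`, `Q` is a Sylow 2-subgroup and `|G| = 455·449·2^11·e`, which is impossible.
-/

set_option autoImplicit false

namespace Cfsg.Agent.RuB.QSyl

open Subgroup Cfsg.Agent.RuB Cfsg.Agent.RuB.Core Cfsg.Agent.RuB.Count

/-- `N(Q)` does not normalise `T` -/
theorem false_of_norm {G : Type*} [Group G] [Finite G] (C : Core G)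
    (hN : ∀ g : G, (∀ x, x ∈ C.QQ ↔ g * x * g⁻¹ ∈ C.QQ) → g ∈ NT C) : False := by
  obtain ⟨e, he1, he2, he3⟩ := card_cent_z C (fun g hg e => cent_z_norm hN hg e) (fun g hg => cent_Z hN hg) (card_odd_part hN)
  exact false_of_card C he1 he2 (by rw [card_G' hN, he3])

/-- some element normalises `Q` but not `T` -/
theorem exists_norm {G : Type*} [Group G] [Finite G] (C : Core G) :
    ∃ g : G, (∀ x, x ∈ C.QQ ↔ g * x * g⁻¹ ∈ C.QQ) ∧ ∃ x ∈ C.TT, g * x * g⁻¹ ∉ C.TT := by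
  by_contra h
  push Not at h
  exact false_of_norm C (fun g hg => mem_NT_of_imp (h g hg))

/-- the main theorem of [B2] -/
theorem exists_coord57 {G : Type*} [Group G] [Finite G] (C : Core G) : ∃ K : Coord C, K.ν = ⟨5⟩ ∧ K.μ = ⟨7⟩ := by
  by_contra h
  exact false_of_norm C fun g hg x => norm_TT hg h x

/-- the form used by `Local` -/
theorem exists_coord_norm {G : Type*} [Group G] [Finite G] (C : Core G) :
    ∃ K : Coord C, K.ν = ⟨5⟩ ∧ K.μ = ⟨7⟩ ∧ ∃ g : G, (∀ x, x ∈ C.QQ ↔ g * x * g⁻¹ ∈ C.QQ) ∧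
      ∃ x ∈ C.TT, g * x * g⁻¹ ∉ C.TT := by
  obtain ⟨K, h1, h2⟩ := exists_coord57 C
  exact ⟨K, h1, h2, exists_norm C⟩

end Cfsg.Agent.RuB.QSyl
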