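import Cfsg.Agent.RuB.QSylB

/-!
# Involutions of `Q` if `N(Q) ≤ N(T)`

`D ∩ Q = E - Z`, `z^G ∩ Q = Z#`, `γ = 0`, `z^G ∩ C(z) = Z#`.
-/

set_option autoImplicit false

namespace Cfsg.Agent.RuB.QSyl

open Subgroup Cfsg.Agent.RuB Cfsg.Agent.RuB.Core Cfsg.Agent.RuB.Count

section general

theorem card_le_ker {A B : Type*} [Group A] [Finite A] [Group B] [Finite B] (f : A →* B) :
    Nat.card A ≤ Nat.card f.ker * Nat.card B := by
  have h1 := f.ker.card_mul_index
  rw [Subgroup.index_ker] at h1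
  rw [← h1]
  exact Nat.mul_le_mul_left _ (Subgroup.card_le_card_group _)

theorem iff_of_imp {G : Type*} [Group G] [Finite G] {H : Subgroup G} {g : G} (h : ∀ x ∈ H, g * x * g⁻¹ ∈ H) (x : G) :
    x ∈ H ↔ g * x * g⁻¹ ∈ H := by
  constructor
  · exact h x
  · intro hx
    let f : H → H := fun y => ⟨g * y * g⁻¹, h y y.2⟩
    have hf : Function.Injective f := by
      intro a b hab
      have h1 : g * (a : G) * g⁻¹ = g * b * g⁻¹ := congrArg Subtype.val hab
      exact Subtype.ext (mul_left_cancel (mul_right_cancel h1))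
    obtain ⟨y, hy⟩ := (Finite.injective_iff_surjective.1 hf) ⟨_, hx⟩
    have h2 : g * (y : G) * g⁻¹ = g * x * g⁻¹ := congrArg Subtype.val hy
    have h3 : (y : G) = x := mul_left_cancel (mul_right_cancel h2)
    rw [← h3]; exact y.2

theorem pgroup_sup {G : Type*} [Group G] {H K : Subgroup G} (hH : IsPGroup 2 H) (hK : IsPGroup 2 K)
    (h : ∀ g ∈ H, ∀ x, x ∈ K ↔ g * x * g⁻¹ ∈ K) : IsPGroup 2 (H ⊔ K : Subgroup G) := by
  refine hH.to_sup_of_normal_right' hK ?_
  intro g hg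
  rw [Subgroup.mem_normalizer_iff]
  exact h g hg

end general

variable {G : Type*} [Group G] {C : Core G}

/-- the action coordinate -/
noncomputable def cQ (C : Core G) : C.QQ →* Multiplicative K8 :=
  MonoidHom.mk' (fun x => Multiplicative.ofAdd x.2.choose) (by
    intro x y
    have h1 := x.2.choose_spec.mul y.2.choose_spec
    have h2 := (x * y).2.choose_spec
    rw [← ofAdd_add]
    exact congrArg _ (h2.unique h1))

theorem cQ_ker (x : C.QQ) : x ∈ (cQ C).ker ↔ (x : G) ∈ C.TT := by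
  rw [MonoidHom.mem_ker]
  constructor
  · intro h
    have h1 : x.2.choose = 0 := h
    have h2 := x.2.choose_spec
    rw [h1] at h2
    exact h2
  · intro h
    have h2 := x.2.choose_spec.unique h
    show Multiplicative.ofAdd x.2.choose = 1
    rw [h2]; rfl

/-- the `S/Z` coordinate of elements of `T` -/
noncomputable def aT (C : Core G) : C.TT →* Multiplicative K8 :=
  MonoidHom.mk' (fun x => Multiplicative.ofAdd ((eT C).symm x).2.1) (by
    intro x y
    obtain ⟨⟨b, a, e⟩, hx⟩ := (eT C).surjective x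
    obtain ⟨⟨b', a', e'⟩, hy⟩ := (eT C).surjective y
    have h1 : (eT C) (b + b', a + a', e + e' + a * a' ^ 4) = x * y := by
      rw [← hx, ← hy]
      apply Subtype.ext
      show C.v (b + b') * C.U (a + a') (e + e' + a * a' ^ 4) = C.v b * C.U a e * (C.v b' * C.U a' e')
      rw [T_mul]
    rw [← h1, Equiv.symm_apply_apply, ← hx, ← hy, Equiv.symm_apply_apply, Equiv.symm_apply_apply, ← ofAdd_add])

theorem aT_apply (b : A4) (a e : K8) (h : C.v b * C.U a e ∈ C.TT) : aT C ⟨C.v b * C.U a e, h⟩ = Multiplicative.ofAdd a := by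
  have h1 : (eT C) (b, a, e) = ⟨C.v b * C.U a e, h⟩ := rfl
  show Multiplicative.ofAdd ((eT C).symm ⟨C.v b * C.U a e, h⟩).2.1 = _
  rw [← h1, Equiv.symm_apply_apply]

theorem finite_QQ (C : Core G) : Finite C.QQ := Nat.finite_of_card_ne_zero (by rw [card_QQ]; norm_num)

instance : Finite (Multiplicative K8) := inferInstanceAs (Finite K8)

theorem card_MK8 : Nat.card (Multiplicative K8) = 8 := K8.natCard

/-- in the good case centralisers in `Q` of elements of `Q` have index at most 8 -/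
theorem card_cent_Q (hg : C.Good) {t : G} (ht : t ∈ C.QQ) : 256 ≤ Nat.card (C.QQ ⊓ centralizer ({t} : Set G) : Subgroup G) := by
  have := finite_QQ C
  let f : C.QQ →* Multiplicative K8 := MonoidHom.mk' (fun x => Multiplicative.ofAdd (C.bt x t)) (by
    intro x y
    rw [← ofAdd_add, ← bt_mul_left hg x.2 y.2 ht]
    rfl)
  have h1 := card_le_ker f
  rw [card_QQ, card_MK8] at h1
  have h2 : Nat.card f.ker = Nat.card (C.QQ ⊓ centralizer ({t} : Set G) : Subgroup G) := by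
    refine Nat.card_congr ⟨fun x => ⟨x.1, x.1.2, ?_⟩, fun x => ⟨⟨x.1, x.2.1⟩, ?_⟩, fun x => rfl, fun x => rfl⟩
    · refine mem_centralizer_singleton_iff.2 ?_
      have h3 : C.bt x.1 t = 0 := x.2
      have h4 := bt_spec hg x.1.2 ht
      rw [h3, C.z_zero, mul_one] at h4
      exact h4
    · rw [MonoidHom.mem_ker]
      have h3 := mem_centralizer_singleton_iff.1 x.2.2
      have h4 : C.bt x t = 0 := bt_eq (by rw [C.z_zero, mul_one]; exact h3)
      show Multiplicative.ofAdd (C.bt x t) = 1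
      rw [h4]; rfl
  rw [← h2]
  omega

theorem conj_mem_of_good (hg : C.Good) {q y : G} (hq : q ∈ C.QQ) (hy : y ∈ C.QQ) : ∃ e, q * y * q⁻¹ = y * C.z e := by
  obtain ⟨e, he⟩ := exists_comm hg hq hy
  refine ⟨e, ?_⟩
  rw [he, mul_assoc, ← zcomm (inv_mem hq) e, ← mul_assoc, mul_inv_cancel_right]

variable [Finite G]

theorem mem_NT_of_imp {g : G} (h : ∀ x ∈ C.TT, g * x * g⁻¹ ∈ C.TT) : g ∈ NT C := iff_of_imp h

variable (hN : ∀ g : G, (∀ x, x ∈ C.QQ ↔ g * x * g⁻¹ ∈ C.QQ) → g ∈ NT C)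

include hN in
/-- `D ∩ Q ⊆ E - Z` -/
theorem mem_EZ {x : G} (hx : x ∈ C.QQ) {b : A4} (hb : b ≠ 0) {g : G} (h : g * C.v b * g⁻¹ = x) : x ∈ EZ C := by
  by_cases hxT : x ∈ C.TT
  · exact mem_EZ_of_conj hxT hb h
  exfalso
  have hxx : x * x = 1 := by
    rw [← h]
    calc g * C.v b * g⁻¹ * (g * C.v b * g⁻¹) = g * (C.v b * C.v b) * g⁻¹ := by group
      _ = 1 := by rw [C.v_sq]; group
  rcases dichotomy (C := C) with hgood | hbad
  swap
  · exact hbad x hx hxT 0 0 (by rw [hxx, C.v_zero, C.z_zero, mul_one])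
  have hB1 := card_cent_Q hgood hx
  set B : Subgroup G := C.QQ ⊓ centralizer ({x} : Set G) with hBdef
  have hBp : IsPGroup 2 B := (pgroup_QQ C).to_le inf_le_left
  have hB2 : Nat.card B ∣ 256 := card_le_of_comm (C := C) hBp hb g (fun y hy => by
    rw [h]
    exact mem_centralizer_singleton_iff.1 hy.2)
  have hB : Nat.card B = 256 := le_antisymm (Nat.le_of_dvd (by norm_num) hB2) hB1
  let A : Subgroup G := C.TT.map (MulAut.conj g).toMonoidHom
  have hA : Nat.card A = 256 := by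
    rw [← card_TT C]
    exact Nat.card_congr (C.TT.equivMapOfInjective _ (MulAut.conj g).injective).symm.toEquiv
  have hAp : IsPGroup 2 A := (pgroup_TT C).map _
  have hAH : A ≤ centralizer ({x} : Set G) := by
    rintro _ ⟨t, ht, rfl⟩
    rw [mem_centralizer_singleton_iff]
    show g * t * g⁻¹ * x = x * (g * t * g⁻¹)
    have h1 := comm_v_of_mem_TT ht b
    rw [← h]
    calc g * t * g⁻¹ * (g * C.v b * g⁻¹) = g * (t * C.v b) * g⁻¹ := by group
      _ = _ := by rw [h1]; group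
  have hH : Nat.card (centralizer ({x} : Set G)) = 2 ^ 8 * 455 := by
    rw [← h, card_cent_conj hb g]; norm_num
  obtain ⟨h', hh', hconj⟩ := exists_conj_of_card (A := A) (B := B) hAH inf_le_right hAp hBp hH (by decide)
    (by rw [hA]; norm_num)
  set k := h' * g with hk
  have hBT : ∀ y ∈ B, k⁻¹ * y * k ∈ C.TT := by
    intro y hy
    obtain ⟨t, ht, h1⟩ := hconj y hy
    have h2 : g * t * g⁻¹ = h'⁻¹ * y * h' := h1
    have h3 : k⁻¹ * y * k = t := by
      calc k⁻¹ * y * k = g⁻¹ * (h'⁻¹ * y * h') * g := by rw [hk]; group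
        _ = t := by rw [← h2]; group
    rw [h3]; exact ht
  have hTB : ∀ t ∈ C.TT, k * t * k⁻¹ ∈ B := by
    intro t ht
    let f : B → C.TT := fun y => ⟨k⁻¹ * y * k, hBT y y.2⟩
    have hf : Function.Injective f := by
      intro a c hac
      have h1 : k⁻¹ * (a : G) * k = k⁻¹ * c * k := congrArg Subtype.val hac
      exact Subtype.ext (mul_left_cancel (mul_right_cancel h1))
    have hf2 : Function.Bijective f := (Nat.bijective_iff_injective_and_card f).2 ⟨hf, by rw [hB, card_TT]⟩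
    obtain ⟨y, hy⟩ := hf2.2 ⟨t, ht⟩
    have h1 : k⁻¹ * (y : G) * k = t := congrArg Subtype.val hy
    rw [← h1]
    have : k * (k⁻¹ * (y : G) * k) * k⁻¹ = y := by group
    rw [this]; exact y.2
  -- `Q` normalises `B`
  have hQB : ∀ q ∈ C.QQ, ∀ y ∈ B, q * y * q⁻¹ ∈ B := by
    intro q hq y hy
    obtain ⟨e, he⟩ := conj_mem_of_good hgood hq hy.1
    rw [he]
    refine mul_mem hy ⟨z_mem_QQ e, mem_centralizer_singleton_iff.2 (zcomm hx e).symm⟩
  have hQN : ∀ q ∈ C.QQ, k⁻¹ * q * k ∈ NT C := by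
    intro q hq
    refine mem_NT_of_imp (fun t ht => ?_)
    have h1 := hBT _ (hQB q hq _ (hTB t ht))
    have h2 : k⁻¹ * (q * (k * t * k⁻¹) * q⁻¹) * k = k⁻¹ * q * k * t * (k⁻¹ * q * k)⁻¹ := by group
    rwa [h2] at h1
  let Q' : Subgroup G := C.QQ.map (MulAut.conj k⁻¹).toMonoidHom
  have hQ'p : IsPGroup 2 Q' := (pgroup_QQ C).map _
  have hQ'N : Q' ≤ NT C := by
    rintro _ ⟨q, hq, rfl⟩
    have := hQN q hq
    have h2 : (MulAut.conj k⁻¹).toMonoidHom q = k⁻¹ * q * k := by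
      show k⁻¹ * q * k⁻¹⁻¹ = _
      rw [inv_inv]
    rw [h2]; exact this
  have hPp : IsPGroup 2 (Q' ⊔ C.QQ : Subgroup G) :=
    pgroup_sup hQ'p (pgroup_QQ C) (fun g hg => iff_of_imp (fun x hx => norm_QQ (hQ'N hg) hx))
  have hPe := eq_QQ (P := Q' ⊔ C.QQ) hPp le_sup_right (sup_le hQ'N QQ_le_NT)
  have hQ'Q : Q' ≤ C.QQ := by
    rw [← hPe]; exact le_sup_left
  have hk1 : k⁻¹ ∈ NT C := by
    refine hN k⁻¹ (iff_of_imp (fun q hq => hQ'Q ⟨q, hq, rfl⟩))
  have hk2 : C.v (1, 0) ∈ B := by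
    have h1 := (hk1 _).1 (v_mem_TT (C := C) (1, 0))
    have h2 := hTB _ h1
    have h3 : k * (k⁻¹ * C.v (1, 0) * k⁻¹⁻¹) * k⁻¹ = C.v (1, 0) := by group
    rwa [h3] at h2
  have hk3 := mem_centralizer_singleton_iff.1 hk2.2
  exact hxT (mem_TT_of_comm hx (by decide) hk3.symm)

/-- the non-trivial elements of `Z` are conjugate -/
theorem zc_z {e : K8} (he : e ≠ 0) : ZC C (C.z e) := by
  have h : InvL C (C.z e) := ⟨C.z_mem e, C.z_sq e, fun h => he (C.z_eq_one h)⟩
  exact h.zc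

theorem not_zc_EZ {x : G} (hx : x ∈ EZ C) : ¬ ZC C x := by
  rintro ⟨g, hg⟩
  obtain ⟨y, hy, b, hb, h⟩ := EZ_conj hx
  refine z_ne_conj (C := C) hb (e := 1) (y⁻¹ * g) ?_
  have h1 : y⁻¹ * g * C.z 1 * (y⁻¹ * g)⁻¹ = y⁻¹ * (g * C.z 1 * g⁻¹) * y := by group
  rw [h1, hg, ← h]; group

theorem mem_Z_of_TT {x : G} (hx : x ∈ C.TT) (hz : ZC C x) : ∃ e, x = C.z e := by
  obtain ⟨b, e, h1⟩ := inv_T hx hz.sq
  by_cases hb : b = 0
  · subst hb
    exact ⟨e, by rw [h1, C.v_zero, one_mul]⟩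
  · exact absurd hz (not_zc_EZ ⟨b, e, hb, h1⟩)

theorem fin_span : ∀ a1 a2 : K8, a1 ≠ 0 → a2 ≠ 0 → a1 ≠ a2 → ∀ e : K8, ∃ s1 s2 s3 : Bool,
    e = (cond s1 (a1 ^ 5) 0) + (cond s2 (a2 ^ 5) 0) + (cond s3 ((a1 + a2) ^ 5) 0) := by decide +kernel

include hN in
/-- `z^G ∩ Q ⊆ Z` -/
theorem mem_Z {x : G} (hx : x ∈ C.QQ) (hz : ZC C x) : ∃ e, x = C.z e := by
  by_cases hxT : x ∈ C.TT
  · exact mem_Z_of_TT hxT hz
  exfalso
  have hxx := hz.sq
  rcases dichotomy (C := C) with hgood | hbad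
  swap
  · exact hbad x hx hxT 0 0 (by rw [hxx, C.v_zero, C.z_zero, mul_one])
  have hB1 := card_cent_Q hgood hx
  set B : Subgroup G := C.QQ ⊓ centralizer ({x} : Set G) with hBdef
  have hBp : IsPGroup 2 B := (pgroup_QQ C).to_le inf_le_left
  obtain ⟨g, hg⟩ := hz
  -- conjugate `B` into `Q`
  obtain ⟨h, hh, hconj⟩ := exists_conj_in hN (H := centralizer ({C.z 1} : Set G))
    (P := B.map (MulAut.conj g⁻¹).toMonoidHom) (fun q hq => by
      rw [mem_centralizer_singleton_iff]; exact zcomm hq 1) (by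
      rintro _ ⟨y, hy, rfl⟩
      rw [mem_centralizer_singleton_iff]
      show g⁻¹ * y * g⁻¹⁻¹ * C.z 1 = C.z 1 * (g⁻¹ * y * g⁻¹⁻¹)
      have h1 := mem_centralizer_singleton_iff.1 hy.2
      rw [← hg] at h1
      calc g⁻¹ * y * g⁻¹⁻¹ * C.z 1 = g⁻¹ * (y * (g * C.z 1 * g⁻¹)) * g := by group
        _ = _ := by rw [h1]; group) (hBp.map _)
  set k := g * h with hk
  have hkz : k * C.z 1 * k⁻¹ = x := by
    have h1 := mem_centralizer_singleton_iff.1 hh
    calc k * C.z 1 * k⁻¹ = g * (h * C.z 1) * h⁻¹ * g⁻¹ := by rw [hk]; group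
      _ = g * C.z 1 * g⁻¹ := by rw [h1]; group
      _ = x := hg
  have hBk : ∀ y ∈ B, k⁻¹ * y * k ∈ C.QQ := by
    intro y hy
    have h1 := hconj _ ⟨y, hy, rfl⟩
    have h2 : h⁻¹ * (MulAut.conj g⁻¹).toMonoidHom y * h = k⁻¹ * y * k := by
      show h⁻¹ * (g⁻¹ * y * g⁻¹⁻¹) * h = _
      rw [hk]; group
    rwa [h2] at h1
  -- the set `S`
  let S : K8 → Prop := fun e => ∃ e', C.z e = k * C.z e' * k⁻¹
  have S0 : S 0 := ⟨0, by rw [C.z_zero]; group⟩
  have Sadd : ∀ a b, S a → S b → S (a + b) := by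
    rintro a b ⟨a', ha⟩ ⟨b', hb⟩
    exact ⟨a' + b', by rw [C.z_add, C.z_add, ha, hb]; group⟩
  have Ssq : ∀ b a e, C.v b * C.U a e ∈ B → S (a ^ 5) := by
    intro b a e hy
    obtain ⟨e', he'⟩ := hgood _ (hBk _ hy)
    refine ⟨e', ?_⟩
    rw [← T_sq b a e, ← he']; group
  -- `B ∩ T`
  have hfin : Finite B := inferInstance
  have hBT : 32 ≤ Nat.card (B ⊓ C.TT : Subgroup G) := by
    have hBQ : B ≤ C.QQ := inf_le_left
    have h1 : Nat.card B ≤ Nat.card ((cQ C).comp (Subgroup.inclusion hBQ)).ker * Nat.card (Multiplicative K8) :=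
      card_le_ker ((cQ C).comp (Subgroup.inclusion hBQ))
    rw [card_MK8] at h1
    have h2 : Nat.card ((cQ C).comp (Subgroup.inclusion hBQ)).ker = Nat.card (B ⊓ C.TT : Subgroup G) := by
      refine Nat.card_congr ⟨fun y => ⟨y.1, y.1.2, ?_⟩, fun y => ⟨⟨y.1, y.2.1⟩, ?_⟩, fun y => rfl, fun y => rfl⟩
      · exact (cQ_ker _).1 y.2
      · exact (cQ_ker _).2 y.2.2
    rw [h2] at h1
    have h3 : 256 ≤ Nat.card B := hB1
    omega
  have hA : ∃ b1 a1 e1 b2 a2 e2, C.v b1 * C.U a1 e1 ∈ B ∧ C.v b2 * C.U a2 e2 ∈ B ∧ a1 ≠ 0 ∧ a2 ≠ 0 ∧ a1 ≠ a2 := by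
    let f : (B ⊓ C.TT : Subgroup G) →* Multiplicative K8 := (aT C).comp (Subgroup.inclusion inf_le_right)
    have h1 := f.ker.card_mul_index
    rw [Subgroup.index_ker] at h1
    have h2 : Nat.card f.ker ≤ 8 := by
      rw [← K8.natCard]
      have hk : ∀ y : f.ker, ∃ e, ((y : (B ⊓ C.TT : Subgroup G)) : G) = C.z e := by
        intro y
        obtain ⟨b, a, e, h3⟩ := TT_eq y.1.2.2
        have h4 : f y = 1 := y.2
        have h5 : f y = Multiplicative.ofAdd a := by
          rw [← aT_apply (C := C) b a e mem_TT_of]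
          exact congrArg (aT C) (Subtype.ext h3)
        rw [h5] at h4
        have ha : a = 0 := h4
        subst ha
        have hb : b = 0 := by
          by_contra hb
          have h6 : C.v b * C.U 0 e * x = x * (C.v b * C.U 0 e) := by
            rw [← h3]
            exact mem_centralizer_singleton_iff.1 y.1.2.1.2
          refine hxT (mem_TT_of_comm hx hb ?_)
          have h7 := zcomm hx e
          rw [C.z_eq] at h7
          have h8 : C.v b * x * C.U 0 e = x * C.v b * C.U 0 e := by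
            rw [mul_assoc, h7, ← mul_assoc, h6, mul_assoc]
          exact (mul_right_cancel h8).symm
        subst hb
        exact ⟨e, by rw [h3, C.v_zero, one_mul, C.z_eq]⟩
      choose φ hφ using hk
      refine Nat.card_le_card_of_injective φ (fun y y' hyy => ?_)
      apply Subtype.ext
      apply Subtype.ext
      rw [hφ y, hφ y', hyy]
    have h3 : 4 ≤ Nat.card f.range := by
      by_contra h4
      have h5 : Nat.card f.ker * Nat.card f.range ≤ 8 * 3 := Nat.mul_le_mul h2 (by omega)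
      omega
    have h4 : 2 < (f.range : Set (Multiplicative K8)).ncard := by
      have : (f.range : Set (Multiplicative K8)).ncard = Nat.card f.range := rfl
      omega
    have h5 : ∃ r ∈ (f.range : Set (Multiplicative K8)), r ∉ ({1} : Set (Multiplicative K8)) := by
      refine Set.exists_mem_notMem_of_ncard_lt_ncard ?_
      rw [Set.ncard_singleton]; omega
    obtain ⟨r1, ⟨y1, hy1⟩, hr1⟩ := h5
    have h6 : ∃ r ∈ (f.range : Set (Multiplicative K8)), r ∉ ({1, r1} : Set (Multiplicative K8)) := by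
      refine Set.exists_mem_notMem_of_ncard_lt_ncard ?_
      exact lt_of_le_of_lt (Set.ncard_insert_le _ _) (by rw [Set.ncard_singleton]; omega)
    obtain ⟨r2, ⟨y2, hy2⟩, hr2⟩ := h6
    obtain ⟨b1, a1, e1, h7⟩ := TT_eq y1.2.2
    obtain ⟨b2, a2, e2, h8⟩ := TT_eq y2.2.2
    have h9 : f y1 = Multiplicative.ofAdd a1 := by
      rw [← aT_apply (C := C) b1 a1 e1 mem_TT_of]
      exact congrArg (aT C) (Subtype.ext h7)
    have h10 : f y2 = Multiplicative.ofAdd a2 := by
      rw [← aT_apply (C := C) b2 a2 e2 mem_TT_of]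
      exact congrArg (aT C) (Subtype.ext h8)
    refine ⟨b1, a1, e1, b2, a2, e2, by rw [← h7]; exact y1.2.1, by rw [← h8]; exact y2.2.1, ?_, ?_, ?_⟩
    · rintro rfl
      apply hr1
      rw [Set.mem_singleton_iff, ← hy1, h9]; rfl
    · rintro rfl
      apply hr2
      rw [Set.mem_insert_iff]
      left
      rw [← hy2, h10]; rfl
    · rintro rfl
      apply hr2
      rw [Set.mem_insert_iff, Set.mem_singleton_iff]
      right
      rw [← hy2, h10, ← hy1, h9]
  obtain ⟨b1, a1, e1, b2, a2, e2, hy1, hy2, ha1, ha2, ha12⟩ := hA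
  have s1 := Ssq _ _ _ hy1
  have s2 := Ssq _ _ _ hy2
  have s3 : S ((a1 + a2) ^ 5) := by
    have h1 := mul_mem hy1 hy2
    rw [T_mul] at h1
    exact Ssq _ _ _ h1
  have Sall : ∀ e, S e := by
    intro e
    obtain ⟨t1, t2, t3, he⟩ := fin_span a1 a2 ha1 ha2 ha12 e
    rw [he]
    refine Sadd _ _ (Sadd _ _ ?_ ?_) ?_
    · cases t1
      · exact S0
      · exact s1
    · cases t2
      · exact S0
      · exact s2
    · cases t3
      · exact S0
      · exact s3
  choose φ hφ using Sall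
  have hinj : Function.Injective φ := by
    intro a b hab
    apply C.z_inj
    rw [hφ a, hφ b, hab]
  obtain ⟨e, he⟩ := (Finite.injective_iff_surjective.1 hinj) 1
  have h1 := hφ e
  rw [he, hkz] at h1
  exact hxT (by rw [← h1]; exact z_mem_TT e)

end Cfsg.Agent.RuB.QSyl
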