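import Cfsg.Agent.RuB.QGroup

/-!
# Coordinates on `Q` in the good case

`Coord C`: additive coordinates `π : Q → A4 × K8 × K8` with kernel `Z`, squares given by
`qf ν μ (b, a, c) = (ν + emb b) c + a ^ 5 + μ a² c²`, and equivariance under the torus.
-/

set_option autoImplicit false

namespace Cfsg.Agent.RuB

/-- the quadratic form -/
def qf (ν μ : K8) (p : A4 × K8 × K8) : K8 := (ν + emb p.1) * p.2.2 + p.2.1 ^ 5 + μ * p.2.1 ^ 2 * p.2.2 ^ 2

/-- its polar form -/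
def bf (μ : K8) (p r : A4 × K8 × K8) : K8 := emb p.1 * r.2.2 + emb r.1 * p.2.2 +
  (p.2.1 ^ 4 * r.2.1 + p.2.1 * r.2.1 ^ 4) + μ * (p.2.1 ^ 2 * r.2.2 ^ 2 + p.2.2 ^ 2 * r.2.1 ^ 2)

theorem qf_add (ν μ : K8) (p r : A4 × K8 × K8) : qf ν μ (p + r) = qf ν μ p + qf ν μ r + bf μ p r := by
  obtain ⟨b, a, c⟩ := p
  obtain ⟨b', a', c'⟩ := r
  simp only [qf, bf, Prod.fst_add, Prod.snd_add, emb_add]
  linear_combination (2 * a ^ 4 * a' + 5 * a ^ 3 * a' ^ 2 + 5 * a ^ 2 * a' ^ 3 + 2 * a * a' ^ 4 +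
    μ * (a * a' * c ^ 2 + a * a' * c' ^ 2 + a ^ 2 * c * c' + a' ^ 2 * c * c' + 2 * a * a' * c * c')) * K8.two_eq

theorem A4.add_self (a : A4) : a + a = 0 := by revert a; decide

theorem K8.add_eq_zero {a b : K8} (h : a + b = 0) : a = b := by
  linear_combination h - b * K8.two_eq

theorem A4.add_eq_zero {a b : A4} (h : a + b = 0) : a = b := by
  revert h; revert a b; decide

/-- coordinates on `Q` -/
structure Coord {G : Type*} [Group G] (C : Core G) where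
  ν : K8
  μ : K8
  π : G → A4 × K8 × K8
  mul : ∀ x ∈ C.QQ, ∀ y ∈ C.QQ, π (x * y) = π x + π y
  surj : ∀ p, ∃ x ∈ C.QQ, π x = p
  ker : ∀ x ∈ C.QQ, π x = 0 → ∃ e, x = C.z e
  vU : ∀ b a e, π (C.v b * C.U a e) = (b, a, 0)
  act : ∀ x ∈ C.QQ, C.Act x (π x).2.2
  sq : ∀ x ∈ C.QQ, x * x = C.z (qf ν μ (π x))
  dk : ∀ (k : K8ˣ), ∀ x ∈ C.QQ, π (C.dk k * x * (C.dk k)⁻¹) =
    ((π x).1, (π x).2.1 * (k : K8) ^ 5, (π x).2.2 * (k : K8) ^ 4)

namespace Core

open Cfsg.Agent.ThreePrime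

variable {G : Type*} [Group G] {C : Core G}

theorem dk_mul (k l : K8ˣ) : C.dk k * C.dk l = C.dk (k * l) := congrArg Subtype.val (C.R.d_mul k l)

theorem dk_inv (k : K8ˣ) : (C.dk k)⁻¹ = C.dk k⁻¹ := congrArg Subtype.val (C.R.d_inv k)

theorem dk_comm (k l : K8ˣ) : C.dk k * C.dk l = C.dk l * C.dk k := by rw [dk_mul, dk_mul, mul_comm]

/-- conjugation by the torus -/
def cj (C : Core G) (k : K8ˣ) (x : G) : G := C.dk k * x * (C.dk k)⁻¹

theorem cj_mul (k : K8ˣ) (x y : G) : C.cj k (x * y) = C.cj k x * C.cj k y := by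
  unfold cj; group

theorem cj_inv (k : K8ˣ) (x : G) : C.cj k x⁻¹ = (C.cj k x)⁻¹ := by
  unfold cj; group

theorem cj_cj (k l : K8ˣ) (x : G) : C.cj k (C.cj l x) = C.cj (k * l) x := by
  unfold cj
  rw [← dk_mul]
  group

theorem cj_comm (k l : K8ˣ) (x : G) : C.cj k (C.cj l x) = C.cj l (C.cj k x) := by
  rw [cj_cj, cj_cj, mul_comm]

theorem dk_one : C.dk 1 = 1 := congrArg Subtype.val C.R.d_one

theorem cj_one (x : G) : C.cj 1 x = x := by
  unfold cj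
  rw [dk_one]; group

theorem Act.cj {x : G} {c : K8} (h : C.Act x c) (k : K8ˣ) : C.Act (C.cj k x) (c * (k : K8) ^ 4) := h.dk k

theorem cj_mem {x : G} (h : x ∈ C.QQ) (k : K8ˣ) : C.cj k x ∈ C.QQ := by
  obtain ⟨c, hc⟩ := h
  exact ⟨_, hc.cj k⟩

theorem cj_z (k : K8ˣ) (e : K8) : C.cj k (C.z e) = C.z (e * (k : K8) ^ 4) := C.dk_z k e

theorem cj_U (k : K8ˣ) (a e : K8) : C.cj k (C.U a e) = C.U (a * (k : K8) ^ 5) (e * (k : K8) ^ 4) := C.dk_conj k a e

theorem cj_v (k : K8ˣ) (b : A4) : C.cj k (C.v b) = C.v b := C.dk_v_conj k b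

theorem cj_T (k : K8ˣ) (b : A4) (a e : K8) : C.cj k (C.v b * C.U a e) =
    C.v b * C.U (a * (k : K8) ^ 5) (e * (k : K8) ^ 4) := by rw [cj_mul, cj_v, cj_U]

theorem z_mem_QQ (e : K8) : C.z e ∈ C.QQ := TT_le (z_mem_TT e)

theorem zcomm {x : G} (h : x ∈ C.QQ) (e : K8) : x * C.z e = C.z e * x := by
  obtain ⟨c, hc⟩ := h
  exact hc.1 e

/-- equality modulo `Z` -/
def Sim (C : Core G) (x y : G) : Prop := ∃ e, x = y * C.z e

theorem Sim.refl (x : G) : C.Sim x x := ⟨0, by rw [C.z_zero, mul_one]⟩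

theorem Sim.symm {x y : G} (h : C.Sim x y) : C.Sim y x := by
  obtain ⟨e, rfl⟩ := h
  exact ⟨e, by rw [mul_assoc, C.z_sq, mul_one]⟩

theorem Sim.trans {x y w : G} (h : C.Sim x y) (h' : C.Sim y w) : C.Sim x w := by
  obtain ⟨e, rfl⟩ := h
  obtain ⟨f, rfl⟩ := h'
  exact ⟨f + e, by rw [C.z_add, mul_assoc]⟩

theorem Sim.mul {x y x' y' : G} (h : C.Sim x y) (h' : C.Sim x' y') (hy : y' ∈ C.QQ) : C.Sim (x * x') (y * y') := by
  obtain ⟨e, rfl⟩ := h
  obtain ⟨f, rfl⟩ := h'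
  refine ⟨e + f, ?_⟩
  rw [C.z_add]
  calc y * C.z e * (y' * C.z f) = y * (C.z e * y') * C.z f := by group
    _ = y * (y' * C.z e) * C.z f := by rw [zcomm hy]
    _ = _ := by group

theorem Sim.cj {x y : G} (h : C.Sim x y) (k : K8ˣ) : C.Sim (C.cj k x) (C.cj k y) := by
  obtain ⟨e, rfl⟩ := h
  exact ⟨_, by rw [cj_mul, cj_z]⟩

theorem Sim.mem {x y : G} (h : C.Sim x y) (hy : y ∈ C.QQ) : x ∈ C.QQ := by
  obtain ⟨e, rfl⟩ := h
  exact mul_mem hy (z_mem_QQ e)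

section Good

variable (hg : C.Good)

include hg

theorem exists_comm {x y : G} (hx : x ∈ C.QQ) (hy : y ∈ C.QQ) : ∃ e, x * y = y * x * C.z e := by
  obtain ⟨e1, h1⟩ := hg x hx
  obtain ⟨e2, h2⟩ := hg y hy
  obtain ⟨e3, h3⟩ := hg (x * y) (mul_mem hx hy)
  refine ⟨e1 + e2 + e3, ?_⟩
  have h4 : x * y = y⁻¹ * x⁻¹ * C.z e3 := by
    rw [← h3]; group
  have h5 : y⁻¹ = y * C.z e2 := by
    have : y * (y * C.z e2) = 1 := by rw [← mul_assoc, h2, C.z_sq]
    exact inv_eq_of_mul_eq_one_right this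
  have h6 : x⁻¹ = x * C.z e1 := by
    have : x * (x * C.z e1) = 1 := by rw [← mul_assoc, h1, C.z_sq]
    exact inv_eq_of_mul_eq_one_right this
  rw [h4, h5, h6, C.z_add, C.z_add]
  calc y * C.z e2 * (x * C.z e1) * C.z e3 = y * (C.z e2 * x) * C.z e1 * C.z e3 := by group
    _ = y * x * (C.z e2 * C.z e1) * C.z e3 := by rw [← zcomm hx]; group
    _ = _ := by rw [C.z_comm e2 e1]; group

theorem sim_comm {x y : G} (hx : x ∈ C.QQ) (hy : y ∈ C.QQ) : C.Sim (x * y) (y * x) := exists_comm hg hx hy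

theorem sim_four {a b c d : G} (_ : a ∈ C.QQ) (hb : b ∈ C.QQ) (hc : c ∈ C.QQ) (hd : d ∈ C.QQ) :
    C.Sim ((a * b) * (c * d)) ((a * c) * (b * d)) := by
  have h1 : (a * b) * (c * d) = a * (b * c) * d := by group
  have h2 : (a * c) * (b * d) = a * (c * b) * d := by group
  rw [h1, h2]
  exact (((Sim.refl a).mul (sim_comm hg hb hc) (mul_mem hc hb)).mul (Sim.refl d) hd)

end Good

/-- `α` as a unit -/
def kap : K8ˣ := Units.mk0 K8.al (by decide +kernel)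

theorem kap_val : (kap : K8) = K8.al := rfl

/-- the projection `1 + ρ + ρ² + ρ⁴` -/
def PP (C : Core G) (x : G) : G := x * C.cj kap x * C.cj (kap * kap) x * C.cj (kap * kap * (kap * kap)) x

theorem PP_mem {x : G} (hx : x ∈ C.QQ) : C.PP x ∈ C.QQ :=
  mul_mem (mul_mem (mul_mem hx (cj_mem hx _)) (cj_mem hx _)) (cj_mem hx _)

theorem PP_cj (k : K8ˣ) (x : G) : C.PP (C.cj k x) = C.cj k (C.PP x) := by
  unfold PP
  rw [cj_mul, cj_mul, cj_mul, cj_comm kap k, cj_comm (kap * kap) k, cj_comm (kap * kap * (kap * kap)) k]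

theorem PP_mul (hg : C.Good) {x y : G} (hx : x ∈ C.QQ) (hy : y ∈ C.QQ) : C.Sim (C.PP (x * y)) (C.PP x * C.PP y) := by
  unfold PP
  rw [cj_mul, cj_mul, cj_mul]
  have h1 := sim_four hg hx hy (cj_mem hx kap) (cj_mem hy kap)
  have h2 := (h1.mul (Sim.refl (C.cj (kap * kap) x * C.cj (kap * kap) y))
    (mul_mem (cj_mem hx _) (cj_mem hy _))).trans
    (sim_four hg (mul_mem hx (cj_mem hx kap)) (mul_mem hy (cj_mem hy kap)) (cj_mem hx (kap * kap)) (cj_mem hy (kap * kap)))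
  exact (h2.mul (Sim.refl (C.cj (kap * kap * (kap * kap)) x * C.cj (kap * kap * (kap * kap)) y))
    (mul_mem (cj_mem hx _) (cj_mem hy _))).trans
    (sim_four hg (mul_mem (mul_mem hx (cj_mem hx kap)) (cj_mem hx _)) (mul_mem (mul_mem hy (cj_mem hy kap)) (cj_mem hy _))
      (cj_mem hx _) (cj_mem hy _))

theorem PP_T (b : A4) (a e : K8) : ∃ f, C.PP (C.v b * C.U a e) = C.z f := by
  unfold PP
  rw [cj_T, cj_T, cj_T, T_mul, T_mul, T_mul]
  have h1 : b + b + b + b = 0 := by revert b; decide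
  have h2 : a + a * (kap : K8) ^ 5 + a * ((kap * kap : K8ˣ) : K8) ^ 5 + a * ((kap * kap * (kap * kap) : K8ˣ) : K8) ^ 5 = 0 := by
    have h3 : ∀ a : K8, a + a * K8.al ^ 5 + a * (K8.al * K8.al) ^ 5 + a * (K8.al * K8.al * (K8.al * K8.al)) ^ 5 = 0 := by
      decide +kernel
    exact h3 a
  rw [h1, h2, C.v_zero, one_mul]
  exact ⟨_, rfl⟩

theorem PP_act {x : G} {c : K8} (h : C.Act x c) : C.Act (C.PP x) c := by
  have h1 := ((h.mul (h.cj kap)).mul (h.cj (kap * kap))).mul (h.cj (kap * kap * (kap * kap)))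
  have h2 : c + c * (kap : K8) ^ 4 + c * ((kap * kap : K8ˣ) : K8) ^ 4 + c * ((kap * kap * (kap * kap) : K8ˣ) : K8) ^ 4 = c := by
    have h3 : ∀ a : K8, a + a * K8.al ^ 4 + a * (K8.al * K8.al) ^ 4 + a * (K8.al * K8.al * (K8.al * K8.al)) ^ 4 = a := by
      decide +kernel
    exact h3 c
  rw [h2] at h1
  exact h1

/-- `x` has coordinates `p` -/
def HasPi (C : Core G) (x : G) (p : A4 × K8 × K8) : Prop :=
  C.Act x p.2.2 ∧ ∃ e, x = C.PP x * (C.v p.1 * C.U p.2.1 e)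

theorem exists_hasPi {x : G} (hx : x ∈ C.QQ) : ∃ p, C.HasPi x p := by
  obtain ⟨c, hc⟩ := hx
  have h1 := (PP_act hc).inv.mul hc
  rw [K8.add_self] at h1
  obtain ⟨b, a, e, h2⟩ := TT_eq (C := C) h1
  exact ⟨(b, a, c), hc, e, by rw [← h2]; group⟩

theorem HasPi.unique {x : G} {p r : A4 × K8 × K8} (h : C.HasPi x p) (h' : C.HasPi x r) : p = r := by
  obtain ⟨h1, e, h2⟩ := h
  obtain ⟨h3, f, h4⟩ := h'
  have h5 := h1.unique h3
  rw [h2] at h4
  have h6 : C.v p.1 * C.U p.2.1 e = C.v r.1 * C.U r.2.1 f := by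
    have h7 := h2.symm.trans h2
    have h8 : C.PP x * (C.v p.1 * C.U p.2.1 e) = C.PP x * (C.v r.1 * C.U r.2.1 f) := by
      rw [← h2] at h4
      rw [← h2]
      exact h4
    exact mul_left_cancel h8
  obtain ⟨h7, h8, -⟩ := T_inj h6
  exact Prod.ext h7 (Prod.ext h8 h5)

open Classical in
/-- the coordinate map -/
noncomputable def piQ (C : Core G) (x : G) : A4 × K8 × K8 :=
  if h : ∃ p, C.HasPi x p then h.choose else 0

theorem piQ_spec {x : G} (hx : x ∈ C.QQ) : C.HasPi x (C.piQ x) := by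
  unfold piQ
  rw [dif_pos (exists_hasPi hx)]
  exact (exists_hasPi hx).choose_spec

theorem piQ_eq {x : G} {p : A4 × K8 × K8} (h : C.HasPi x p) : C.piQ x = p :=
  (piQ_spec ⟨_, h.1⟩).unique h

theorem piQ_mul (hg : C.Good) {x y : G} (hx : x ∈ C.QQ) (hy : y ∈ C.QQ) : C.piQ (x * y) = C.piQ x + C.piQ y := by
  apply piQ_eq
  obtain ⟨h1, e, h2⟩ := piQ_spec hx
  obtain ⟨h3, f, h4⟩ := piQ_spec hy
  refine ⟨h1.mul h3, ?_⟩
  set p := C.piQ x
  set r := C.piQ y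
  have hT1 : C.v p.1 * C.U p.2.1 e ∈ C.QQ := TT_le mem_TT_of
  have hT2 : C.v r.1 * C.U r.2.1 f ∈ C.QQ := TT_le mem_TT_of
  have h5 : C.Sim (x * y) (C.PP (x * y) * ((C.v p.1 * C.U p.2.1 e) * (C.v r.1 * C.U r.2.1 f))) := by
    have h6 : C.Sim (x * y) ((C.PP x * C.PP y) * ((C.v p.1 * C.U p.2.1 e) * (C.v r.1 * C.U r.2.1 f))) := by
      have h7 := sim_four hg (PP_mem hx) hT1 (PP_mem hy) hT2
      rw [← h2, ← h4] at h7
      exact h7
    exact h6.trans ((PP_mul hg hx hy).symm.mul (Sim.refl _) (mul_mem hT1 hT2))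
  obtain ⟨g, h8⟩ := h5
  rw [T_mul, mul_assoc, mul_assoc, C.U_mul_z] at h8
  exact ⟨_, h8⟩

theorem piQ_vU (b : A4) (a e : K8) : C.piQ (C.v b * C.U a e) = (b, a, 0) := by
  apply piQ_eq
  refine ⟨mem_TT_of, ?_⟩
  obtain ⟨f, hf⟩ := PP_T (C := C) b a e
  refine ⟨e + f, ?_⟩
  rw [hf, ← mul_assoc, ← C.v_z_comm, mul_assoc, C.z_mul_U]
  congr 2
  linear_combination (-f) * K8.two_eq

theorem piQ_z (e : K8) : C.piQ (C.z e) = 0 := by
  have := piQ_vU (C := C) 0 0 e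
  rw [C.v_zero, one_mul] at this
  exact this

theorem piQ_cj (k : K8ˣ) {x : G} (hx : x ∈ C.QQ) : C.piQ (C.cj k x) =
    ((C.piQ x).1, (C.piQ x).2.1 * (k : K8) ^ 5, (C.piQ x).2.2 * (k : K8) ^ 4) := by
  obtain ⟨h1, e, h2⟩ := piQ_spec hx
  apply piQ_eq
  refine ⟨h1.cj k, e * (k : K8) ^ 4, ?_⟩
  rw [PP_cj, ← cj_T, ← cj_mul, ← h2]

theorem piQ_ker {x : G} (hx : x ∈ C.QQ) (h : C.piQ x = 0) : ∃ e, x = C.z e := by
  obtain ⟨h1, e, h2⟩ := piQ_spec hx
  rw [h] at h1 h2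
  obtain ⟨b, a, e', h3⟩ := TT_eq (C := C) (x := x) h1
  obtain ⟨f, hf⟩ := PP_T (C := C) b a e'
  rw [← h3] at hf
  rw [hf] at h2
  refine ⟨f + e, ?_⟩
  rw [h2, C.z_add]
  show _ * (C.v 0 * C.U 0 e) = _
  rw [C.v_zero, one_mul, C.z_eq]
  rfl

theorem exists_act (C : Core G) (c : K8) : ∃ x, C.Act x c := by
  obtain ⟨x, h1, h2⟩ := C.grow c
  exact ⟨x, h1, h2⟩

theorem piQ_surj (hg : C.Good) (p : A4 × K8 × K8) : ∃ x ∈ C.QQ, C.piQ x = p := by
  obtain ⟨b, a, c⟩ := p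
  obtain ⟨x, hx⟩ := C.exists_act c
  have hxQ : x ∈ C.QQ := ⟨c, hx⟩
  have h1 : (C.piQ x).2.2 = c := (piQ_spec hxQ).1.unique hx
  refine ⟨x * (C.v ((C.piQ x).1 + b) * C.U ((C.piQ x).2.1 + a) 0), mul_mem hxQ (TT_le mem_TT_of), ?_⟩
  rw [piQ_mul hg hxQ (TT_le mem_TT_of), piQ_vU]
  refine Prod.ext ?_ (Prod.ext ?_ ?_)
  · show (C.piQ x).1 + ((C.piQ x).1 + b) = b
    rw [← add_assoc, A4.add_self, zero_add]
  · show (C.piQ x).2.1 + ((C.piQ x).2.1 + a) = a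
    rw [← add_assoc, K8.add_self, zero_add]
  · show (C.piQ x).2.2 + 0 = c
    rw [h1, add_zero]

theorem sim_of_piQ_eq (hg : C.Good) {x y : G} (hx : x ∈ C.QQ) (hy : y ∈ C.QQ) (h : C.piQ x = C.piQ y) : C.Sim x y := by
  have h1 := piQ_mul hg (inv_mem hy) hx
  have h2 := piQ_mul hg (inv_mem hy) hy
  rw [inv_mul_cancel, ← C.z_zero, piQ_z] at h2
  rw [h, ← h2] at h1
  obtain ⟨e, he⟩ := piQ_ker (mul_mem (inv_mem hy) hx) h1
  exact ⟨e, by rw [← he]; group⟩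


/-! ### the commutator form -/

section Form

variable (hg : C.Good)

include hg

open Classical in
/-- the commutator form -/
noncomputable def bt (C : Core G) (x y : G) : K8 :=
  if h : ∃ e, x * y = y * x * C.z e then h.choose else 0

omit hg in
theorem bt_eq {x y : G} {e : K8} (h : x * y = y * x * C.z e) : C.bt x y = e := by
  unfold bt
  have h1 : ∃ e, x * y = y * x * C.z e := ⟨e, h⟩
  rw [dif_pos h1]
  have h2 := h.symm.trans h1.choose_spec
  exact (C.z_inj (mul_left_cancel h2)).symm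

theorem bt_spec {x y : G} (hx : x ∈ C.QQ) (hy : y ∈ C.QQ) : x * y = y * x * C.z (C.bt x y) := by
  obtain ⟨e, he⟩ := exists_comm hg hx hy
  rw [bt_eq he]
  exact he

theorem bt_symm {x y : G} (hx : x ∈ C.QQ) (hy : y ∈ C.QQ) : C.bt x y = C.bt y x := by
  symm
  apply bt_eq
  rw [bt_spec hg hx hy, mul_assoc, C.z_sq, mul_one]

theorem bt_mul_left {x x' y : G} (hx : x ∈ C.QQ) (hx' : x' ∈ C.QQ) (hy : y ∈ C.QQ) :
    C.bt (x * x') y = C.bt x y + C.bt x' y := by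
  apply bt_eq
  calc x * x' * y = x * (x' * y) := by group
    _ = x * y * (x' * C.z (C.bt x' y)) := by rw [bt_spec hg hx' hy]; group
    _ = y * x * (C.z (C.bt x y) * x') * C.z (C.bt x' y) := by rw [bt_spec hg hx hy]; group
    _ = y * x * (x' * C.z (C.bt x y)) * C.z (C.bt x' y) := by rw [zcomm hx']
    _ = _ := by rw [C.z_add]; group

theorem bt_mul_right {x y y' : G} (hx : x ∈ C.QQ) (hy : y ∈ C.QQ) (hy' : y' ∈ C.QQ) :
    C.bt x (y * y') = C.bt x y + C.bt x y' := by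
  rw [bt_symm hg hx (mul_mem hy hy'), bt_mul_left hg hy hy' hx, bt_symm hg hy hx, bt_symm hg hy' hx]

omit hg in
theorem bt_z {x : G} (hx : x ∈ C.QQ) (e : K8) : C.bt x (C.z e) = 0 := by
  apply bt_eq
  rw [C.z_zero, mul_one, zcomm hx]

theorem bt_congr {x y y' : G} (hx : x ∈ C.QQ) (hy' : y' ∈ C.QQ) (h : C.Sim y y') : C.bt x y = C.bt x y' := by
  obtain ⟨e, rfl⟩ := h
  rw [bt_mul_right hg hx hy' (z_mem_QQ e), bt_z hx, add_zero]

theorem bt_cj {x y : G} (hx : x ∈ C.QQ) (hy : y ∈ C.QQ) (k : K8ˣ) :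
    C.bt (C.cj k x) (C.cj k y) = C.bt x y * (k : K8) ^ 4 := by
  apply bt_eq
  rw [← cj_mul, bt_spec hg hx hy, cj_mul, cj_mul, cj_z]

omit hg in
theorem bt_v {x : G} {c : K8} (hx : C.Act x c) (b : A4) : C.bt x (C.v b) = c * emb b := by
  apply bt_eq
  have := hx.2 b
  rw [mul_inv_eq_iff_eq_mul] at this
  rw [this, mul_assoc, mul_assoc]
  congr 1
  rw [hx.1]

/-- squares of products -/
theorem sq_mul {x y : G} (hx : x ∈ C.QQ) (hy : y ∈ C.QQ) {e f : K8} (h1 : x * x = C.z e) (h2 : y * y = C.z f) :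
    (x * y) * (x * y) = C.z (e + f + C.bt x y) := by
  calc (x * y) * (x * y) = x * y * (y * x * C.z (C.bt x y)) := by rw [← bt_spec hg hx hy]
    _ = x * (y * y) * x * C.z (C.bt x y) := by group
    _ = x * (C.z f * x) * C.z (C.bt x y) := by rw [h2]; group
    _ = (x * x) * C.z f * C.z (C.bt x y) := by rw [← zcomm hx]; group
    _ = _ := by rw [h1, C.z_add, C.z_add]

theorem exists_form : ∃ ν μ : K8, ∀ x ∈ C.QQ, x * x = C.z (qf ν μ (C.piQ x)) := by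
  obtain ⟨w, hwQ, hw⟩ := piQ_surj hg ((0, 0, 1) : A4 × K8 × K8)
  have hwA : C.Act w 1 := by
    have := (piQ_spec hwQ).1
    rw [hw] at this
    exact this
  obtain ⟨ν, hν⟩ := hg w hwQ
  have hUQ : ∀ a, C.U a 0 ∈ C.QQ := fun a => TT_le (U_mem_TT a 0)
  -- the form `g`
  have hUadd : ∀ a a', C.Sim (C.U (a + a') 0) (C.U a 0 * C.U a' 0) := by
    intro a a'
    refine ⟨a * a' ^ 4, ?_⟩
    rw [C.U_mul, C.U_mul_z]
    congr 1
    linear_combination (- a * a' ^ 4) * K8.two_eq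
  have hgadd : ∀ x ∈ C.QQ, ∀ a a', C.bt x (C.U (a + a') 0) = C.bt x (C.U a 0) + C.bt x (C.U a' 0) := by
    intro x hx a a'
    rw [bt_congr hg hx (mul_mem (hUQ a) (hUQ a')) (hUadd a a'), bt_mul_right hg hx (hUQ a) (hUQ a')]
  -- `w_c`
  have hwc : ∀ k : K8ˣ, C.piQ (C.cj k w) = (0, 0, (k : K8) ^ 4) := by
    intro k
    rw [piQ_cj k hwQ, hw]
    simp
  -- `F(a, c)`
  have hF : ∀ (k : K8ˣ) (a : K8), C.bt (C.cj k w) (C.U a 0) = C.bt w (C.U (a * (k : K8) ^ 2) 0) * (k : K8) ^ 4 := by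
    intro k a
    have h1 : C.U a 0 = C.cj k (C.U (a * (k : K8) ^ 2) 0) := by
      rw [cj_U, zero_mul]
      congr 1
      have hk : (k : K8) ^ 7 = 1 := by
        rcases K8.pow_seven (k : K8) with h1 | h1
        · exact absurd h1 k.ne_zero
        · exact h1
      linear_combination (-a) * hk
    rw [h1, bt_cj hg hwQ (hUQ _)]
  have key : ∀ k l m : K8ˣ, (k : K8) ^ 4 + (l : K8) ^ 4 = (m : K8) ^ 4 → ∀ a,
      C.bt w (C.U (a * (k : K8) ^ 2) 0) * (k : K8) ^ 4 + C.bt w (C.U (a * (l : K8) ^ 2) 0) * (l : K8) ^ 4 =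
      C.bt w (C.U (a * (m : K8) ^ 2) 0) * (m : K8) ^ 4 := by
    intro k l m h a
    rw [← hF, ← hF, ← hF, bt_symm hg (cj_mem hwQ _) (hUQ a), bt_symm hg (cj_mem hwQ l) (hUQ a),
      ← bt_mul_right hg (hUQ a) (cj_mem hwQ _) (cj_mem hwQ _), bt_symm hg (cj_mem hwQ m) (hUQ a)]
    refine bt_congr hg (hUQ a) (cj_mem hwQ _) (sim_of_piQ_eq hg (mul_mem (cj_mem hwQ _) (cj_mem hwQ _)) (cj_mem hwQ _) ?_)
    rw [piQ_mul hg (cj_mem hwQ _) (cj_mem hwQ _), hwc, hwc, hwc]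
    refine Prod.ext ?_ (Prod.ext ?_ ?_)
    · simp
    · show (0 : K8) + 0 = 0
      rw [add_zero]
    · exact h
  set g : K8 → K8 := fun a => C.bt w (C.U a 0) with hgdef
  have g_add : ∀ a a', g (a + a') = g a + g a' := hgadd w hwQ
  have g0 : g 0 = 0 := by
    have := g_add 0 0
    rw [add_zero] at this
    linear_combination -this
  -- two instances
  obtain ⟨k1, hk1⟩ : ∃ k : K8ˣ, (k : K8) = K8.al ^ 2 := ⟨Units.mk0 _ (by decide +kernel), rfl⟩
  obtain ⟨k2, hk2⟩ : ∃ k : K8ˣ, (k : K8) = K8.al ^ 4 := ⟨Units.mk0 _ (by decide +kernel), rfl⟩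
  obtain ⟨m1, hm1⟩ : ∃ k : K8ˣ, (k : K8) = (1 + K8.al) ^ 2 := ⟨Units.mk0 _ (by decide +kernel), rfl⟩
  obtain ⟨m2, hm2⟩ : ∃ k : K8ˣ, (k : K8) = (1 + K8.al ^ 2) ^ 2 := ⟨Units.mk0 _ (by decide +kernel), rfl⟩
  have e1 := key 1 k1 m1 (by rw [hk1, hm1, Units.val_one]; decide +kernel) 1
  have e2 := key 1 k2 m2 (by rw [hk2, hm2, Units.val_one]; decide +kernel) 1
  rw [hk1, hm1] at e1
  rw [hk2, hm2] at e2
  simp only [Units.val_one, one_pow, one_mul, mul_one] at e1 e2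
  have t1 : (K8.al ^ 2) ^ 2 = K8.al ^ 2 + K8.al := by decide +kernel
  have t2 : ((1 + K8.al) ^ 2) ^ 2 = 1 + (K8.al ^ 2 + K8.al) := by decide +kernel
  have t3 : (K8.al ^ 4) ^ 2 = K8.al := by decide +kernel
  have t4 : ((1 + K8.al ^ 2) ^ 2) ^ 2 = 1 + K8.al := by decide +kernel
  rw [t1, t2] at e1
  rw [t3, t4] at e2
  change g 1 + g (K8.al ^ 2 + K8.al) * (K8.al ^ 2) ^ 4 = g (1 + (K8.al ^ 2 + K8.al)) * ((1 + K8.al) ^ 2) ^ 4 at e1
  change g 1 + g K8.al * (K8.al ^ 4) ^ 4 = g (1 + K8.al) * ((1 + K8.al ^ 2) ^ 2) ^ 4 at e2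
  rw [g_add, g_add, g_add] at e1
  rw [g_add] at e2
  have fin : ∀ x y u : K8, x + (u + y) * (K8.al ^ 2) ^ 4 = (x + (u + y)) * ((1 + K8.al) ^ 2) ^ 4 →
      x + y * (K8.al ^ 4) ^ 4 = (x + y) * ((1 + K8.al ^ 2) ^ 2) ^ 4 → y = x * K8.al ^ 2 ∧ u = x * K8.al ^ 4 := by
    decide +kernel
  obtain ⟨e3, e4⟩ := fin _ _ _ e1 e2
  have gsq : ∀ y, g y = g 1 * y ^ 2 := by
    intro y
    have all : ∀ y : K8, ∃ i j k : Fin 2, y = (if i = 0 then 0 else 1) + ((if j = 0 then 0 else K8.al) +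
        (if k = 0 then 0 else K8.al ^ 2)) := by decide +kernel
    obtain ⟨i, j, k, rfl⟩ := all y
    have hi : g (if i = 0 then 0 else 1) = g 1 * (if i = 0 then (0 : K8) else 1) ^ 2 := by
      split_ifs
      · rw [g0]; ring
      · ring
    have hj : g (if j = 0 then 0 else K8.al) = g 1 * (if j = 0 then (0 : K8) else K8.al) ^ 2 := by
      split_ifs
      · rw [g0]; ring
      · rw [e3]
    have hk : g (if k = 0 then 0 else K8.al ^ 2) = g 1 * (if k = 0 then (0 : K8) else K8.al ^ 2) ^ 2 := by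
      split_ifs
      · rw [g0]; ring
      · rw [e4]; ring
    rw [g_add, g_add, hi, hj, hk]
    set A := (if i = 0 then (0 : K8) else 1)
    set B := (if j = 0 then (0 : K8) else K8.al)
    set D := (if k = 0 then (0 : K8) else K8.al ^ 2)
    linear_combination (- g 1 * (A * B + A * D + B * D)) * K8.two_eq
  refine ⟨ν, g 1, fun x hx => ?_⟩
  generalize hp : C.piQ x = p
  obtain ⟨b, a, c⟩ := p
  have hvQ : C.v b ∈ C.QQ := TT_le (v_mem_TT b)
  by_cases hc : c = 0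
  · subst hc
    have hx0 := (piQ_spec hx).1
    rw [hp] at hx0
    obtain ⟨b', a', e, rfl⟩ := TT_eq (C := C) (x := x) hx0
    rw [piQ_vU] at hp
    have h1 : a' = a := congrArg (fun t => t.2.1) hp
    rw [T_sq, h1]
    congr 1
    show _ = (ν + emb b) * 0 + a ^ 5 + g 1 * a ^ 2 * 0 ^ 2
    ring
  · let k : K8ˣ := Units.mk0 (c ^ 2) (pow_ne_zero _ hc)
    have hk : (k : K8) = c ^ 2 := rfl
    have hk4 : (k : K8) ^ 4 = c := by
      rw [hk, ← pow_mul]; exact K8.pow_eight c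
    have hyQ : C.cj k w ∈ C.QQ := cj_mem hwQ k
    have ht : C.v b * C.U a 0 ∈ C.QQ := TT_le mem_TT_of
    have hy : C.piQ (C.cj k w * (C.v b * C.U a 0)) = (b, a, c) := by
      rw [piQ_mul hg hyQ ht, hwc, piQ_vU, hk4]
      refine Prod.ext ?_ (Prod.ext ?_ ?_)
      · show (0 : A4) + b = b
        rw [zero_add]
      · show (0 : K8) + a = a
        rw [zero_add]
      · show c + 0 = c
        rw [add_zero]
    obtain ⟨e, he⟩ := sim_of_piQ_eq hg hx (mul_mem hyQ ht) (hp.trans hy.symm)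
    have h1 : x * x = (C.cj k w * (C.v b * C.U a 0)) * (C.cj k w * (C.v b * C.U a 0)) := by
      rw [he]
      have h2 := zcomm (mul_mem hyQ ht) e
      set y := C.cj k w * (C.v b * C.U a 0)
      calc y * C.z e * (y * C.z e) = y * (C.z e * y) * C.z e := by group
        _ = y * (y * C.z e) * C.z e := by rw [h2]
        _ = y * y * (C.z e * C.z e) := by group
        _ = _ := by rw [C.z_sq, mul_one]
    have h2 : C.cj k w * C.cj k w = C.z (ν * c) := by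
      rw [← cj_mul, hν, cj_z, hk4]
    have h3 : C.bt (C.cj k w) (C.v b * C.U a 0) = c * emb b + g 1 * (a * c ^ 4) ^ 2 * c := by
      rw [bt_mul_right hg hyQ hvQ (hUQ a), hF, hk4]
      have h4 := hwA.cj k
      rw [one_mul, hk4] at h4
      rw [bt_v h4]
      have h5 := gsq (a * (k : K8) ^ 2)
      have h6 : (k : K8) ^ 2 = c ^ 4 := by rw [hk]; ring
      rw [h6] at h5
      rw [h6]
      rw [← h5]
    rw [h1, sq_mul hg hyQ ht h2 (T_sq b a 0), h3]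
    congr 1
    show _ = (ν + emb b) * c + a ^ 5 + g 1 * a ^ 2 * c ^ 2
    have h8 := K8.pow_eight c
    linear_combination (g 1 * a ^ 2 * c) * h8

/-- commutators from squares -/
theorem comm_of_sq {ν μ : K8} (h : ∀ x ∈ C.QQ, x * x = C.z (qf ν μ (C.piQ x))) {x y : G} (hx : x ∈ C.QQ) (hy : y ∈ C.QQ) :
    x * y = y * x * C.z (bf μ (C.piQ x) (C.piQ y)) := by
  have h1 := sq_mul hg hx hy (h x hx) (h y hy)
  rw [h _ (mul_mem hx hy), piQ_mul hg hx hy, qf_add] at h1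
  have h2 := add_left_cancel (C.z_inj h1)
  rw [h2]
  exact bt_spec hg hx hy

end Form

/-- coordinates in the good case -/
theorem exists_coord (hg : C.Good) : Nonempty (Coord C) := by
  obtain ⟨ν, μ, h⟩ := exists_form hg
  exact ⟨{ ν := ν
           μ := μ
           π := C.piQ
           mul := fun x hx y hy => piQ_mul hg hx hy
           surj := piQ_surj hg
           ker := fun x hx h => piQ_ker hx h
           vU := piQ_vU
           act := fun x hx => (piQ_spec hx).1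
           sq := h
           dk := fun k x hx => piQ_cj k hx }⟩

end Core

namespace Coord

variable {G : Type*} [Group G] {C : Core G} (K : Coord C)

include K in
theorem good : C.Good := fun x hx => ⟨_, K.sq x hx⟩

theorem comm {x y : G} (hx : x ∈ C.QQ) (hy : y ∈ C.QQ) : x * y = y * x * C.z (bf K.μ (K.π x) (K.π y)) := by
  have h1 := Core.sq_mul K.good hx hy (K.sq x hx) (K.sq y hy)
  rw [K.sq _ (mul_mem hx hy), K.mul x hx y hy, qf_add] at h1
  have h2 := add_left_cancel (C.z_inj h1)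
  rw [h2]
  exact Core.bt_spec K.good hx hy

theorem z (e : K8) : K.π (C.z e) = 0 := by
  have := K.vU 0 0 e
  rw [C.v_zero, one_mul] at this
  exact this

theorem v (b : A4) : K.π (C.v b) = (b, 0, 0) := by
  have := K.vU b 0 0
  rwa [C.U_zero, mul_one] at this

theorem U (a e : K8) : K.π (C.U a e) = (0, a, 0) := by
  have := K.vU 0 a e
  rwa [C.v_zero, one_mul] at this

theorem one : K.π 1 = 0 := by
  rw [← C.z_zero, K.z]

theorem inv {x : G} (hx : x ∈ C.QQ) : K.π x⁻¹ = K.π x := by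
  have h1 := K.mul _ (inv_mem hx) x hx
  rw [inv_mul_cancel, K.one] at h1
  have : ∀ p r : A4 × K8 × K8, 0 = p + r → p = r := by
    intro p r h
    refine Prod.ext (A4.add_eq_zero (congrArg (fun t => t.1) h).symm)
      (Prod.ext (K8.add_eq_zero (congrArg (fun t => t.2.1) h).symm)
        (K8.add_eq_zero (congrArg (fun t => t.2.2) h).symm))
  exact this _ _ h1

theorem eq_mul_z {x y : G} (hx : x ∈ C.QQ) (hy : y ∈ C.QQ) (h : K.π x = K.π y) : ∃ e, x = y * C.z e := by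
  have h1 := K.mul _ (inv_mem hy) x hx
  have h2 := K.mul _ (inv_mem hy) y hy
  rw [inv_mul_cancel, K.one] at h2
  rw [h, ← h2] at h1
  obtain ⟨e, he⟩ := K.ker _ (mul_mem (inv_mem hy) hx) h1
  exact ⟨e, by rw [← he]; group⟩

theorem mem_TT_iff {x : G} (hx : x ∈ C.QQ) : x ∈ C.TT ↔ (K.π x).2.2 = 0 := by
  constructor
  · intro h
    exact (K.act x hx).unique h
  · intro h
    have := K.act x hx
    rw [h] at this
    exact this

end Coord

end Cfsg.Agent.RuB
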