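import Mathlib

/-!
# Codes of additive maps of the field with eight elements (finite computation)

The additive map with `1 ↦ p0, α ↦ p1, α² ↦ p2` has code `p0 + 8 p1 + 64 p2`.
A set of codes closed under composition, containing the multiplications by field elements and one invertible
non-semilinear map, contains all 168 invertible maps.
-/

set_option autoImplicit false

namespace Cfsg.Agent.RuB.GLThree

/-- application -/
def ap (p x : ℕ) : ℕ :=
  ((x % 2) * (p % 8)) ^^^ (((x / 2) % 2) * (p / 8 % 8)) ^^^ (((x / 4) % 2) * (p / 64 % 8))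

/-- composition -/
def cp (p r : ℕ) : ℕ := ap p (r % 8) + 8 * ap p (r / 8 % 8) + 64 * ap p (r / 64 % 8)

/-- invertible -/
def good (p : ℕ) : Bool := [1, 2, 3, 4, 5, 6, 7].all fun x => ap p x != 0

/-- multiplications by nonzero field elements -/
def ms : List ℕ := [273, 226, 499, 412, 141, 382, 111]

/-- semilinear -/
def semi (p : ℕ) : Bool := ms.any fun m => cp m p == cp p 226

/-- invertible maps fixing `1` -/
def g1 : List ℕ := [273, 337, 401, 465, 281, 345, 409, 473, 161, 225, 417, 481, 169, 233, 425, 489, 177, 241, 305, 369, 185, 249, 313, 377]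

def reps : List ℕ := [337, 401, 465]

def hs0 : List ℕ := [337, 313, 161, 369, 377, 425, 249]
def hs1 : List ℕ := [401, 281, 233, 489, 225, 241, 169]
def hs2 : List ℕ := [465, 305, 345, 185, 409, 473, 481]

def chkA : Bool := (List.range 512).all fun p => !(good p) || semi p ||
  ms.any fun i => ms.any fun j => reps.contains (cp i (cp p j))

theorem chkA_true : chkA = true := by decide +kernel

def chkH (r : ℕ) (hs : List ℕ) : Bool := hs.all fun h => ms.any fun i => ms.any fun j => h == cp i (cp r j)

theorem chkH0 : chkH 337 hs0 = true := by decide +kernel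
theorem chkH1 : chkH 401 hs1 = true := by decide +kernel
theorem chkH2 : chkH 465 hs2 = true := by decide +kernel

def chkB (hs : List ℕ) : Bool := g1.all fun h => hs.any fun a => hs.any fun b =>
  h == cp a b || hs.any fun c => h == cp a (cp b c)

theorem chkB0 : chkB hs0 = true := by decide +kernel
theorem chkB1 : chkB hs1 = true := by decide +kernel
theorem chkB2 : chkB hs2 = true := by decide +kernel

def chkC : Bool := (List.range 512).all fun p => !(good p) || ms.any fun m => g1.any fun h => p == cp m h

theorem chkC_true : chkC = true := by decide +kernel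

theorem card_good : ((Finset.range 512).filter fun p => good p = true).card = 168 := by decide +kernel

theorem reach {S : ℕ → Prop} (hcp : ∀ p r, S p → S r → S (cp p r)) (hm : ∀ m ∈ ms, S m) {r : ℕ} (hr : S r)
    {hs : List ℕ} (h1 : chkH r hs = true) (h2 : chkB hs = true) : ∀ h ∈ g1, S h := by
  have hhs : ∀ h ∈ hs, S h := by
    intro h hh
    unfold chkH at h1
    rw [List.all_eq_true] at h1
    have h3 := h1 h hh
    simp only [List.any_eq_true, beq_iff_eq] at h3
    obtain ⟨i, hi, j, hj, rfl⟩ := h3
    exact hcp _ _ (hm i hi) (hcp _ _ hr (hm j hj))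
  intro h hh
  unfold chkB at h2
  rw [List.all_eq_true] at h2
  have h3 := h2 h hh
  simp only [List.any_eq_true, beq_iff_eq, Bool.or_eq_true] at h3
  obtain ⟨a, ha, b, hb, h4 | ⟨c, hc, h4⟩⟩ := h3
  · rw [h4]
    exact hcp _ _ (hhs a ha) (hhs b hb)
  · rw [h4]
    exact hcp _ _ (hhs a ha) (hcp _ _ (hhs b hb) (hhs c hc))

/-- generation -/
theorem all_of {S : ℕ → Prop} (hcp : ∀ p r, S p → S r → S (cp p r)) (hm : ∀ m ∈ ms, S m) {p0 : ℕ}
    (hp0 : p0 < 512) (h0 : S p0) (hg : good p0 = true) (hs : semi p0 = false) :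
    ∀ p, p < 512 → good p = true → S p := by
  have hA : ∃ i ∈ ms, ∃ j ∈ ms, cp i (cp p0 j) ∈ reps := by
    have h1 := chkA_true
    unfold chkA at h1
    rw [List.all_eq_true] at h1
    have h2 := h1 p0 (List.mem_range.2 hp0)
    rw [hg, hs] at h2
    simp only [Bool.not_true, Bool.false_or, List.any_eq_true, List.contains_iff_mem] at h2
    obtain ⟨i, hi, j, hj, h3⟩ := h2
    exact ⟨i, hi, j, hj, h3⟩
  obtain ⟨i, hi, j, hj, hrep⟩ := hA
  have hSr : S (cp i (cp p0 j)) := hcp _ _ (hm i hi) (hcp _ _ h0 (hm j hj))
  have hG : ∀ h ∈ g1, S h := by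
    unfold reps at hrep
    simp only [List.mem_cons, List.not_mem_nil, or_false] at hrep
    rcases hrep with h1 | h1 | h1
    · rw [h1] at hSr
      exact reach hcp hm hSr chkH0 chkB0
    · rw [h1] at hSr
      exact reach hcp hm hSr chkH1 chkB1
    · rw [h1] at hSr
      exact reach hcp hm hSr chkH2 chkB2
  intro p hp hgp
  have h1 := chkC_true
  unfold chkC at h1
  rw [List.all_eq_true] at h1
  have h2 := h1 p (List.mem_range.2 hp)
  rw [hgp] at h2
  simp only [Bool.not_true, Bool.false_or, List.any_eq_true, beq_iff_eq] at h2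
  obtain ⟨m, hmm, h, hh, rfl⟩ := h2
  exact hcp _ _ (hm m hmm) (hG h hh)

end Cfsg.Agent.RuB.GLThree
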