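import Cfsg.Agent.RuB.Coord

/-!
# Uniqueness of the special plane

For `(ν, μ) ≠ (5, 7)` the only four-subgroup `W` of `A4 × K8 × K8` with `qf = 0` on `W`, `bf w` onto and with the
same kernel for all `0 ≠ w ∈ W` is `A4 × 0 × 0`.
-/

set_option autoImplicit false

namespace Cfsg.Agent.RuB.Plane

/-- multiplication on numbers below 8 -/
def mN (a b : ℕ) : ℕ := (K8.mulTab >>> (3 * (8 * a + b))) % 8

def qN (ν μ b a c : ℕ) : ℕ := mN (ν ^^^ b) c ^^^ mN (mN (mN a a) (mN a a)) a ^^^ mN μ (mN (mN a a) (mN c c))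

def bN (μ b a c b' a' c' : ℕ) : ℕ := mN b c' ^^^ mN b' c ^^^ mN (mN (mN a a) (mN a a)) a' ^^^
  mN a (mN (mN a' a') (mN a' a')) ^^^ mN μ (mN (mN a a) (mN c' c') ^^^ mN (mN c c) (mN a' a'))

def all : ℕ → (ℕ → Bool) → Bool
  | 0, _ => true
  | n + 1, f => f n && all n f

def any : ℕ → (ℕ → Bool) → Bool
  | 0, _ => false
  | n + 1, f => f n || any n f

theorem all_spec {n : ℕ} {f : ℕ → Bool} (h : all n f = true) : ∀ i < n, f i = true := by
  induction n with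
  | zero => intro i hi; omega
  | succ n ih =>
    rw [all, Bool.and_eq_true] at h
    intro i hi
    rcases Nat.lt_succ_iff_lt_or_eq.1 hi with h1 | h1
    · exact ih h.2 i h1
    · rw [h1]; exact h.1

theorem any_spec {n : ℕ} {f : ℕ → Bool} (h : any n f = true) : ∃ i < n, f i = true := by
  induction n with
  | zero => exact absurd h (by simp [any])
  | succ n ih =>
    rw [any, Bool.or_eq_true] at h
    rcases h with h | h
    · exact ⟨n, Nat.lt_succ_self n, h⟩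
    · obtain ⟨i, hi, h1⟩ := ih h
      exact ⟨i, by omega, h1⟩

def imp (a b : Bool) : Bool := cond a b true

def inner (ν μ b1 a1 b2 a2 c2 : ℕ) : Bool :=
  imp ((qN ν μ b2 a2 c2).beq 0) (imp ((qN ν μ (b1 ^^^ b2) (a1 ^^^ a2) (1 ^^^ c2)).beq 0)
    ((any 8 fun c => any 8 fun a => any 4 fun b => (bN μ b1 a1 1 b a c).beq 0 && !(bN μ b2 a2 c2 b a c).beq 0) ||
    (any 8 fun f => all 8 fun c => all 8 fun a => all 4 fun b => !(bN μ b1 a1 1 b a c).beq f)))

def outer (ν μ : ℕ) : Bool :=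
  (ν.beq 5 && μ.beq 7) || (all 4 fun b1 => all 8 fun a1 => imp ((qN ν μ b1 a1 1).beq 0)
    (all 6 fun c2 => all 8 fun a2 => all 4 fun b2 => inner ν μ b1 a1 b2 a2 (c2 + 2)))

theorem chk : (all 8 fun ν => all 8 fun μ => outer ν μ) = true := by decide +kernel

theorem add_val : ∀ a b : K8, (a + b).val.1 = a.val.1 ^^^ b.val.1 := by decide +kernel

theorem mul_val (a b : K8) : (a * b).val.1 = mN a.val.1 b.val.1 := rfl

theorem qf_val (ν μ : K8) (p : A4 × K8 × K8) :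
    (qf ν μ p).val.1 = qN ν.val.1 μ.val.1 (emb p.1).val.1 p.2.1.val.1 p.2.2.val.1 := by
  have h : qf ν μ p = (ν + emb p.1) * p.2.2 + (p.2.1 * p.2.1) * (p.2.1 * p.2.1) * p.2.1 +
      μ * ((p.2.1 * p.2.1) * (p.2.2 * p.2.2)) := by
    unfold qf; ring
  rw [h]
  simp only [add_val, mul_val]
  rfl

theorem bf_val (μ : K8) (p r : A4 × K8 × K8) :
    (bf μ p r).val.1 = bN μ.val.1 (emb p.1).val.1 p.2.1.val.1 p.2.2.val.1 (emb r.1).val.1 r.2.1.val.1 r.2.2.val.1 := by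
  have h : bf μ p r = emb p.1 * r.2.2 + emb r.1 * p.2.2 + (p.2.1 * p.2.1) * (p.2.1 * p.2.1) * r.2.1 +
      p.2.1 * ((r.2.1 * r.2.1) * (r.2.1 * r.2.1)) +
      μ * ((p.2.1 * p.2.1) * (r.2.2 * r.2.2) + (p.2.2 * p.2.2) * (r.2.1 * r.2.1)) := by
    unfold bf; ring
  rw [h]
  simp only [add_val, mul_val]
  rfl

theorem emb_lt : ∀ b : A4, (emb b).val.1 < 4 := by decide +kernel

theorem exists_emb : ∀ n < 4, ∃ b : A4, (emb b).val.1 = n := by decide +kernel

theorem val_zero : (0 : K8).val.1 = 0 := rfl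

theorem eq_zero_of_val {a : K8} (h : a.val.1 = 0) : a = 0 := by
  obtain ⟨⟨n, hn⟩⟩ := a
  have : n = 0 := h
  subst this
  rfl

theorem ext_val {a b : K8} (h : a.val.1 = b.val.1) : a = b := by
  obtain ⟨⟨n, hn⟩⟩ := a
  obtain ⟨⟨m, hm⟩⟩ := b
  have : n = m := h
  subst this
  rfl

theorem beq_iff (a b : ℕ) : (a.beq b = true) ↔ a = b :=
  ⟨Nat.eq_of_beq_eq_true, fun h => by rw [h]; exact Nat.beq_refl b⟩

/-- the scaled statement -/
theorem scaled {ν μ : K8} (h : ¬ (ν = ⟨5⟩ ∧ μ = ⟨7⟩)) (b1 b2 : A4) (a1 a2 c2 : K8) (hc : c2 ≠ 0) (hc1 : c2 ≠ 1)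
    (h1 : qf ν μ (b1, a1, 1) = 0) (h2 : qf ν μ (b2, a2, c2) = 0) (h3 : qf ν μ (b1 + b2, a1 + a2, 1 + c2) = 0) :
    (∃ s, bf μ (b1, a1, 1) s = 0 ∧ bf μ (b2, a2, c2) s ≠ 0) ∨ ∃ f, ∀ s, bf μ (b1, a1, 1) s ≠ f := by
  have k1 := all_spec (all_spec chk ν.val.1 ν.val.2) μ.val.1 μ.val.2
  rw [outer, Bool.or_eq_true] at k1
  rcases k1 with k1 | k1
  · exfalso
    rw [Bool.and_eq_true, beq_iff, beq_iff] at k1
    exact h ⟨ext_val k1.1, ext_val k1.2⟩
  · have k2 := all_spec (all_spec k1 (emb b1).val.1 (emb_lt b1)) a1.val.1 a1.val.2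
    have q1 := congrArg (fun t : K8 => t.val.1) h1
    have q2 := congrArg (fun t : K8 => t.val.1) h2
    have q3 := congrArg (fun t : K8 => t.val.1) h3
    simp only [qf_val, val_zero] at q1 q2 q3
    simp only [emb_add, add_val] at q3
    have q1' : (qN ν.val.1 μ.val.1 (emb b1).val.1 a1.val.1 1).beq 0 = true := by
      rw [beq_iff]; exact q1
    rw [q1', imp, cond_true] at k2
    have hc2 : 2 ≤ c2.val.1 := by
      by_contra hlt
      push Not at hlt
      have : c2.val.1 = 0 ∨ c2.val.1 = 1 := by omega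
      rcases this with h0 | h0
      · exact hc (eq_zero_of_val h0)
      · exact hc1 (ext_val h0)
    have hc3 := c2.val.2
    have k3 := all_spec (all_spec (all_spec k2 (c2.val.1 - 2) (by omega)) a2.val.1 a2.val.2) (emb b2).val.1 (emb_lt b2)
    have hc4 : c2.val.1 - 2 + 2 = c2.val.1 := by omega
    rw [hc4, inner] at k3
    have q2' : (qN ν.val.1 μ.val.1 (emb b2).val.1 a2.val.1 c2.val.1).beq 0 = true := by
      rw [beq_iff]; exact q2
    have q3' : (qN ν.val.1 μ.val.1 ((emb b1).val.1 ^^^ (emb b2).val.1) (a1.val.1 ^^^ a2.val.1) (1 ^^^ c2.val.1)).beq 0 = true := by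
      rw [beq_iff]; exact q3
    rw [q2', q3', imp, imp, cond_true, cond_true, Bool.or_eq_true] at k3
    rcases k3 with k3 | k3
    · left
      obtain ⟨c, hcc, k4⟩ := any_spec k3
      obtain ⟨a, haa, k5⟩ := any_spec k4
      obtain ⟨b, hbb, k6⟩ := any_spec k5
      rw [Bool.and_eq_true, beq_iff] at k6
      obtain ⟨b', rfl⟩ := exists_emb b hbb
      refine ⟨(b', ⟨⟨a, haa⟩⟩, ⟨⟨c, hcc⟩⟩), eq_zero_of_val ?_, ?_⟩
      · rw [bf_val]
        exact k6.1
      · intro h0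
        have h4 := congrArg (fun t : K8 => t.val.1) h0
        simp only [bf_val, val_zero] at h4
        have h5 := k6.2
        rw [Bool.not_eq_true', ← Bool.not_eq_true, beq_iff] at h5
        exact h5 h4
    · right
      obtain ⟨f, hf, k4⟩ := any_spec k3
      refine ⟨⟨⟨f, hf⟩⟩, fun s h0 => ?_⟩
      have k5 := all_spec (all_spec (all_spec k4 s.2.2.val.1 s.2.2.val.2) s.2.1.val.1 s.2.1.val.2) (emb s.1).val.1 (emb_lt s.1)
      rw [Bool.not_eq_true', ← Bool.not_eq_true, beq_iff] at k5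
      apply k5
      have h4 := congrArg (fun t : K8 => t.val.1) h0
      simp only [bf_val] at h4
      exact h4

/-- the torus action on coordinates -/
def dilate (k : K8) (p : A4 × K8 × K8) : A4 × K8 × K8 := (p.1, p.2.1 * k ^ 5, p.2.2 * k ^ 4)

theorem qf_dilate {k : K8} (hk : k ^ 7 = 1) (ν μ : K8) (p : A4 × K8 × K8) : qf ν μ (dilate k p) = qf ν μ p * k ^ 4 := by
  unfold qf dilate
  simp only
  have h25 : k ^ 25 = k ^ 4 := by
    linear_combination (k ^ 18 + k ^ 11 + k ^ 4) * hk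
  have h18 : k ^ 18 = k ^ 4 := by
    linear_combination (k ^ 11 + k ^ 4) * hk
  linear_combination p.2.1 ^ 5 * h25 + μ * p.2.1 ^ 2 * p.2.2 ^ 2 * h18

theorem bf_dilate {k : K8} (hk : k ^ 7 = 1) (μ : K8) (p r : A4 × K8 × K8) :
    bf μ (dilate k p) (dilate k r) = bf μ p r * k ^ 4 := by
  unfold bf dilate
  simp only
  have h25 : k ^ 25 = k ^ 4 := by
    linear_combination (k ^ 18 + k ^ 11 + k ^ 4) * hk
  have h18 : k ^ 18 = k ^ 4 := by
    linear_combination (k ^ 11 + k ^ 4) * hk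
  linear_combination (p.2.1 ^ 4 * r.2.1 + p.2.1 * r.2.1 ^ 4) * h25 +
    μ * (p.2.1 ^ 2 * r.2.2 ^ 2 + p.2.2 ^ 2 * r.2.1 ^ 2) * h18

theorem dilate_inv {k : K8} (hk : k ^ 7 = 1) (p : A4 × K8 × K8) : dilate k (dilate (k ^ 6) p) = p := by
  unfold dilate
  refine Prod.ext rfl (Prod.ext ?_ ?_)
  · show p.2.1 * (k ^ 6) ^ 5 * k ^ 5 = p.2.1
    linear_combination p.2.1 * (k ^ 28 + k ^ 21 + k ^ 14 + k ^ 7 + 1) * hk
  · show p.2.2 * (k ^ 6) ^ 4 * k ^ 4 = p.2.2
    linear_combination p.2.2 * (k ^ 21 + k ^ 14 + k ^ 7 + 1) * hk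

/-- uniqueness of the special plane -/
theorem unique {ν μ : K8} (h : ¬ (ν = ⟨5⟩ ∧ μ = ⟨7⟩)) {p r : A4 × K8 × K8} (hp : qf ν μ p = 0) (hr : qf ν μ r = 0)
    (hpr : qf ν μ (p + r) = 0) (hker : ∀ s, bf μ p s = 0 ↔ bf μ r s = 0) (hker' : ∀ s, bf μ (p + r) s = 0 → bf μ p s = 0)
    (onto : ∀ f, ∃ s, bf μ p s = f) : p.2 = 0 ∧ r.2 = 0 := by
  have key : ∀ t : A4 × K8 × K8, qf ν μ t = 0 → t.2.2 = 0 → t.2 = 0 := by
    intro t ht h0
    unfold qf at ht
    rw [h0] at ht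
    have h1 : t.2.1 ^ 5 = 0 := by linear_combination ht
    exact Prod.ext (Core.pow5_eq_zero _ h1) h0
  have hs : ∀ t : A4 × K8 × K8, bf μ t ((1, 0), 0, 0) = t.2.2 := by
    intro t
    unfold bf
    simp only [emb_one]
    ring
  by_cases hc : p.2.2 = 0
  · refine ⟨key p hp hc, key r hr ?_⟩
    rw [← hs, ← hker, hs, hc]
  · exfalso
    have hc7 : p.2.2 ^ 7 = 1 := by
      rcases K8.pow_seven p.2.2 with h1 | h1
      · exact absurd h1 hc
      · exact h1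
    -- `k ^ 4 = c⁻¹`
    set k : K8 := p.2.2 ^ 5 with hk
    have hk7 : k ^ 7 = 1 := by
      rw [hk, ← pow_mul, mul_comm, pow_mul, hc7, one_pow]
    have hk4 : p.2.2 * k ^ 4 = 1 := by
      rw [hk]
      linear_combination (p.2.2 ^ 14 + p.2.2 ^ 7 + 1) * hc7
    have hk0 : k ^ 4 ≠ 0 := by
      intro h0
      rw [h0, mul_zero] at hk4
      exact zero_ne_one hk4
    have hsum : (p + r).2.2 ≠ 0 := by
      intro h0
      apply hc
      rw [← hs]
      apply hker'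
      rw [hs, h0]
    have hr2 : r.2.2 ≠ 0 := by
      intro h0
      apply hc
      rw [← hs, hker, hs, h0]
    have e1 : dilate k p = (p.1, p.2.1 * k ^ 5, 1) := by
      unfold dilate; rw [hk4]
    have f1 : qf ν μ (p.1, p.2.1 * k ^ 5, 1) = 0 := by
      rw [← e1, qf_dilate hk7, hp, zero_mul]
    have f2 : qf ν μ (r.1, r.2.1 * k ^ 5, r.2.2 * k ^ 4) = 0 := by
      have := qf_dilate hk7 ν μ r
      rw [hr, zero_mul] at this
      exact this
    have f3 : qf ν μ (p.1 + r.1, p.2.1 * k ^ 5 + r.2.1 * k ^ 5, 1 + r.2.2 * k ^ 4) = 0 := by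
      have := qf_dilate hk7 ν μ (p + r)
      rw [hpr, zero_mul] at this
      rw [← hk4, ← add_mul, ← add_mul]
      exact this
    have g1 : r.2.2 * k ^ 4 ≠ 0 := mul_ne_zero hr2 hk0
    have g2 : r.2.2 * k ^ 4 ≠ 1 := by
      intro h0
      rw [← hk4] at h0
      have := mul_right_cancel₀ hk0 h0
      apply hsum
      show p.2.2 + r.2.2 = 0
      rw [this, K8.add_self]
    rcases scaled h p.1 r.1 _ _ _ g1 g2 f1 f2 f3 with ⟨s, hs1, hs2⟩ | ⟨f, hf⟩
    · apply hs2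
      have h4 : bf μ (dilate k p) (dilate k (dilate (k ^ 6) s)) = 0 := by
        rw [dilate_inv hk7, e1]; exact hs1
      rw [bf_dilate hk7] at h4
      have h5 := (hker _).1 (by rcases mul_eq_zero.1 h4 with h6 | h6; exacts [h6, absurd h6 hk0])
      have h6 := bf_dilate hk7 μ r (dilate (k ^ 6) s)
      rw [h5, zero_mul, dilate_inv hk7] at h6
      exact h6
    · obtain ⟨s, hs1⟩ := onto (f * (k ^ 4)⁻¹)
      apply hf (dilate k s)
      rw [← e1, bf_dilate hk7, hs1, inv_mul_cancel_right₀ hk0]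

end Cfsg.Agent.RuB.Plane
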