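import Cfsg.Agent.Ru127.Inst
import Cfsg.Agent.RuB.Plane

/-!
# Finite checks for `LocalData`
-/

set_option autoImplicit false

namespace Cfsg.Agent.RuB.LocChk

open Cfsg.Agent.RuB Cfsg.Agent.Ru127.Inst

/-- same functional kernels -/
def same (p r : ℕ) : Bool := (List.range 256).all fun u => (bN p u == 0) == (bN r u == 0)

/-- a pair spanning a plane of the good kind -/
def pr (p r : ℕ) : Bool := p != 0 && r != 0 && p != r && qN p == 0 && qN r == 0 && qN (p ^^^ r) == 0 && same p r

def sing : List ℕ := (List.range 256).filter fun p => p != 0 && qN p == 0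

def ckA : Bool := sing.all fun p => sing.all fun r => !(pr p r) || inT p

theorem ckA_true : ckA = true := by decide +kernel

/-- the dilation on codes -/
def dilN (k w : ℕ) : ℕ := w % 4 + 4 * Plane.mN (w / 4 % 8) (Plane.mN (Plane.mN (Plane.mN k k) (Plane.mN k k)) k) +
  32 * Plane.mN (w / 32 % 8) (Plane.mN (Plane.mN k k) (Plane.mN k k))

def ckB : Bool := sing.all fun p => sing.all fun r => !(pr p r) || p == 1 || p == 2 || p == 3 || tL.all fun w =>
  w == 1 || w == 2 || w == 3 || [1, 2, 3, 4, 5, 6, 7].any fun k => dilN k p == w || dilN k r == w || dilN k (p ^^^ r) == w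

theorem ckB_true : ckB = true := by decide +kernel

theorem code_dil : ∀ k : K8, ∀ w : W8, code (Plane.dilate k w) = dilN k.val.val (code w) := by decide +kernel

end Cfsg.Agent.RuB.LocChk
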