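import Cfsg.Agent.Ru127.Y
import Cfsg.Agent.RuE.Gen
import Cfsg.Agent.RuD.Model
import Cfsg.Agent.RuB.Final2
import Cfsg.Agent.RuC.Trans

/-!
# A finite group with a `Core` is the Rudvalis group
-/

set_option autoImplicit false

universe u

namespace Cfsg.Agent.RuB.Main

open Cfsg.Agent.RuB Cfsg.Agent.Ru127.Sg Cfsg.Agent.RuE.Hyp Cfsg.Agent.RuD.Rels Cfsg.Agent.RuD.Model Subgroup

variable {G : Type u} [Group G] {C : Core G}

theorem pow44 : ∀ a : K8, (a ^ 4) ^ 4 = a ^ 2 := by decide +kernel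

theorem sHyp (hr : Rel C) {σ : G} (hσ : IsSigma C σ) : SHyp C σ⁻¹ := by
  have e : σ⁻¹ = σ * σ := inv_eq_of_mul_eq_one_left hσ.cube
  have hi : (σ * σ)⁻¹ = σ⁻¹ * σ⁻¹ := mul_inv_rev σ σ
  have conj2 : ∀ x : G, σ * σ * x * (σ * σ)⁻¹ = σ * (σ * x * σ⁻¹) * σ⁻¹ := by
    intro x
    group
  refine ⟨?_, ?_, ?_, ?_, ?_, ?_⟩
  · have h1 : w C * s C * w C * (s C)⁻¹ = C.z 1 * w C := hr
    have h2 : s C = (C.U 1 0)⁻¹ := by rw [← s_inv, inv_inv]
    rw [h2, inv_inv] at h1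
    exact h1
  · calc σ⁻¹ * σ⁻¹ * σ⁻¹ = (σ * σ * σ)⁻¹ := by group
      _ = 1 := by rw [hσ.cube, inv_one]
  · intro a
    rw [e, conj2, hσ.v, hσ.v]
    congr 1
    revert a
    decide
  · intro a b
    rw [e, conj2, hσ.U, hσ.U, pow44, pow44]
  · intro k
    rw [e, conj2, hσ.dk, hσ.dk]
    congr 1
    ext
    simp only [Units.val_pow_eq_pow_val]
    exact pow44 _
  · have h1 : σ * w C = w C * σ := hσ.w
    show σ⁻¹ * w C * σ⁻¹⁻¹ = w C
    rw [inv_inv, mul_assoc, ← h1]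
    group

theorem yHyp {σ y : G} (hy : IsY C σ y) : YHyp C y := by
  have hi : y⁻¹ = y := inv_eq_of_mul_eq_one_left hy.sq
  refine ⟨hy.sq, ?_, ?_, hy.w, ?_, ?_⟩
  · calc C.v (1, 0) * y * (C.v (1, 0) * y) * (C.v (1, 0) * y) = C.v (1, 0) * y * C.v (1, 0) * y * C.v (1, 0) * y := by
          group
      _ = 1 := hy.tv
  · rw [← s_inv]
    have h1 : y * s C = s C * y := hy.s
    calc y * (s C)⁻¹ = (s C)⁻¹ * (s C * y) * (s C)⁻¹ := by group
      _ = (s C)⁻¹ * (y * s C) * (s C)⁻¹ := by rw [h1]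
      _ = (s C)⁻¹ * y := by group
  · intro b
    have := hy.Q b
    rwa [hi] at this
  · intro b b' h
    apply hy.inter b b'
    rwa [hi]

/-- the subgroup generated by the letters -/
theorem exists_sub [Finite G] (B : Bound.{u}) (C : Core G) (hr : Rel C) :
    ∃ G1 : Subgroup G, Nonempty (G1 ≃* Cfsg.Agent.SporadicB.RuOrder.H) ∧ Cfsg.Spor.IsoRu G1 ∧ (∀ a, C.v a ∈ G1) ∧ C.L ≤ G1 ∧
      ∀ g, g * C.z 1 = C.z 1 * g → g ∈ G1 := by
  obtain ⟨K, hν, hμ, -, hcz⟩ := exists_localData C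
  obtain ⟨σ, y, hσ, hy⟩ := exists_letters C hr
  have hS := sHyp hr hσ
  have hY := yHyp hy
  have hys : y * σ⁻¹ * (y * σ⁻¹) = 1 := by
    have h1 := hy.sig
    have hi : y⁻¹ = y := inv_eq_of_mul_eq_one_left hy.sq
    have h2 : σ⁻¹ = y * σ * y := by
      rw [inv_eq_iff_mul_eq_one]
      calc σ * (y * σ * y) = y⁻¹ * (y * σ * y * σ) * y := by group
        _ = 1 := by rw [h1]; group
    rw [h2]
    calc y * (y * σ * y) * (y * (y * σ * y)) = (y * y) * σ * (y * y) * (y * σ * y) := by group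
      _ = σ * (y * σ * y) := by rw [hy.sq]; group
      _ = σ * σ⁻¹ := by rw [h2]
      _ = 1 := mul_inv_cancel σ
  have h := Cfsg.Agent.RuE.Final.ruRelsX hS hY hys K hν hμ hcz
  have ht := Cfsg.Agent.RuE.Final.v_ne_one (C := C)
  obtain ⟨φ, -⟩ := ident B h ht
  obtain ⟨h1, h2⟩ := Cfsg.Agent.RuE.Gen.closure_le' hS y
  refine ⟨_, ⟨φ⟩, isoRu B h ht, h1, h2, ?_⟩
  intro g hg
  have hc := card_cent C
  have hss : C.U 1 1 * C.U 1 1 = C.z 1 := s_sq
  have h3 := cent_le B h ht (by rw [hss, hc]; norm_num) (by rw [hss, hc])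
  apply h3
  rw [hss]
  exact mem_centralizer_singleton_iff.2 hg

/-- a finite group with a `Core` is the Rudvalis group (given the coset bound) -/
theorem isoRu_of_bound [Finite G] (B : Bound.{u}) (C : Core G) (hr : Rel C) : Cfsg.Spor.IsoRu G := by
  obtain ⟨G1, -, h1, h2, h3, h4⟩ := exists_sub B C hr
  have hs : IsSimpleGroup G1 := Cfsg.Agent.RuC.Trans.isSimple_of_isoRu h1
  have := Final2.eq_top' C G1 hs h2 h3 h4
  subst this
  obtain ⟨e⟩ := h1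
  exact ⟨(Subgroup.topEquiv.symm).trans e⟩

end Cfsg.Agent.RuB.Main
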