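import Cfsg.Agent.RuB.Coord
import Cfsg.Agent.RuB.GLThree

/-!
# The normaliser of `Q`

`Ind C g r`: `g` normalises `Z` and induces `r` on it. For `(ν, μ)` with `μ ≠ 0`:
* an element normalising `QQ` and centralising `Z` lies in `QQ` (`mem_QQ_of`);
* if `C_G(Z) = QQ` and some element normalises `Z` but not `TT`, then `|N_G(Z)| = 2 ^ 14 * 21`.
-/

set_option autoImplicit false

namespace Cfsg.Agent.RuB.NormQ

open Cfsg.Agent.RuB Cfsg.Agent.RuB.Core Cfsg.Agent.RuB.GLThree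

/-! ### additive maps of `K8` and their codes -/

/-- additive -/
def Add (r : K8 → K8) : Prop := ∀ a b, r (a + b) = r a + r b

theorem Add.zero {r : K8 → K8} (h : Add r) : r 0 = 0 := by
  have := h 0 0
  rw [add_zero] at this
  linear_combination -this

theorem Add.comp {r s : K8 → K8} (hr : Add r) (hs : Add s) : Add (r ∘ s) := by
  intro a b
  show r (s (a + b)) = r (s a) + r (s b)
  rw [hs, hr]

/-- the code -/
def cod (r : K8 → K8) : ℕ := (r 1).val.val + 8 * (r K8.al).val.val + 64 * (r (K8.al ^ 2)).val.val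

theorem add_val : ∀ a b : K8, (a + b).val.val = a.val.val ^^^ b.val.val := by decide +kernel

theorem val_inj {a b : K8} (h : a.val.val = b.val.val) : a = b := by
  cases a; cases b; congr 1; exact Fin.ext h

theorem val_lt (a : K8) : a.val.val < 8 := a.val.2

theorem cod_lt (r : K8 → K8) : cod r < 512 := by
  have h0 := val_lt (r 1)
  have h1 := val_lt (r K8.al)
  have h2 := val_lt (r (K8.al ^ 2))
  unfold cod
  omega

theorem cod_digits (r : K8 → K8) : cod r % 8 = (r 1).val.val ∧ cod r / 8 % 8 = (r K8.al).val.val ∧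
    cod r / 64 % 8 = (r (K8.al ^ 2)).val.val := by
  have h0 := val_lt (r 1)
  have h1 := val_lt (r K8.al)
  have h2 := val_lt (r (K8.al ^ 2))
  unfold cod
  refine ⟨?_, ?_, ?_⟩ <;> omega

theorem K8_all (x : K8) : x = 0 ∨ x = 1 ∨ x = K8.al ∨ x = 1 + K8.al ∨ x = K8.al ^ 2 ∨ x = 1 + K8.al ^ 2 ∨
    x = K8.al + K8.al ^ 2 ∨ x = 1 + (K8.al + K8.al ^ 2) := by
  revert x; decide +kernel

theorem ap_cod {r : K8 → K8} (hr : Add r) (x : K8) : (r x).val.val = ap (cod r) x.val.val := by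
  obtain ⟨h0, h1, h2⟩ := cod_digits r
  have v0 : (0 : K8).val.val = 0 := by decide +kernel
  have v1 : (1 : K8).val.val = 1 := by decide +kernel
  have v2 : (K8.al : K8).val.val = 2 := by decide +kernel
  have v3 : (1 + K8.al : K8).val.val = 3 := by decide +kernel
  have v4 : (K8.al ^ 2 : K8).val.val = 4 := by decide +kernel
  have v5 : (1 + K8.al ^ 2 : K8).val.val = 5 := by decide +kernel
  have v6 : (K8.al + K8.al ^ 2 : K8).val.val = 6 := by decide +kernel
  have v7 : (1 + (K8.al + K8.al ^ 2) : K8).val.val = 7 := by decide +kernel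
  unfold ap
  rw [h0, h1, h2]
  rcases K8_all x with rfl | rfl | rfl | rfl | rfl | rfl | rfl | rfl
  · rw [hr.zero, v0]; simp [v0]
  · rw [v1]; simp
  · rw [v2]; simp
  · rw [v3, hr, add_val]; simp
  · rw [v4]; simp
  · rw [v5, hr, add_val]; simp
  · rw [v6, hr, add_val]; simp
  · rw [v7, hr, hr, add_val, add_val]; simp [Nat.xor_assoc]

theorem cod_comp {r s : K8 → K8} (hr : Add r) : cod (r ∘ s) = cp (cod r) (cod s) := by
  obtain ⟨h0, h1, h2⟩ := cod_digits s
  unfold cp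
  rw [h0, h1, h2, ← ap_cod hr, ← ap_cod hr, ← ap_cod hr]
  rfl

theorem cod_inj {r s : K8 → K8} (hr : Add r) (hs : Add s) (h : cod r = cod s) : r = s := by
  funext x
  apply val_inj
  rw [ap_cod hr, ap_cod hs, h]

theorem good_cod {r : K8 → K8} (hr : Add r) (hi : ∀ x, r x = 0 → x = 0) : good (cod r) = true := by
  unfold good
  rw [List.all_eq_true]
  intro x hx
  have hx8 : x < 8 := by
    simp only [List.mem_cons, List.not_mem_nil, or_false] at hx
    omega
  have hx0 : x ≠ 0 := by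
    simp only [List.mem_cons, List.not_mem_nil, or_false] at hx
    omega
  have h1 := ap_cod hr ⟨⟨x, hx8⟩⟩
  have h2 : ((⟨⟨x, hx8⟩⟩ : K8)).val.val = x := rfl
  rw [h2] at h1
  rw [← h1]
  simp only [bne_iff_ne, ne_eq]
  intro h3
  have h4 : r ⟨⟨x, hx8⟩⟩ = 0 := val_inj (by rw [h3]; decide +kernel)
  have h5 := hi _ h4
  have h6 := congrArg (fun t : K8 => t.val.val) h5
  exact hx0 (h6.trans (by decide +kernel))

/-- multiplication maps -/
theorem cod_mul_mem : ∀ c : K8, c ≠ 0 → cod (fun x => x * c) ∈ ms := by decide +kernel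

theorem mem_ms : ∀ m ∈ ms, ∃ c : K8, c ≠ 0 ∧ m = cod (fun x => x * c) := by decide +kernel

theorem cod_al : cod (fun x => x * K8.al) = 226 := by decide +kernel

theorem add_mul_map (c : K8) : Add (fun x => x * c) := fun a b => add_mul a b c

/-- a semilinear code comes from a semilinear map -/
theorem semi_cod {r : K8 → K8} (hr : Add r) (h : semi (cod r) = true) : ∃ m, ∀ x, r (x * K8.al) = r x * m := by
  unfold semi at h
  rw [List.any_eq_true] at h
  obtain ⟨m, hm, h1⟩ := h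
  obtain ⟨c, hc, rfl⟩ := mem_ms m hm
  rw [beq_iff_eq, ← cod_al, ← cod_comp (add_mul_map c), ← cod_comp hr] at h1
  have h2 := cod_inj ((add_mul_map c).comp hr) (hr.comp (add_mul_map _)) h1
  exact ⟨c, fun x => (congrFun h2 x).symm⟩

/-! ### the form -/

/-- vectors whose form functionals are proportional -/
theorem prop_form {μ m : K8} (hμ : μ ≠ 0) (hm : m ≠ 0) (hm1 : m ≠ 1) {p r : A4 × K8 × K8}
    (h : ∀ u, bf μ r u = bf μ p u * m) : p.2.1 = 0 ∧ p.2.2 = 0 ∧ emb r.1 = emb p.1 * m ∧ r.2.1 = 0 ∧ r.2.2 = 0 := by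
  obtain ⟨b, a, c⟩ := p
  obtain ⟨b', a', c'⟩ := r
  simp only [bf] at h
  have h1 : c' = c * m := by
    have := h ((1, 0), 0, 0)
    simp only [emb_one] at this
    linear_combination this
  subst h1
  have h2 : ∀ y : K8, (a' ^ 4) * y + a' * y ^ 4 + μ * (c * m) ^ 2 * y ^ 2 =
      (a ^ 4 * y + a * y ^ 4 + μ * c ^ 2 * y ^ 2) * m := by
    intro y
    have := h (0, y, 0)
    simp only [emb_zero] at this
    linear_combination this
  have poly : ∀ A B D : K8, (∀ y : K8, A * y + B * y ^ 2 + D * y ^ 4 = 0) → A = 0 ∧ B = 0 ∧ D = 0 := by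
    decide +kernel
  obtain ⟨e1, e2, e3⟩ := poly (a' ^ 4 - a ^ 4 * m) (μ * (c * m) ^ 2 - μ * c ^ 2 * m) (a' - a * m) (by
    intro y
    linear_combination h2 y)
  have e4 : a' = a * m := by linear_combination e3
  subst e4
  have h7 : ∀ m : K8, m ≠ 0 → m ≠ 1 → m ^ 4 - m ≠ 0 := by decide +kernel
  have ha : a = 0 := by
    have : a ^ 4 * (m ^ 4 - m) = 0 := by linear_combination e1
    rcases mul_eq_zero.mp this with h3 | h3
    · exact pow_eq_zero_iff (by norm_num) |>.mp h3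
    · exact absurd h3 (h7 m hm hm1)
  have hc : c = 0 := by
    have : μ * (c ^ 2 * (m * (m - 1))) = 0 := by linear_combination e2
    rcases mul_eq_zero.mp this with h3 | h3
    · exact absurd h3 hμ
    · rcases mul_eq_zero.mp h3 with h4 | h4
      · exact pow_eq_zero_iff (by norm_num) |>.mp h4
      · rcases mul_eq_zero.mp h4 with h5 | h5
        · exact absurd h5 hm
        · exact absurd (by linear_combination h5) hm1
  subst ha hc
  refine ⟨rfl, rfl, ?_, by ring, by ring⟩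
  have := h (0, 0, 1)
  simp only [emb_zero] at this
  linear_combination this

/-! ### elements normalising `Z` -/

variable {G : Type*} [Group G] (C : Core G)

/-- `g` normalises `Z` and induces `r` on it. -/
def Ind (g : G) (r : K8 → K8) : Prop := ∀ b, g * C.z b * g⁻¹ = C.z (r b)

variable {C}

theorem Ind.add {g : G} {r : K8 → K8} (h : Ind C g r) : Add r := by
  intro a b
  apply C.z_inj
  rw [← h, C.z_add, C.z_add, ← h, ← h]
  group

theorem Ind.zero {g : G} {r : K8 → K8} (h : Ind C g r) {x : K8} (hx : r x = 0) : x = 0 := by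
  have h1 := h x
  rw [hx, C.z_zero] at h1
  apply C.z_eq_one
  calc C.z x = g⁻¹ * (g * C.z x * g⁻¹) * g := by group
    _ = 1 := by rw [h1]; group

theorem Ind.comp {g h : G} {r s : K8 → K8} (hg : Ind C g r) (hh : Ind C h s) : Ind C (g * h) (r ∘ s) := by
  intro b
  show _ = C.z (r (s b))
  rw [← hg, ← hh]
  group

theorem Ind.unique {g : G} {r s : K8 → K8} (hr : Ind C g r) (hs : Ind C g s) : r = s := by
  funext b
  apply C.z_inj
  rw [← hr, ← hs]

theorem ind_dk (k : K8ˣ) : Ind C (C.dk k) (fun x => x * (k : K8) ^ 4) := fun b => C.dk_z k b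

theorem ind_one_iff {g : G} : Ind C g id ↔ ∀ b, g * C.z b = C.z b * g := by
  constructor
  · intro h b
    exact mul_inv_eq_iff_eq_mul.1 (h b)
  · intro h b
    exact mul_inv_eq_iff_eq_mul.2 (h b)

section

variable (K : Coord C)

/-- the commutator form under an element normalising `Z` and `QQ` -/
theorem form_conj {g : G} {r : K8 → K8} (hg : Ind C g r) {x u : G} (hx : x ∈ C.QQ) (hu : u ∈ C.QQ)
    (hx' : g * x * g⁻¹ ∈ C.QQ) (hu' : g * u * g⁻¹ ∈ C.QQ) :
    bf K.μ (K.π (g * x * g⁻¹)) (K.π (g * u * g⁻¹)) = r (bf K.μ (K.π x) (K.π u)) := by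
  have h1 := K.comm hx' hu'
  have h2 := K.comm hx hu
  apply C.z_inj
  rw [← hg]
  have h3 : C.z (bf K.μ (K.π x) (K.π u)) = (u * x)⁻¹ * (x * u) := by rw [h2]; group
  have h4 : C.z (bf K.μ (K.π (g * x * g⁻¹)) (K.π (g * u * g⁻¹))) =
      ((g * u * g⁻¹) * (g * x * g⁻¹))⁻¹ * ((g * x * g⁻¹) * (g * u * g⁻¹)) := by rw [h1]; group
  rw [h3, h4]
  group

/-- a semilinear `r` forces `g` to fix the plane. -/
theorem plane_fixed (hμ : K.μ ≠ 0) {g : G} {r : K8 → K8} (hg : Ind C g r)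
    (hn : ∀ x, x ∈ C.QQ ↔ g * x * g⁻¹ ∈ C.QQ) {m : K8} (hm : ∀ x, r (x * K8.al) = r x * m) :
    ∃ b : A4, b ≠ 0 ∧ K.π (g * C.v (1, 0) * g⁻¹) = (b, 0, 0) ∧ (m = K8.al → b = (1, 0)) := by
  have ht : C.v (1, 0) ∈ C.QQ := TT_le (v_mem_TT _)
  have hs : C.v (0, 1) ∈ C.QQ := TT_le (v_mem_TT _)
  have ht' := (hn _).1 ht
  have hs' := (hn _).1 hs
  have hr1 : r 1 ≠ 0 := fun h => one_ne_zero (hg.zero h)
  have hm0 : m ≠ 0 := by
    rintro rfl
    have := hm 1
    rw [mul_zero] at this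
    have := hg.zero this
    exact absurd this (by decide +kernel)
  have hm1 : m ≠ 1 := by
    rintro rfl
    have h1 := hm 1
    rw [mul_one, one_mul] at h1
    have h2 : r (K8.al + 1) = 0 := by
      rw [hg.add, h1, K8.add_self]
    exact absurd (hg.zero h2) (by decide +kernel)
  have key : ∀ w, bf K.μ (K.π (g * C.v (0, 1) * g⁻¹)) w = bf K.μ (K.π (g * C.v (1, 0) * g⁻¹)) w * m := by
    intro w
    obtain ⟨u', hu', rfl⟩ := K.surj w
    have hu : g⁻¹ * u' * g ∈ C.QQ := by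
      rw [hn]
      have : g * (g⁻¹ * u' * g) * g⁻¹ = u' := by group
      rwa [this]
    have e : g * (g⁻¹ * u' * g) * g⁻¹ = u' := by group
    have h1 := form_conj K hg hs hu hs' (by rwa [e])
    have h2 := form_conj K hg ht hu ht' (by rwa [e])
    rw [e] at h1 h2
    rw [h1, h2, ← hm, K.v, K.v]
    congr 1
    simp only [bf, emb_one, emb_al]
    ring
  obtain ⟨h1, h2, h3, h4, h5⟩ := prop_form hμ hm0 hm1 key
  refine ⟨(K.π (g * C.v (1, 0) * g⁻¹)).1, ?_, Prod.ext rfl (Prod.ext h1 h2), ?_⟩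
  · intro h0
    have h6 : K.π (g * C.v (1, 0) * g⁻¹) = 0 := Prod.ext h0 (Prod.ext h1 h2)
    obtain ⟨e, he⟩ := K.ker _ ht' h6
    -- `v (1,0)` would centralise `QQ`
    have h7 := key ((0, 0), 0, 0)
    obtain ⟨x, hx, hxp⟩ := K.surj ((0, 0), 0, 1)
    have hx' := (hn x).1 hx
    have h8 := form_conj K hg ht hx ht' hx'
    rw [h6, K.v, hxp] at h8
    have h9 : bf K.μ 0 (K.π (g * x * g⁻¹)) = 0 := by
      simp only [bf, Prod.fst_zero, Prod.snd_zero, emb_zero]
      ring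
    rw [h9] at h8
    have h10 := hg.zero h8.symm
    simp only [bf, emb_one, emb_zero] at h10
    exact absurd h10 (by
      intro h
      have : (1 : K8) = 0 := by linear_combination h
      exact one_ne_zero this)
  · rintro rfl
    have : ∀ b b' : A4, emb b' = emb b * K8.al → b ≠ 0 → b = (1, 0) := by decide +kernel
    refine this _ _ h3 ?_
    intro h0
    have h6 : K.π (g * C.v (1, 0) * g⁻¹) = 0 := Prod.ext h0 (Prod.ext h1 h2)
    obtain ⟨x, hx, hxp⟩ := K.surj ((0, 0), 0, 1)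
    have hx' := (hn x).1 hx
    have h8 := form_conj K hg ht hx ht' hx'
    rw [h6, K.v, hxp] at h8
    have h9 : bf K.μ 0 (K.π (g * x * g⁻¹)) = 0 := by
      simp only [bf, Prod.fst_zero, Prod.snd_zero, emb_zero]
      ring
    rw [h9] at h8
    have h10 := hg.zero h8.symm
    simp only [bf, emb_one, emb_zero] at h10
    exact absurd h10 (by
      intro h
      have : (1 : K8) = 0 := by linear_combination h
      exact one_ne_zero this)

/-- an element centralising `Z` and normalising `QQ` lies in `QQ`. -/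
theorem mem_QQ_of (hμ : K.μ ≠ 0) {g : G} (hz : ∀ b, g * C.z b = C.z b * g)
    (hn : ∀ x, x ∈ C.QQ ↔ g * x * g⁻¹ ∈ C.QQ) : g ∈ C.QQ := by
  have hg : Ind C g id := ind_one_iff.2 hz
  obtain ⟨b, hb0, hb, hb1⟩ := plane_fixed K hμ hg hn (m := K8.al) (fun x => rfl)
  rw [hb1 rfl] at hb
  have ht : C.v (1, 0) ∈ C.QQ := TT_le (v_mem_TT _)
  obtain ⟨e, he⟩ := K.eq_mul_z ((hn _).1 ht) ht (hb.trans (K.v _).symm)
  obtain ⟨x, hx⟩ := Core.exists_act C e
  -- `x⁻¹ g` commutes with `v (1,0)` and `Z`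
  have h1 : (x⁻¹ * g) * C.v (1, 0) * (x⁻¹ * g)⁻¹ = C.v (1, 0) := by
    have h2 : (x⁻¹ * g) * C.v (1, 0) * (x⁻¹ * g)⁻¹ = x⁻¹ * (g * C.v (1, 0) * g⁻¹) * (x⁻¹)⁻¹ := by group
    rw [h2, he]
    have h3 := (hx.inv).2 (1, 0)
    have h4 := (hx.inv).conj_z e
    have h5 : x⁻¹ * (C.v (1, 0) * C.z e) * (x⁻¹)⁻¹ = (x⁻¹ * C.v (1, 0) * (x⁻¹)⁻¹) * (x⁻¹ * C.z e * (x⁻¹)⁻¹) := by
      group
    rw [h5, h3, h4, emb_one, mul_one, mul_assoc, C.z_sq, mul_one]
  have h6 : ∀ b, (x⁻¹ * g) * C.z b = C.z b * (x⁻¹ * g) := by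
    intro b
    have := hx.inv.1 b
    calc x⁻¹ * g * C.z b = x⁻¹ * (g * C.z b) := by group
      _ = x⁻¹ * C.z b * g := by rw [hz]; group
      _ = _ := by rw [this]; group
  obtain ⟨b', a, f, h7⟩ := eq_of_comm (C := C) (a := (1, 0)) (by decide) (c := 1) one_ne_zero
    (mul_inv_eq_iff_eq_mul.1 h1) (h6 1)
  have h8 : x⁻¹ * g ∈ C.QQ := by rw [h7]; exact TT_le mem_TT_of
  have h9 : g = x * (x⁻¹ * g) := by group
  rw [h9]
  exact mul_mem ⟨e, hx⟩ h8

/-- if `g` does not normalise `TT`, the induced map is not semilinear -/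
theorem not_semi (hμ : K.μ ≠ 0) {g : G} {r : K8 → K8} (hg : Ind C g r)
    (hn : ∀ x, x ∈ C.QQ ↔ g * x * g⁻¹ ∈ C.QQ) (ht : ∃ x ∈ C.TT, g * x * g⁻¹ ∉ C.TT) :
    semi (cod r) = false := by
  by_contra hs
  rw [Bool.not_eq_false] at hs
  obtain ⟨m, hm⟩ := semi_cod hg.add hs
  obtain ⟨b, hb0, hb, -⟩ := plane_fixed K hμ hg hn hm
  obtain ⟨x, hx, hx'⟩ := ht
  apply hx'
  have hvQ : C.v (1, 0) ∈ C.QQ := TT_le (v_mem_TT _)
  have h1 := form_conj K hg hvQ (TT_le hx) ((hn _).1 hvQ) ((hn _).1 (TT_le hx))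
  rw [K.mem_TT_iff ((hn _).1 (TT_le hx))]
  rw [hb] at h1
  have h2 : bf K.μ (K.π (C.v (1, 0))) (K.π x) = 0 := by
    rw [K.v]
    have := (K.mem_TT_iff (TT_le hx)).1 hx
    simp only [bf, this]
    ring
  rw [h2, hg.add.zero] at h1
  simp only [bf] at h1
  have h3 : emb b * (K.π (g * x * g⁻¹)).2.2 = 0 := by linear_combination h1
  rcases mul_eq_zero.mp h3 with h4 | h4
  · exact absurd (emb_eq_zero.1 h4) hb0
  · exact h4

end

end Cfsg.Agent.RuB.NormQ
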