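import Cfsg.Agent.RuB.NormTT
import Cfsg.Agent.RuRed.SzRelMore

/-!
# The normalisers of `T` and of `Q`

* `mem_QQ_of_norm_TT`: `C_G(Z) ∩ N_G(T) = Q`;
* `norm_QQ_of_norm_TT`: `N_G(T) ≤ N_G(Q)`;
* `mem_QQ_of_norm_QQ`: `C_G(Z) ∩ N_G(Q) = Q` when `μ ≠ 0`.
-/

set_option autoImplicit false

namespace Cfsg.Agent.RuB.Core

variable {G : Type*} [Group G] {C : Core G}

theorem pow5_surj : ∀ e : K8, ∃ a : K8, a ^ 5 = e := by decide +kernel

/-- `x` centralises `Z` and fixes `v b` modulo `Z` -/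
theorem mem_QQ_of {x : G} (hZ : ∀ b, x * C.z b = C.z b * x)
    (h1 : ∃ e, x * C.v (1, 0) * x⁻¹ = C.v (1, 0) * C.z e) : x ∈ C.QQ := by
  obtain ⟨e, he⟩ := h1
  obtain ⟨q, hq⟩ := C.exists_act e
  have hqi := hq.inv
  have h2 : (q⁻¹ * x) * C.v (1, 0) = C.v (1, 0) * (q⁻¹ * x) := by
    have h3 := hqi.2 (1, 0)
    rw [emb_one, mul_one, inv_inv] at h3
    rw [← mul_inv_eq_iff_eq_mul]
    calc q⁻¹ * x * C.v (1, 0) * (q⁻¹ * x)⁻¹ = q⁻¹ * (x * C.v (1, 0) * x⁻¹) * q := by group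
      _ = (q⁻¹ * C.v (1, 0) * q) * (q⁻¹ * C.z e * q) := by rw [he]; group
      _ = C.v (1, 0) * C.z e * C.z e := by
          rw [h3]
          congr 1
          have := hqi.conj_z e
          rw [inv_inv] at this
          exact this
      _ = _ := by rw [mul_assoc, C.z_sq, mul_one]
  have h3 : (q⁻¹ * x) * C.z 1 = C.z 1 * (q⁻¹ * x) := by
    calc q⁻¹ * x * C.z 1 = q⁻¹ * (x * C.z 1) := by group
      _ = (q⁻¹ * C.z 1) * x := by rw [hZ]; group
      _ = _ := by rw [hqi.1]; group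
  obtain ⟨b, a, f, h4⟩ := eq_of_comm (a := (1, 0)) (by decide) one_ne_zero h2 h3
  have h5 : x = q * (C.v b * C.U a f) := by rw [← h4]; group
  rw [h5]
  exact mul_mem ⟨e, hq⟩ (TT_le mem_TT_of)

/-- elements centralising `Z` and normalising `E` lie in `Q` -/
theorem mem_QQ_of_norm_E {x : G} (hZ : ∀ b, x * C.z b = C.z b * x)
    (h1 : ∃ b e, x * C.v (1, 0) * x⁻¹ = C.v b * C.z e)
    (h2 : ∃ b e, x * C.v (0, 1) * x⁻¹ = C.v b * C.z e) : x ∈ C.QQ := by
  obtain ⟨b1, e1, h1⟩ := h1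
  obtain ⟨b2, e2, h2⟩ := h2
  obtain ⟨w, hw⟩ := C.exists_act 1
  have hcz : ∀ b, x * C.z b * x⁻¹ = C.z b := fun b => by rw [hZ, mul_inv_cancel_right]
  have hcz' : ∀ b, x⁻¹ * C.z b = C.z b * x⁻¹ := fun b => by
    rw [inv_mul_eq_iff_eq_mul, ← mul_assoc, hZ, mul_inv_cancel_right]
  set y := x * w * x⁻¹ with hy
  have hyZ : ∀ b, y * C.z b = C.z b * y := by
    intro b
    calc x * w * x⁻¹ * C.z b = x * w * (x⁻¹ * C.z b) := by group
      _ = x * (w * C.z b) * x⁻¹ := by rw [hcz']; group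
      _ = (x * C.z b) * w * x⁻¹ := by rw [hw.1]; group
      _ = _ := by rw [hZ, hy]; group
  have hyv : ∀ b b' e', x * C.v b * x⁻¹ = C.v b' * C.z e' → y * C.v b' * y⁻¹ = C.v b' * C.z (emb b) := by
    intro b b' e' h
    have h3 : C.v b' = x * (C.v b * C.z e') * x⁻¹ := by
      have : x * (C.v b * C.z e') * x⁻¹ = (x * C.v b * x⁻¹) * (x * C.z e' * x⁻¹) := by group
      rw [this, h, hcz, mul_assoc, C.z_sq, mul_one]
    have h4 : y * C.v b' * y⁻¹ = x * ((w * C.v b * w⁻¹) * (w * C.z e' * w⁻¹)) * x⁻¹ := by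
      rw [h3, hy]; group
    rw [h4, hw.2, hw.conj_z, one_mul]
    have h5 : x * (C.v b * C.z (emb b) * C.z e') * x⁻¹ = (x * C.v b * x⁻¹) * (x * C.z (emb b) * x⁻¹) * (x * C.z e' * x⁻¹) := by
      group
    rw [h5, h, hcz, hcz, mul_assoc, mul_assoc, C.z_comm (emb b), ← mul_assoc (C.z e'), C.z_sq, one_mul]
  have hy1 := hyv _ _ _ h1
  have hy2 := hyv _ _ _ h2
  rw [emb_one] at hy1
  rw [emb_al] at hy2
  -- `y ∈ Q`
  have hyQ : y ∈ C.QQ := by
    have hb1 : b1 ≠ 0 := by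
      rintro rfl
      rw [C.v_zero, mul_one, mul_inv_cancel, one_mul] at hy1
      exact one_ne_zero (C.z_eq_one hy1.symm)
    have hb2 : b2 ≠ 0 := by
      rintro rfl
      rw [C.v_zero, mul_one, mul_inv_cancel, one_mul] at hy2
      exact absurd (C.z_eq_one hy2.symm) (by decide +kernel)
    have hb12 : b1 ≠ b2 := by
      rintro rfl
      rw [hy1] at hy2
      exact absurd (C.z_inj (mul_left_cancel hy2)) (by decide +kernel)
    refine mem_QQ_of hyZ ?_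
    have hcomb : ∀ b1 b2 : A4, b1 ≠ 0 → b2 ≠ 0 → b1 ≠ b2 → (1, 0) = b1 ∨ (1, 0) = b2 ∨ (1, 0) = b1 + b2 := by decide
    rcases hcomb b1 b2 hb1 hb2 hb12 with h | h | h
    · rw [h]; exact ⟨_, hy1⟩
    · rw [h]; exact ⟨_, hy2⟩
    · rw [h]
      refine ⟨1 + K8.al, ?_⟩
      rw [C.v_add]
      calc y * (C.v b1 * C.v b2) * y⁻¹ = (y * C.v b1 * y⁻¹) * (y * C.v b2 * y⁻¹) := by group
        _ = C.v b1 * (C.z 1 * C.v b2) * C.z K8.al := by rw [hy1, hy2]; group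
        _ = C.v b1 * (C.v b2 * C.z 1) * C.z K8.al := by rw [C.v_z_comm]
        _ = _ := by rw [C.z_add]; group
  obtain ⟨c, hc⟩ := hyQ
  have e3 := hc.2 b1
  have e4 := hc.2 b2
  rw [hy1] at e3
  rw [hy2] at e4
  have e5 := C.z_inj (mul_left_cancel e3)
  have e6 := C.z_inj (mul_left_cancel e4)
  have fin : ∀ (b1 b2 : A4) (c : K8), 1 = c * emb b1 → K8.al = c * emb b2 → b1 = (1, 0) := by decide +kernel
  have hb1 := fin b1 b2 c e5 e6
  subst hb1
  exact mem_QQ_of hZ ⟨e1, h1⟩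

section normTT

variable {g : G} (hg : ∀ x, x ∈ C.TT ↔ g * x * g⁻¹ ∈ C.TT)

include hg

theorem normTT_inv : ∀ x, x ∈ C.TT ↔ g⁻¹ * x * g⁻¹⁻¹ ∈ C.TT := by
  intro x
  have h1 := hg (g⁻¹ * x * g)
  have h2 : g * (g⁻¹ * x * g) * g⁻¹ = x := by group
  rw [h2] at h1
  rw [inv_inv]
  exact h1.symm

theorem normTT_z (e : K8) : ∃ e', g * C.z e * g⁻¹ = C.z e' := by
  obtain ⟨a, rfl⟩ := pow5_surj e
  obtain ⟨b', a', e', h⟩ := TT_eq ((hg _).1 (U_mem_TT (C := C) a 0))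
  refine ⟨a' ^ 5, ?_⟩
  rw [← T_sq b' a' e', ← h, ← C.U_sq a 0]
  group

theorem normTT_v (b : A4) : ∃ b' e', g * C.v b * g⁻¹ = C.v b' * C.z e' := by
  obtain ⟨b', a', e', h⟩ := TT_eq ((hg _).1 (v_mem_TT (C := C) b))
  have h1 : g * C.v b * g⁻¹ * (g * C.v b * g⁻¹) = 1 := by
    calc g * C.v b * g⁻¹ * (g * C.v b * g⁻¹) = g * (C.v b * C.v b) * g⁻¹ := by group
      _ = 1 := by rw [C.v_sq]; group
  rw [h, T_sq] at h1
  have h2 := pow5_eq_zero _ (C.z_eq_one h1)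
  subst h2
  exact ⟨b', e', by rw [h, C.z_eq]⟩

/-- `C_G(Z) ∩ N_G(T) ≤ Q` -/
theorem mem_QQ_of_norm_TT (hZ : ∀ b, g * C.z b = C.z b * g) : g ∈ C.QQ :=
  mem_QQ_of_norm_E hZ (normTT_v hg _) (normTT_v hg _)

theorem norm_QQ_aux (x : G) (hx : x ∈ C.QQ) : g * x * g⁻¹ ∈ C.QQ := by
  have hgi := normTT_inv hg
  apply mem_QQ_of_norm_TT (C := C) (g := g * x * g⁻¹)
  · intro t
    have h1 : ∀ s, s ∈ C.TT ↔ x * s * x⁻¹ ∈ C.TT := by
      intro s
      constructor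
      · exact fun hs => conj_T hx hs
      · intro hs
        have := conj_T (inv_mem hx) hs
        have h2 : x⁻¹ * (x * s * x⁻¹) * x⁻¹⁻¹ = s := by group
        rwa [h2] at this
    rw [hgi t, inv_inv, h1, hg]
    have : g * (x * (g⁻¹ * t * g) * x⁻¹) * g⁻¹ = g * x * g⁻¹ * t * (g * x * g⁻¹)⁻¹ := by group
    rw [this]
  · intro b
    obtain ⟨b', hb'⟩ := normTT_z hgi b
    rw [inv_inv] at hb'
    calc g * x * g⁻¹ * C.z b = g * (x * (g⁻¹ * C.z b * g)) * g⁻¹ := by group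
      _ = g * (g⁻¹ * C.z b * g * x) * g⁻¹ := by rw [hb', zcomm hx]
      _ = _ := by group

/-- `N_G(T) ≤ N_G(Q)` -/
theorem norm_QQ_of_norm_TT (x : G) : x ∈ C.QQ ↔ g * x * g⁻¹ ∈ C.QQ := by
  constructor
  · exact norm_QQ_aux hg x
  · intro h
    have := norm_QQ_aux (normTT_inv hg) _ h
    have h2 : g⁻¹ * (g * x * g⁻¹) * g⁻¹⁻¹ = x := by group
    rwa [h2] at this

end normTT

/-- the linear algebra -/
theorem plane_of_scalar {μ : K8} (hμ : μ ≠ 0) {p r : A4 × K8 × K8} (h : ∀ s, bf μ r s = K8.al * bf μ p s) :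
    p.2 = 0 ∧ r.2 = 0 := by
  obtain ⟨b1, a1, c1⟩ := p
  obtain ⟨b2, a2, c2⟩ := r
  unfold bf at h
  simp only at h
  have hal : K8.al ^ 2 + K8.al ≠ 0 := by decide +kernel
  have hal3 : K8.al ^ 3 = K8.al + 1 := by decide +kernel
  have hc : c2 = K8.al * c1 := by
    have := h ((1, 0), 0, 0)
    simp only [emb_one] at this
    linear_combination this
  subst hc
  have hB : μ * (a2 ^ 2 + K8.al * a1 ^ 2) = 0 := by
    have e1 := h ((0, 0), 0, 1)
    have e2 := h ((0, 0), 0, K8.al)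
    have ez : emb (0, 0) = 0 := emb_zero
    simp only [ez] at e1 e2
    have e3 : (K8.al ^ 2 + K8.al) * (μ * (a2 ^ 2 + K8.al * a1 ^ 2)) = 0 := by
      linear_combination e2 - K8.al * e1 + (K8.al ^ 3 * μ * a1 ^ 2 + K8.al * μ * a2 ^ 2) * K8.two_eq
    rcases mul_eq_zero.1 e3 with h1 | h1
    · exact absurd h1 hal
    · exact h1
  have fin : ∀ x y t : K8, x + y + t = 0 → K8.al * x + K8.al ^ 4 * y + K8.al ^ 2 * t = 0 →
      K8.al ^ 2 * x + K8.al * y + K8.al ^ 4 * t = 0 → y = 0 ∧ t = 0 := by decide +kernel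
  have hlin : ∀ t : K8, (a2 ^ 4 + K8.al * a1 ^ 4) * t + (a2 + K8.al * a1) * t ^ 4 +
      μ * ((K8.al * c1) ^ 2 + K8.al * c1 ^ 2) * t ^ 2 = 0 := by
    intro t
    have e1 := h ((0, 0), t, 0)
    have ez : emb (0, 0) = 0 := emb_zero
    simp only [ez] at e1
    linear_combination e1 + (K8.al * (a1 ^ 4 * t + a1 * t ^ 4 + μ * c1 ^ 2 * t ^ 2)) * K8.two_eq
  have hal8 : K8.al ^ 8 = K8.al := by decide +kernel
  obtain ⟨h1, h2⟩ := fin (a2 ^ 4 + K8.al * a1 ^ 4) (a2 + K8.al * a1) (μ * ((K8.al * c1) ^ 2 + K8.al * c1 ^ 2)) (by linear_combination hlin 1) (by linear_combination hlin K8.al)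
    (by linear_combination hlin (K8.al ^ 2) - (a2 + K8.al * a1) * hal8)
  have ha1 : a1 = 0 := by
    have h3 : μ * ((K8.al ^ 2 + K8.al) * a1 ^ 2) = 0 := by
      have h4 : a2 = K8.al * a1 := by linear_combination h1 - K8.al * a1 * K8.two_eq
      rw [h4] at hB
      linear_combination hB
    rcases mul_eq_zero.1 h3 with h4 | h4
    · exact absurd h4 hμ
    · rcases mul_eq_zero.1 h4 with h5 | h5
      · exact absurd h5 hal
      · exact pow_eq_zero_iff (by norm_num) |>.1 h5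
  have hc1 : c1 = 0 := by
    have h3 : μ * ((K8.al ^ 2 + K8.al) * c1 ^ 2) = 0 := by linear_combination h2
    rcases mul_eq_zero.1 h3 with h4 | h4
    · exact absurd h4 hμ
    · rcases mul_eq_zero.1 h4 with h5 | h5
      · exact absurd h5 hal
      · exact pow_eq_zero_iff (by norm_num) |>.1 h5
  subst ha1 hc1
  rw [mul_zero, add_zero] at h1
  subst h1
  exact ⟨rfl, by rw [mul_zero]; rfl⟩

/-- `C_G(Z) ∩ N_G(Q) = Q` when `μ ≠ 0` -/
theorem mem_QQ_of_norm_QQ (K : Coord C) (hμ : K.μ ≠ 0) {g : G} (hg : ∀ x, x ∈ C.QQ ↔ g * x * g⁻¹ ∈ C.QQ)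
    (hZ : ∀ b, g * C.z b = C.z b * g) : g ∈ C.QQ := by
  have hgv : ∀ b, g * C.v b * g⁻¹ ∈ C.QQ := fun b => (hg _).1 (TT_le (v_mem_TT b))
  have hb : ∀ b, ∀ y ∈ C.QQ, bf K.μ (K.π (g * C.v b * g⁻¹)) (K.π y) = C.bt (g⁻¹ * y * g) (C.v b) := by
    intro b y hy
    have hy' : g⁻¹ * y * g ∈ C.QQ := by
      have := (norm_inv hg y).1 hy
      rwa [inv_inv] at this
    have h1 := K.comm (hgv b) hy
    have h2 := bt_spec K.good (TT_le (v_mem_TT b)) hy'
    rw [bt_symm K.good (TT_le (v_mem_TT b)) hy'] at h2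
    have h3 : g * C.v b * g⁻¹ * y = y * (g * C.v b * g⁻¹) * C.z (C.bt (g⁻¹ * y * g) (C.v b)) := by
      calc g * C.v b * g⁻¹ * y = g * (C.v b * (g⁻¹ * y * g)) * g⁻¹ := by group
        _ = g * (g⁻¹ * y * g * C.v b * C.z (C.bt (g⁻¹ * y * g) (C.v b))) * g⁻¹ := by rw [← h2]
        _ = y * (g * C.v b) * (C.z (C.bt (g⁻¹ * y * g) (C.v b)) * g⁻¹) := by group
        _ = y * (g * C.v b) * (g⁻¹ * C.z (C.bt (g⁻¹ * y * g) (C.v b))) := by
            congr 1
            rw [eq_inv_mul_iff_mul_eq, ← mul_assoc, hZ, mul_inv_cancel_right]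
        _ = _ := by group
    rw [h1] at h3
    exact C.z_inj (mul_left_cancel h3)
  have hpl := plane_of_scalar (p := K.π (g * C.v (1, 0) * g⁻¹)) (r := K.π (g * C.v (0, 1) * g⁻¹)) hμ (by
    intro s
    obtain ⟨y, hy, rfl⟩ := K.surj s
    rw [hb _ y hy, hb _ y hy]
    have hy' : g⁻¹ * y * g ∈ C.QQ := by
      have := (norm_inv hg y).1 hy
      rwa [inv_inv] at this
    obtain ⟨c, hc⟩ := hy'
    rw [bt_v hc, bt_v hc, emb_one, emb_al]
    ring)
  have h1 : (K.π (g * C.v (1, 0) * g⁻¹)) = K.π (C.v (K.π (g * C.v (1, 0) * g⁻¹)).1) := by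
    rw [K.v]
    exact Prod.ext rfl hpl.1
  obtain ⟨e, he⟩ := K.eq_mul_z (hgv _) (TT_le (v_mem_TT _)) h1
  exact mem_QQ_of_norm_TT (norm_TT_of hg he) hZ

/-- only `1` in `Z` commutes with all of `L` -/
theorem z_eq_zero_of_central {e : K8} (h : ∀ l ∈ C.L, l * C.z e = C.z e * l) : e = 0 := by
  have h1 := C.R.center_trivial (g := C.R.u 0 e) (fun x => Subtype.ext (h x x.2).symm)
  exact C.z_eq_one (congrArg Subtype.val h1)

/-- every element of `N(T)` lies in `Q N(V)` -/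
theorem exists_adjust {g : G} (hg : ∀ x, x ∈ C.TT ↔ g * x * g⁻¹ ∈ C.TT) :
    ∃ q ∈ C.QQ, ∀ b, ∃ b', (q * g) * C.v b * (q * g)⁻¹ = C.v b' := by
  obtain ⟨b1, e1, h1⟩ := normTT_v hg (1, 0)
  have hb1 : b1 ≠ 0 := by
    rintro rfl
    rw [C.v_zero, one_mul] at h1
    obtain ⟨e', he'⟩ := normTT_z (normTT_inv hg) e1
    rw [inv_inv, ← h1] at he'
    have h2 : C.v (1, 0) = C.z e' := by rw [← he']; group
    have h3 := C.v_notin (1, 0) (by rw [h2]; exact C.z_mem _)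
    exact absurd h3 (by decide)
  have hemb : emb b1 ≠ 0 := fun h => hb1 (emb_eq_zero.1 h)
  obtain ⟨q, hq⟩ := C.exists_act (e1 * (emb b1)⁻¹)
  refine ⟨q, ⟨_, hq⟩, ?_⟩
  have h2 : (q * g) * C.v (1, 0) * (q * g)⁻¹ = C.v b1 := by
    calc (q * g) * C.v (1, 0) * (q * g)⁻¹ = q * (g * C.v (1, 0) * g⁻¹) * q⁻¹ := by group
      _ = (q * C.v b1 * q⁻¹) * (q * C.z e1 * q⁻¹) := by rw [h1]; group
      _ = C.v b1 := by
          rw [hq.2, hq.conj_z, inv_mul_cancel_right₀ hemb, mul_assoc, C.z_sq, mul_one]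
  have hcen : ∀ l ∈ C.L, ∀ b, l * ((q * g) * C.v b * (q * g)⁻¹) = ((q * g) * C.v b * (q * g)⁻¹) * l := by
    intro l hl b
    have h3 : ((q * g)⁻¹ * l * (q * g)) * C.v (1, 0) = C.v (1, 0) * ((q * g)⁻¹ * l * (q * g)) := by
      have h4 : l * C.v b1 = C.v b1 * l := (C.v_comm b1 l hl).symm
      rw [← h2] at h4
      calc (q * g)⁻¹ * l * (q * g) * C.v (1, 0) = (q * g)⁻¹ * (l * ((q * g) * C.v (1, 0) * (q * g)⁻¹)) * (q * g) := by group
        _ = (q * g)⁻¹ * ((q * g) * C.v (1, 0) * (q * g)⁻¹ * l) * (q * g) := by rw [h4]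
        _ = _ := by group
    obtain ⟨b', l', hl', h5⟩ := C.cent (1, 0) (by decide) _ h3
    have h6 : ((q * g)⁻¹ * l * (q * g)) * C.v b = C.v b * ((q * g)⁻¹ * l * (q * g)) := by
      rw [h5, mul_assoc, ← C.v_comm b l' hl', ← mul_assoc, C.v_v_comm, mul_assoc]
    calc l * ((q * g) * C.v b * (q * g)⁻¹) = (q * g) * ((q * g)⁻¹ * l * (q * g) * C.v b) * (q * g)⁻¹ := by group
      _ = (q * g) * (C.v b * ((q * g)⁻¹ * l * (q * g))) * (q * g)⁻¹ := by rw [h6]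
      _ = _ := by group
  intro b
  obtain ⟨b', e', h3⟩ := normTT_v hg b
  obtain ⟨c, hc⟩ : q ∈ C.QQ := ⟨_, hq⟩
  have h4 : (q * g) * C.v b * (q * g)⁻¹ = C.v b' * C.z (c * emb b' + e') := by
    calc (q * g) * C.v b * (q * g)⁻¹ = q * (g * C.v b * g⁻¹) * q⁻¹ := by group
      _ = (q * C.v b' * q⁻¹) * (q * C.z e' * q⁻¹) := by rw [h3]; group
      _ = _ := by rw [hc.2, hc.conj_z, mul_assoc, C.z_add]
  have h5 : c * emb b' + e' = 0 := by
    apply z_eq_zero_of_central (C := C)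
    intro l hl
    have h6 := hcen l hl b
    rw [h4] at h6
    have h7 : C.v b' * (l * C.z (c * emb b' + e')) = C.v b' * (C.z (c * emb b' + e') * l) := by
      rw [← mul_assoc, C.v_comm b' l hl, mul_assoc, h6, mul_assoc]
    exact mul_left_cancel h7
  rw [h5, C.z_zero, mul_one] at h4
  exact ⟨b', h4⟩

/-- `N_G(T) / Q` has odd order -/
theorem mem_QQ_of_sq {g : G} (hg : ∀ x, x ∈ C.TT ↔ g * x * g⁻¹ ∈ C.TT) (hsq : g * g ∈ C.QQ) : g ∈ C.QQ := by
  obtain ⟨q, hq, hV⟩ := exists_adjust hg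
  set h := q * g with hh
  have hqT : ∀ x, x ∈ C.TT ↔ q * x * q⁻¹ ∈ C.TT := by
    intro s
    constructor
    · exact fun hs => conj_T hq hs
    · intro hs
      have := conj_T (inv_mem hq) hs
      have h2 : q⁻¹ * (q * s * q⁻¹) * q⁻¹⁻¹ = s := by group
      rwa [h2] at this
  have hhT : ∀ x, x ∈ C.TT ↔ h * x * h⁻¹ ∈ C.TT := by
    intro x
    rw [hg x, hqT, hh]
    have : q * (g * x * g⁻¹) * q⁻¹ = q * g * x * (q * g)⁻¹ := by group
    rw [this]
  -- `h² ∈ Q`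
  have hsq2 : h * h ∈ C.QQ := by
    have h1 : h * h = q * (g * q * g⁻¹) * (g * g) := by rw [hh]; group
    rw [h1]
    exact mul_mem (mul_mem hq ((norm_QQ_of_norm_TT hg q).1 hq)) hsq
  -- `h² ∈ T`
  obtain ⟨c, hc⟩ := hsq2
  have hc0 : c = 0 := by
    obtain ⟨b1, h1⟩ := hV (1, 0)
    obtain ⟨b2, h2⟩ := hV b1
    have h3 : h * h * C.v (1, 0) * (h * h)⁻¹ = C.v b2 := by
      calc h * h * C.v (1, 0) * (h * h)⁻¹ = h * (h * C.v (1, 0) * h⁻¹) * h⁻¹ := by group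
        _ = _ := by rw [h1, h2]
    rw [hc.2, emb_one, mul_one] at h3
    have h4 : C.v (1, 0) * C.z c = C.v b2 * 1 := by rw [h3, mul_one]
    exact C.z_eq_one (C.vl_inj (C.z_mem c) (one_mem _) h4).2
  subst hc0
  have hfix : ∀ b, h * h * C.v b * (h * h)⁻¹ = C.v b := fun b => by
    rw [hc.2, zero_mul, C.z_zero, mul_one]
  -- some `v b` is fixed
  obtain ⟨b, hb, hbf⟩ : ∃ b, b ≠ 0 ∧ h * C.v b * h⁻¹ = C.v b := by
    obtain ⟨b1, h1⟩ := hV (1, 0)
    obtain ⟨b2, h2⟩ := hV (0, 1)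
    have e1 : h * C.v b1 * h⁻¹ = C.v (1, 0) := by
      rw [← h1]
      have h5 := hfix (1, 0)
      calc h * (h * C.v (1, 0) * h⁻¹) * h⁻¹ = h * h * C.v (1, 0) * (h * h)⁻¹ := by group
        _ = _ := h5
    have e2 : h * C.v b2 * h⁻¹ = C.v (0, 1) := by
      rw [← h2]
      have h5 := hfix (0, 1)
      calc h * (h * C.v (0, 1) * h⁻¹) * h⁻¹ = h * h * C.v (0, 1) * (h * h)⁻¹ := by group
        _ = _ := h5
    have hne : ∀ b, h * C.v b * h⁻¹ = C.v 0 → b = 0 := by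
      intro b h5
      rw [C.v_zero] at h5
      have h6 : C.v b = 1 := by
        calc C.v b = h⁻¹ * (h * C.v b * h⁻¹) * h := by group
          _ = 1 := by rw [h5]; group
      exact C.v_eq_one h6
    have hadd : ∀ b b' a a', h * C.v b * h⁻¹ = C.v b' → h * C.v a * h⁻¹ = C.v a' →
        h * C.v (b + a) * h⁻¹ = C.v (b' + a') := by
      intro b b' a a' h5 h6
      rw [C.v_add, C.v_add, ← h5, ← h6]; group
    by_cases hb1 : b1 = (1, 0)
    · exact ⟨(1, 0), by decide, by rw [h1, hb1]⟩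
    · by_cases hb2 : b2 = (0, 1)
      · exact ⟨(0, 1), by decide, by rw [h2, hb2]⟩
      · have fin : ∀ b1 b2 : A4, b1 = (1, 0) ∨ b2 = (0, 1) ∨ b1 = 0 ∨ b2 = 0 ∨ b1 = b2 ∨
            (b1 = (0, 1) ∧ b2 = (1, 0)) ∨ (b1 = (0, 1) ∧ b2 = (1, 1)) ∨ (b1 = (1, 1) ∧ b2 = (1, 0)) := by decide +kernel
        have hb10 : b1 ≠ 0 := by
          rintro rfl
          exact absurd (hne _ h1) (by decide)
        have hb20 : b2 ≠ 0 := by
          rintro rfl
          exact absurd (hne _ h2) (by decide)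
        have hb12 : b1 ≠ b2 := by
          rintro rfl
          rw [← h2] at h1
          have h5 : C.v (1, 0) = C.v (0, 1) := by
            have := congrArg (fun t => h⁻¹ * t * h) h1
            simpa [mul_assoc] using this
          exact absurd (C.v_inj h5) (by decide)
        rcases fin b1 b2 with r | r | r | r | r | ⟨r1, r2⟩ | ⟨r1, r2⟩ | ⟨r1, r2⟩
        · exact absurd r hb1
        · exact absurd r hb2
        · exact absurd r hb10
        · exact absurd r hb20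
        · exact absurd r hb12
        · subst r1 r2
          exact ⟨(1, 1), by decide, hadd _ _ _ _ h1 h2⟩
        · subst r1 r2
          -- `v1 → v2 → v3`, but `h²` trivial
          rw [h2] at e1
          exact absurd (C.v_inj e1) (by decide)
        · subst r1 r2
          rw [h1] at e2
          exact absurd (C.v_inj e2) (by decide)
  have hbf' : h * C.v b = C.v b * h := mul_inv_eq_iff_eq_mul.1 hbf
  obtain ⟨a, l, hl, h1⟩ := C.cent b hb h hbf'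
  -- `l` normalises `S`
  have hlS : (⟨l, hl⟩ : ↥C.L) ∈ Subgroup.normalizer (C.R.T : Set ↥C.L) := by
    have aux : ∀ t : ↥C.L, (t : G) ∈ C.TT → t ∈ C.R.T := by
      intro t ht
      obtain ⟨b, a, e, h3⟩ := TT_eq ht
      have h4 : C.v 0 * (t : G) = C.v b * C.U a e := by rw [C.v_zero, one_mul, h3]
      have h5 := (C.vl_inj t.2 (C.U_mem a e) h4).2
      exact ⟨a, e, Subtype.ext h5⟩
    have aux2 : ∀ t : ↥C.L, t ∈ C.R.T → (t : G) ∈ C.TT := by
      rintro t ⟨a, e, rfl⟩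
      exact U_mem_TT a e
    rw [Subgroup.mem_normalizer_iff]
    intro t
    have h3 : ((⟨l, hl⟩ * t * ⟨l, hl⟩⁻¹ : ↥C.L) : G) = h * (t : G) * h⁻¹ := by
      rw [h1]
      show l * (t : G) * l⁻¹ = C.v a * l * t * (C.v a * l)⁻¹
      have h4 := C.v_comm a (l * t * l⁻¹) (mul_mem (mul_mem hl t.2) (inv_mem hl))
      calc l * (t : G) * l⁻¹ = C.v a * (l * t * l⁻¹) * (C.v a)⁻¹ := by rw [h4]; group
        _ = _ := by group
    constructor
    · intro ht
      exact aux _ (by rw [h3]; exact (hhT _).1 (aux2 _ ht))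
    · intro ht
      exact aux _ ((hhT _).2 (by rw [← h3]; exact aux2 _ ht))
  obtain ⟨x, y, k, h2⟩ := C.R.norm hlS
  have h3 : l = C.U x y * C.dk k := congrArg Subtype.val h2
  -- the torus part squares to one
  have h4 : h * h ∈ C.TT := hc
  have hk : k = 1 := by
    have h5 : h * h = C.v 0 * (l * l) := by
      rw [h1]
      have := C.v_comm a l hl
      calc C.v a * l * (C.v a * l) = C.v a * (l * C.v a) * l := by group
        _ = (C.v a * C.v a) * (l * l) := by rw [← this]; group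
        _ = _ := by rw [C.v_sq, C.v_zero]
    obtain ⟨b', a', e', h6⟩ := TT_eq h4
    rw [h5] at h6
    have h7 := (C.vl_inj (mul_mem hl hl) (C.U_mem a' e') h6).2
    have h8 : (⟨l, hl⟩ : ↥C.L) * ⟨l, hl⟩ = C.R.u a' e' := Subtype.ext h7
    rw [h2] at h8
    have h9 : C.R.u x y * C.R.d k * (C.R.u x y * C.R.d k) =
        C.R.u x y * C.R.u (x * (k : K8) ^ 2 * (C.R.θ k)⁻¹) (y * C.R.θ k) * (C.R.d (k * k)) := by
      rw [mul_assoc, ← mul_assoc (C.R.d k), C.R.d_mul_u, mul_assoc, mul_assoc, mul_assoc, C.R.d_mul]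
    rw [h9, C.R.u_mul] at h8
    have h10 : C.R.u a' e' = C.R.u a' e' * C.R.d 1 := by rw [C.R.d_one, mul_one]
    rw [h10] at h8
    have h11 := (C.R.ud_inj h8).2.2
    have fin : ∀ k : K8, k * k = 1 → k = 1 := by decide +kernel
    exact Units.ext (fin _ (congrArg Units.val h11))
  subst hk
  have h5 : h ∈ C.QQ := by
    rw [h1, h3, dk_one, mul_one]
    exact TT_le mem_TT_of
  have h6 : g = q⁻¹ * h := by rw [hh]; group
  rw [h6]
  exact mul_mem (inv_mem hq) h5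

end Cfsg.Agent.RuB.Core
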