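import Cfsg.Agent.RuB.Count
import Cfsg.Agent.RuB.NormTT

/-!
# `Q` is a Sylow 2-subgroup if `N(Q) ≤ N(T)`

Orders of `T` and `Q`, the elements of `N(T)` centralising `Z`, Sylow statements.
-/

set_option autoImplicit false

namespace Cfsg.Agent.RuB.QSyl

open Subgroup Cfsg.Agent.RuB Cfsg.Agent.RuB.Core Cfsg.Agent.RuB.Count

variable {G : Type*} [Group G] {C : Core G}

theorem card_A4 : Nat.card A4 = 4 := by
  rw [Nat.card_eq_fintype_card]; decide +kernel

/-- parametrisation of `T` -/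
noncomputable def eT (C : Core G) : A4 × K8 × K8 ≃ C.TT :=
  Equiv.ofBijective (fun p => ⟨C.v p.1 * C.U p.2.1 p.2.2, mem_TT_of⟩) (by
    constructor
    · rintro ⟨b, a, e⟩ ⟨b', a', e'⟩ h
      have h1 := T_inj (congrArg Subtype.val h)
      obtain ⟨h2, h3, h4⟩ := h1
      simp only at h2 h3 h4
      rw [h2, h3, h4]
    · rintro ⟨x, hx⟩
      obtain ⟨b, a, e, h⟩ := TT_eq hx
      exact ⟨(b, a, e), Subtype.ext h.symm⟩)

theorem card_TT (C : Core G) : Nat.card C.TT = 256 := by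
  have h : Nat.card (A4 × K8 × K8) = Nat.card A4 * (Nat.card K8 * Nat.card K8) := by
    rw [← Nat.card_prod K8 K8]
    exact Nat.card_prod A4 (K8 × K8)
  rw [← Nat.card_congr (eT C), h, card_A4, K8.natCard]

theorem finite_TT (C : Core G) : Finite C.TT := Nat.finite_of_card_ne_zero (by rw [card_TT]; norm_num)

/-- `Q` is parametrised by `T` and `K8` -/
noncomputable def eQ (C : Core G) : K8 × C.TT ≃ C.QQ :=
  Equiv.ofBijective (fun p => ⟨(C.exists_act p.1).choose * p.2, mul_mem ⟨_, (C.exists_act p.1).choose_spec⟩ (TT_le p.2.2)⟩) (by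
    constructor
    · rintro ⟨c, t⟩ ⟨c', t'⟩ h
      have h1 : (C.exists_act c).choose * (t : G) = (C.exists_act c').choose * t' := congrArg Subtype.val h
      have h2 := Act.mul (C.exists_act c).choose_spec t.2
      have h3 := Act.mul (C.exists_act c').choose_spec t'.2
      rw [h1] at h2
      have h4 := h2.unique h3
      rw [add_zero, add_zero] at h4
      subst h4
      have h5 := mul_left_cancel h1
      rw [Subtype.ext h5]
    · rintro ⟨x, c, hx⟩
      refine ⟨(c, ⟨(C.exists_act c).choose⁻¹ * x, ?_⟩), ?_⟩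
      · have := Act.mul (C.exists_act c).choose_spec.inv hx
        rw [K8.add_self] at this
        exact this
      · apply Subtype.ext
        show (C.exists_act c).choose * ((C.exists_act c).choose⁻¹ * x) = x
        group)

theorem card_QQ (C : Core G) : Nat.card C.QQ = 2048 := by
  rw [← Nat.card_congr (eQ C), Nat.card_prod, card_TT, K8.natCard]

theorem pgroup_TT (C : Core G) : IsPGroup 2 C.TT := by
  refine IsPGroup.of_card (n := 8) ?_
  rw [card_TT]; norm_num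

theorem pgroup_QQ (C : Core G) : IsPGroup 2 C.QQ := by
  refine IsPGroup.of_card (n := 11) ?_
  rw [card_QQ]; norm_num

/-- order of the centraliser of `v b` -/
theorem card_cent {b : A4} (hb : b ≠ 0) : Nat.card (centralizer ({C.v b} : Set G)) = 256 * 455 := by
  let f : A4 × C.L → centralizer ({C.v b} : Set G) := fun p => ⟨C.v p.1 * p.2, by
    rw [mem_centralizer_singleton_iff]
    have h1 := C.v_comm b p.2 p.2.2
    calc C.v p.1 * (p.2 : G) * C.v b = C.v p.1 * (C.v b * p.2) := by rw [h1]; group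
      _ = (C.v p.1 * C.v b) * p.2 := by group
      _ = C.v b * (C.v p.1 * p.2) := by rw [C.v_v_comm]; group⟩
  have hf : Function.Bijective f := by
    constructor
    · rintro ⟨a, l⟩ ⟨a', l'⟩ h
      have h1 := C.vl_inj l.2 l'.2 (congrArg Subtype.val h)
      exact Prod.ext h1.1 (Subtype.ext h1.2)
    · rintro ⟨x, hx⟩
      rw [mem_centralizer_singleton_iff] at hx
      obtain ⟨a, l, hl, h⟩ := C.cent b hb x hx
      exact ⟨(a, ⟨l, hl⟩), Subtype.ext h.symm⟩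
  rw [← Nat.card_congr (Equiv.ofBijective f hf), Nat.card_prod, card_A4, card_L]

theorem card_cent_conj {b : A4} (hb : b ≠ 0) (g : G) :
    Nat.card (centralizer ({g * C.v b * g⁻¹} : Set G)) = 256 * 455 := by
  rw [← card_cent (C := C) hb]
  symm
  refine Nat.card_congr ⟨fun x => ⟨g * x * g⁻¹, ?_⟩, fun x => ⟨g⁻¹ * x * g, ?_⟩, fun x => ?_, fun x => ?_⟩
  · have h := x.2
    rw [mem_centralizer_singleton_iff] at h ⊢
    calc g * x * g⁻¹ * (g * C.v b * g⁻¹) = g * (x * C.v b) * g⁻¹ := by group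
      _ = _ := by rw [h]; group
  · have h := x.2
    rw [mem_centralizer_singleton_iff] at h ⊢
    calc g⁻¹ * x * g * C.v b = g⁻¹ * (x * (g * C.v b * g⁻¹)) * g := by group
      _ = _ := by rw [h]; group
  · apply Subtype.ext
    show g⁻¹ * (g * x * g⁻¹) * g = x
    group
  · apply Subtype.ext
    show g * (g⁻¹ * x * g) * g⁻¹ = x
    group

/-- 2-subgroups of the centraliser of a conjugate of `v b` have order at most `256` -/
theorem card_le_of_comm [Finite G] {P : Subgroup G} (hP : IsPGroup 2 P) {b : A4} (hb : b ≠ 0) (g : G)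
    (h : ∀ x ∈ P, x * (g * C.v b * g⁻¹) = g * C.v b * g⁻¹ * x) : Nat.card P ∣ 256 := by
  have h1 : P ≤ centralizer ({g * C.v b * g⁻¹} : Set G) := by
    intro x hx
    rw [mem_centralizer_singleton_iff]
    exact h x hx
  have h2 := Subgroup.card_dvd_of_le h1
  rw [card_cent_conj hb g] at h2
  obtain ⟨n, hn⟩ := hP.exists_card_eq
  rw [hn] at h2 ⊢
  have h3 : Nat.Coprime (2 ^ n) 455 := Nat.Coprime.pow_left n (by decide)
  exact h3.dvd_of_dvd_mul_right h2

theorem z_comm_Q {x : G} (hx : x ∈ C.QQ) (e : K8) : x * C.z e = C.z e * x := zcomm hx e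

/-- no conjugate of an element of `Z` lies in `V` -/
theorem noV [Finite G] : NoV C := by
  intro g b h
  by_cases hb : b = 0
  · subst hb
    rw [C.v_zero] at h
    have h1 : C.z 1 = 1 := by
      calc C.z 1 = g⁻¹ * (g * C.z 1 * g⁻¹) * g := by group
        _ = 1 := by rw [h]; group
    exact absurd (C.z_eq_one h1) one_ne_zero
  · have h1 := card_le_of_comm (C := C) (pgroup_QQ C) hb g⁻¹ (fun x hx => by
      have : g⁻¹ * C.v b * g⁻¹⁻¹ = C.z 1 := by rw [← h]; group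
      rw [this]
      exact zcomm hx 1)
    rw [card_QQ] at h1
    revert h1
    norm_num

/-- no conjugate of a non-trivial element of `Z` is a `v b` -/
theorem z_ne_conj [Finite G] {e : K8} {b : A4} (hb : b ≠ 0) (g : G) : g * C.z e * g⁻¹ ≠ C.v b := by
  intro h
  have h1 := card_le_of_comm (C := C) (pgroup_QQ C) hb g⁻¹ (fun x hx => by
      have : g⁻¹ * C.v b * g⁻¹⁻¹ = C.z e := by rw [← h]; group
      rw [this]
      exact zcomm hx e)
  rw [card_QQ] at h1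
  revert h1
  norm_num

/-- involutions of `T` -/
theorem inv_T {x : G} (hx : x ∈ C.TT) (h : x * x = 1) : ∃ b e, x = C.v b * C.z e := by
  obtain ⟨b, a, e, rfl⟩ := TT_eq hx
  rw [T_sq] at h
  have h5 := pow5_eq_zero _ (C.z_eq_one h)
  subst h5
  exact ⟨b, e, by rw [C.z_eq]⟩

/-- `v b z e` (`b ≠ 0`) is a conjugate of `v b` by an element of `Q` -/
theorem exists_conj_v {b : A4} (hb : b ≠ 0) (e : K8) : ∃ x c, C.Act x c ∧ c * emb b = e ∧ x * C.v b * x⁻¹ = C.v b * C.z e := by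
  have h : ∀ (b : A4) (e : K8), b ≠ 0 → ∃ c : K8, c * emb b = e := by decide +kernel
  obtain ⟨c, hc⟩ := h b e hb
  obtain ⟨x, hx⟩ := C.exists_act c
  exact ⟨x, c, hx, hc, by rw [hx.2, hc]⟩

/-- elements commuting with one `v b`, `b ≠ 0`, commute with all `v a` -/
theorem comm_v {x : G} {b : A4} (hb : b ≠ 0) (h : x * C.v b = C.v b * x) (a : A4) : x * C.v a = C.v a * x := by
  obtain ⟨b', l, hl, rfl⟩ := C.cent b hb x h
  have h1 := C.v_comm a l hl
  calc C.v b' * l * C.v a = C.v b' * (C.v a * l) := by rw [h1]; group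
    _ = C.v a * (C.v b' * l) := by rw [← mul_assoc, C.v_v_comm]; group

/-- an element `v b z e` that commutes with the torus has `e = 0` -/
theorem eq_zero_of_comm_dk {b : A4} {e : K8} (h : ∀ k : K8ˣ, C.dk k * (C.v b * C.z e) = C.v b * C.z e * C.dk k) : e = 0 := by
  let k : K8ˣ := kap
  have h1 := h k
  have h2 : C.dk k * (C.v b * C.z e) * (C.dk k)⁻¹ = C.v b * C.z e := by rw [h1]; group
  have h3 : C.dk k * (C.v b * C.z e) * (C.dk k)⁻¹ = (C.dk k * C.v b * (C.dk k)⁻¹) * (C.dk k * C.z e * (C.dk k)⁻¹) := by group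
  rw [h3, C.dk_v_conj, C.dk_z] at h2
  have h4 := C.z_inj (mul_left_cancel h2)
  have h5 : ∀ e : K8, e * K8.al ^ 4 = e → e = 0 := by decide +kernel
  exact h5 e h4

/-- elements of `N(T)` centralising `Z` lie in `Q` -/
theorem mem_QQ_of_norm {g : G} (hg : ∀ x, x ∈ C.TT ↔ g * x * g⁻¹ ∈ C.TT) (hz : ∀ e, g * C.z e = C.z e * g) : g ∈ C.QQ := by
  -- first adjust `g` so that `v (1, 0)` goes into `V`
  have e10 : ((1, 0) : A4) ≠ 0 := by decide
  have img : ∀ b : A4, b ≠ 0 → ∀ g : G, (∀ x, x ∈ C.TT ↔ g * x * g⁻¹ ∈ C.TT) → (∀ e, g * C.z e = C.z e * g) →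
      ∃ b' e, b' ≠ 0 ∧ g * C.v b * g⁻¹ = C.v b' * C.z e := by
    intro b hb g hg hz
    obtain ⟨b', e, h⟩ := inv_T ((hg _).1 (v_mem_TT (C := C) b)) (by
      calc g * C.v b * g⁻¹ * (g * C.v b * g⁻¹) = g * (C.v b * C.v b) * g⁻¹ := by group
        _ = 1 := by rw [C.v_sq]; group)
    refine ⟨b', e, ?_, h⟩
    rintro rfl
    rw [C.v_zero, one_mul] at h
    have h1 : g * C.v b = g * C.z e := by
      calc g * C.v b = g * C.v b * g⁻¹ * g := by group
        _ = g * C.z e := by rw [h, hz]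
    have h2 := mul_left_cancel h1
    exact hb (C.v_notin b (by rw [h2]; exact C.z_mem e))
  obtain ⟨b', e, hb', h⟩ := img _ e10 g hg hz
  obtain ⟨x, c, hx, hce, hxv⟩ := exists_conj_v (C := C) hb' e
  have hxT : ∀ y, y ∈ C.TT ↔ x * y * x⁻¹ ∈ C.TT := by
    intro y
    constructor
    · exact conj_T ⟨c, hx⟩
    · intro h1
      have := conj_T (inv_mem (⟨c, hx⟩ : x ∈ C.QQ)) h1
      have h2 : x⁻¹ * (x * y * x⁻¹) * x⁻¹⁻¹ = y := by group
      rwa [h2] at this
  obtain ⟨g1, hg1⟩ : ∃ g1, g = x * g1 := ⟨x⁻¹ * g, by group⟩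
  subst hg1
  have hg1z : ∀ e, g1 * C.z e = C.z e * g1 := by
    intro e
    have h1 := hz e
    have h2 := hx.1 e
    have h3 : x * (g1 * C.z e) = x * (C.z e * g1) := by
      rw [← mul_assoc, h1, ← mul_assoc x, h2, mul_assoc]
    exact mul_left_cancel h3
  have hg1T : ∀ y, y ∈ C.TT ↔ g1 * y * g1⁻¹ ∈ C.TT := by
    intro y
    rw [hg y, hxT (g1 * y * g1⁻¹)]
    have : x * g1 * y * (x * g1)⁻¹ = x * (g1 * y * g1⁻¹) * x⁻¹ := by group
    rw [this]
  have hv1 : g1 * C.v (1, 0) * g1⁻¹ = C.v b' := by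
    have h1 : x * (g1 * C.v (1, 0) * g1⁻¹) * x⁻¹ = x * C.v b' * x⁻¹ := by
      rw [hxv, ← h]; group
    exact mul_left_cancel (mul_right_cancel h1)
  refine mul_mem ⟨c, hx⟩ ?_
  clear h hxv hg hz hxT hx
  -- `g1` normalises `V`
  have hV : ∀ b, ∃ b'', g1 * C.v b * g1⁻¹ = C.v b'' := by
    intro b
    by_cases hb : b = 0
    · subst hb
      exact ⟨0, by rw [C.v_zero]; group⟩
    obtain ⟨b'', e'', -, h1⟩ := img b hb g1 hg1T hg1z
    have h2 : e'' = 0 := by
      refine eq_zero_of_comm_dk (C := C) (b := b'') (fun k => ?_)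
      rw [← h1]
      -- `dk k` commutes with `v b'`, hence its conjugate with `v (1,0)`, hence with `v b`
      have h3 : g1⁻¹ * C.dk k * g1 * C.v (1, 0) = C.v (1, 0) * (g1⁻¹ * C.dk k * g1) := by
        have h4 := C.dk_v_comm k b'
        rw [← hv1] at h4
        calc g1⁻¹ * C.dk k * g1 * C.v (1, 0) = g1⁻¹ * (C.dk k * (g1 * C.v (1, 0) * g1⁻¹)) * g1 := by group
          _ = _ := by rw [h4]; group
      have h4 := comm_v e10 h3 b
      calc C.dk k * (g1 * C.v b * g1⁻¹) = g1 * (g1⁻¹ * C.dk k * g1 * C.v b) * g1⁻¹ := by group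
        _ = _ := by rw [h4]; group
    refine ⟨b'', ?_⟩
    rw [h1, h2, C.z_zero, mul_one]
  -- action of the conjugate of an element acting with `c = 1`
  obtain ⟨w, hw⟩ := C.exists_act 1
  obtain ⟨q, hq⟩ := hV (0, 1)
  have hb1 : b' ≠ 0 := hb'
  obtain ⟨x', c', hx', hce', hxv'⟩ := exists_conj_v (C := C) hb' 1
  have w1 : ∀ b b2, g1 * C.v b * g1⁻¹ = C.v b2 → (g1 * w * g1⁻¹) * C.v b2 * (g1 * w * g1⁻¹)⁻¹ = C.v b2 * C.z (emb b) := by
    intro b b2 hb2
    rw [← hb2]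
    have h1 := hw.2 b
    rw [one_mul] at h1
    calc g1 * w * g1⁻¹ * (g1 * C.v b * g1⁻¹) * (g1 * w * g1⁻¹)⁻¹ = g1 * (w * C.v b * w⁻¹) * g1⁻¹ := by group
      _ = (g1 * C.v b * g1⁻¹) * (g1 * C.z (emb b) * g1⁻¹) := by rw [h1]; group
      _ = _ := by rw [hg1z]; group
  have h5 := w1 _ _ hv1
  rw [emb_one] at h5
  -- `x'⁻¹ (g1 w g1⁻¹)` commutes with `v b'`
  have h6 : x'⁻¹ * (g1 * w * g1⁻¹) * C.v b' = C.v b' * (x'⁻¹ * (g1 * w * g1⁻¹)) := by
    rw [← hxv'] at h5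
    have h7 : (g1 * w * g1⁻¹) * C.v b' = x' * C.v b' * x'⁻¹ * (g1 * w * g1⁻¹) := by
      rw [← h5]; group
    calc x'⁻¹ * (g1 * w * g1⁻¹) * C.v b' = x'⁻¹ * ((g1 * w * g1⁻¹) * C.v b') := by group
      _ = _ := by rw [h7]; group
  have h7 := comm_v hb' h6 q
  have h8 := w1 _ _ hq
  have h9 : (g1 * w * g1⁻¹) * C.v q * (g1 * w * g1⁻¹)⁻¹ = x' * C.v q * x'⁻¹ := by
    calc (g1 * w * g1⁻¹) * C.v q * (g1 * w * g1⁻¹)⁻¹ =
        x' * (x'⁻¹ * (g1 * w * g1⁻¹) * C.v q) * (x'⁻¹ * (g1 * w * g1⁻¹))⁻¹ * x'⁻¹ := by group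
      _ = x' * C.v q * x'⁻¹ := by rw [h7]; group
  rw [h9, hx'.2] at h8
  have h10 := C.z_inj (mul_left_cancel h8)
  rw [emb_al] at h10
  have fin : ∀ (c : K8) (p q : A4), c * emb p = 1 → c * emb q = K8.al → p = (1, 0) := by decide +kernel
  have hp := fin c' b' q hce' h10
  subst hp
  have h11 : g1 * C.v (1, 0) = C.v (1, 0) * g1 := mul_inv_eq_iff_eq_mul.1 hv1
  obtain ⟨b, a, e, h12⟩ := eq_of_comm (C := C) e10 one_ne_zero h11 (hg1z 1)
  rw [h12]
  exact TT_le mem_TT_of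

/-- `N(T)` normalises `Z` -/
theorem norm_Z {g : G} (hg : ∀ x, x ∈ C.TT ↔ g * x * g⁻¹ ∈ C.TT) (e : K8) : ∃ e', g * C.z e * g⁻¹ = C.z e' := by
  have h : ∀ e : K8, ∃ a : K8, a ^ 5 = e := by decide +kernel
  obtain ⟨a, ha⟩ := h e
  obtain ⟨b', a', e', h1⟩ := TT_eq ((hg _).1 (U_mem_TT (C := C) a 0))
  refine ⟨a' ^ 5, ?_⟩
  rw [← T_sq b' a' e', ← h1, ← ha, ← C.U_sq a 0]
  group

/-- `Q` is normal in `N(T)` -/
theorem norm_QQ {g : G} (hg : ∀ x, x ∈ C.TT ↔ g * x * g⁻¹ ∈ C.TT) {x : G} (hx : x ∈ C.QQ) : g * x * g⁻¹ ∈ C.QQ := by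
  have hg' : ∀ x, x ∈ C.TT ↔ g⁻¹ * x * g ∈ C.TT := by
    intro x
    rw [hg (g⁻¹ * x * g)]
    have : g * (g⁻¹ * x * g) * g⁻¹ = x := by group
    rw [this]
  have hxT : ∀ y, y ∈ C.TT ↔ x * y * x⁻¹ ∈ C.TT := by
    intro y
    constructor
    · exact conj_T hx
    · intro h1
      have := conj_T (inv_mem hx) h1
      have h2 : x⁻¹ * (x * y * x⁻¹) * x⁻¹⁻¹ = y := by group
      rwa [h2] at this
  refine mem_QQ_of_norm (fun y => ?_) (fun e => ?_)
  · rw [hg' y, hxT, hg]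
    have : g * (x * (g⁻¹ * y * g) * x⁻¹) * g⁻¹ = g * x * g⁻¹ * y * (g * x * g⁻¹)⁻¹ := by group
    rw [this]
  · have hgi : ∀ x, x ∈ C.TT ↔ g⁻¹ * x * g⁻¹⁻¹ ∈ C.TT := by
      intro x; rw [inv_inv]; exact hg' x
    obtain ⟨e', he'⟩ := norm_Z hgi e
    rw [inv_inv] at he'
    have h1 := zcomm hx e'
    rw [← he'] at h1
    calc g * x * g⁻¹ * C.z e = g * (x * (g⁻¹ * C.z e * g)) * g⁻¹ := by group
      _ = _ := by rw [h1]; group

end Cfsg.Agent.RuB.QSyl
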