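import Cfsg.Agent.RuB.QSylA

/-!
# `Q` is a Sylow 2-subgroup if `N(Q) ≤ N(T)`; involutions of `Q`
-/

set_option autoImplicit false

namespace Cfsg.Agent.RuB.QSyl

open Subgroup Cfsg.Agent.RuB Cfsg.Agent.RuB.Core Cfsg.Agent.RuB.Count

section general

theorem dvd_of_stab {P X : Type*} [Group P] [Finite P] [Finite X] [MulAction P X] {s m : ℕ} (hs : 0 < s)
    (hP : Nat.card P = s * m) (h : ∀ x : X, Nat.card (MulAction.stabilizer P x) = s) : m ∣ Nat.card X := by
  classical
  have h1 := Nat.card_congr (MulAction.selfEquivSigmaOrbitsQuotientStabilizer P X)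
  have : Fintype (MulAction.orbitRel.Quotient P X) := Fintype.ofFinite _
  rw [Nat.card_sigma] at h1
  have h2 : ∀ w : MulAction.orbitRel.Quotient P X, Nat.card (P ⧸ MulAction.stabilizer P w.out) = m := by
    intro w
    have h3 := Subgroup.card_eq_card_quotient_mul_card_subgroup (MulAction.stabilizer P w.out)
    rw [h, hP] at h3
    have h4 : m * s = Nat.card (P ⧸ MulAction.stabilizer P w.out) * s := by rw [← h3, mul_comm]
    exact (Nat.eq_of_mul_eq_mul_right hs h4).symm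
  rw [h1, Finset.sum_congr rfl (fun w _ => h2 w), Finset.sum_const, smul_eq_mul]
  exact dvd_mul_left _ _

/-- two Sylow 2-subgroups of a subgroup `H` -/
theorem exists_conj_of_card {G : Type*} [Group G] [Finite G] {H A B : Subgroup G} (hA : A ≤ H) (hB : B ≤ H)
    (_ : IsPGroup 2 A) (pB : IsPGroup 2 B) {n m : ℕ} (hH : Nat.card H = 2 ^ n * m) (hm : Odd m)
    (cA : Nat.card A = 2 ^ n) : ∃ h ∈ H, ∀ x ∈ B, h⁻¹ * x * h ∈ A := by
  have : Fact (Nat.Prime 2) := ⟨Nat.prime_two⟩
  have cA' : Nat.card (A.subgroupOf H) = 2 ^ n := by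
    rw [← cA]; exact Nat.card_congr (Subgroup.subgroupOfEquivOfLe hA).toEquiv
  have pB' : IsPGroup 2 (B.subgroupOf H) := pB.of_equiv (Subgroup.subgroupOfEquivOfLe hB).symm
  obtain ⟨Q, hQ⟩ := pB'.exists_le_sylow
  have hf : (Nat.card H).factorization 2 = n := by
    have h2 : m.factorization 2 = 0 := Nat.factorization_eq_zero_of_not_dvd (fun h => by
      rcases hm with ⟨k, rfl⟩; omega)
    have hm0 : m ≠ 0 := by rintro rfl; exact absurd hm (by decide)
    rw [hH, Nat.factorization_mul (by positivity) hm0, Finsupp.add_apply, h2, add_zero,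
      Nat.prime_two.factorization_pow, Finsupp.single_eq_same]
  let P : Sylow 2 H := Sylow.ofCard (A.subgroupOf H) (by rw [cA', hf])
  obtain ⟨h, hh⟩ := MulAction.exists_smul_eq H P Q
  refine ⟨h, h.2, fun x hx => ?_⟩
  have h1 : (⟨x, hB hx⟩ : H) ∈ Q := hQ (by rw [Subgroup.mem_subgroupOf]; exact hx)
  rw [← hh] at h1
  have h2 : (⟨x, hB hx⟩ : H) ∈ ((h • P : Sylow 2 H) : Subgroup H) := h1
  rw [Sylow.coe_subgroup_smul, Subgroup.mem_pointwise_smul_iff_inv_smul_mem] at h2
  have h3 : (MulAut.conj h)⁻¹ • (⟨x, hB hx⟩ : H) ∈ A.subgroupOf H := h2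
  rw [Subgroup.mem_subgroupOf, ← map_inv, MulAut.smul_def, MulAut.conj_apply] at h3
  simpa using h3

end general

variable {G : Type*} [Group G] [Finite G] {C : Core G}

/-- `E - Z` -/
def EZ (C : Core G) : Set G := {x | ∃ b e, b ≠ 0 ∧ x = C.v b * C.z e}

/-- parametrisation of `E - Z` -/
noncomputable def eEZ (C : Core G) : {b : A4 // b ≠ 0} × K8 ≃ EZ C :=
  Equiv.ofBijective (fun p => ⟨C.v p.1 * C.z p.2, p.1, p.2, p.1.2, rfl⟩) (by
    constructor
    · rintro ⟨b, e⟩ ⟨b', e'⟩ h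
      have h1 := C.vl_inj (C.z_mem _) (C.z_mem _) (congrArg Subtype.val h)
      exact Prod.ext (Subtype.ext h1.1) (C.z_inj h1.2)
    · rintro ⟨x, b, e, hb, rfl⟩
      exact ⟨(⟨b, hb⟩, e), rfl⟩)

omit [Finite G] in
theorem card_EZ (C : Core G) : Nat.card (EZ C) = 24 := by
  rw [← Nat.card_congr (eEZ C), Nat.card_prod, K8.natCard]
  have : Nat.card {b : A4 // b ≠ 0} = 3 := by
    rw [Nat.card_eq_fintype_card]; decide +kernel
  rw [this]

/-- an involution of `T` outside `Z`-conjugates lies in `E - Z` -/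
theorem mem_EZ_of_conj {x : G} (hx : x ∈ C.TT) {b : A4} (hb : b ≠ 0) {g : G} (h : g * C.v b * g⁻¹ = x) : x ∈ EZ C := by
  have hxx : x * x = 1 := by
    rw [← h]
    calc g * C.v b * g⁻¹ * (g * C.v b * g⁻¹) = g * (C.v b * C.v b) * g⁻¹ := by group
      _ = 1 := by rw [C.v_sq]; group
  obtain ⟨b', e, h1⟩ := inv_T hx hxx
  refine ⟨b', e, ?_, h1⟩
  rintro rfl
  rw [C.v_zero, one_mul] at h1
  refine z_ne_conj (C := C) hb (e := e) g⁻¹ ?_
  rw [← h1, ← h]; group

omit [Finite G] in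
theorem EZ_conj {x : G} (hx : x ∈ EZ C) : ∃ y ∈ C.QQ, ∃ b, b ≠ 0 ∧ y * C.v b * y⁻¹ = x := by
  obtain ⟨b, e, hb, rfl⟩ := hx
  obtain ⟨y, c, hy, -, h⟩ := exists_conj_v (C := C) hb e
  exact ⟨y, ⟨c, hy⟩, b, hb, h⟩

omit [Finite G] in
theorem EZ_le {x : G} (hx : x ∈ EZ C) : x ∈ C.TT := by
  obtain ⟨b, e, hb, rfl⟩ := hx
  exact mul_mem (v_mem_TT b) (z_mem_TT e)

omit [Finite G] in
theorem T_comm_EZ {x t : G} (hx : x ∈ EZ C) (ht : t ∈ C.TT) : t * x = x * t := by
  obtain ⟨b, e, hb, rfl⟩ := hx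
  have h1 := comm_v_of_mem_TT ht b
  have h2 := ht.1 e
  rw [← mul_assoc, h1, mul_assoc, h2, mul_assoc]

/-- normaliser of `T` -/
def NT (C : Core G) : Subgroup G where
  carrier := {g | ∀ x, x ∈ C.TT ↔ g * x * g⁻¹ ∈ C.TT}
  mul_mem' := fun {a b} ha hb x => by
    rw [hb x, ha (b * x * b⁻¹)]
    have : a * (b * x * b⁻¹) * a⁻¹ = a * b * x * (a * b)⁻¹ := by group
    rw [this]
  one_mem' := fun x => by
    have : (1 : G) * x * 1⁻¹ = x := by group
    rw [this]
  inv_mem' := fun {a} ha x => by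
    rw [ha (a⁻¹ * x * a⁻¹⁻¹)]
    have : a * (a⁻¹ * x * a⁻¹⁻¹) * a⁻¹ = x := by group
    rw [this]

omit [Finite G] in
theorem mem_NT {g : G} : g ∈ NT C ↔ ∀ x, x ∈ C.TT ↔ g * x * g⁻¹ ∈ C.TT := Iff.rfl

omit [Finite G] in
theorem QQ_le_NT : C.QQ ≤ NT C := by
  intro x hx y
  constructor
  · exact conj_T hx
  · intro h1
    have := conj_T (inv_mem hx) h1
    have h2 : x⁻¹ * (x * y * x⁻¹) * x⁻¹⁻¹ = y := by group
    rwa [h2] at this

/-- `Q` is a maximal 2-subgroup of `N(T)` -/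
theorem eq_QQ {P : Subgroup G} (hP : IsPGroup 2 P) (hQ : C.QQ ≤ P) (hT : P ≤ NT C) : P = C.QQ := by
  classical
  let _ : MulAction P (EZ C) :=
    { smul := fun g x => ⟨g * x * (g : G)⁻¹, by
        obtain ⟨y, hy, b, hb, h⟩ := EZ_conj x.2
        refine mem_EZ_of_conj (g := g * y) ((hT g.2 _).1 (EZ_le x.2)) hb ?_
        rw [← h]; group⟩
      one_smul := fun x => Subtype.ext (by
        show (1 : G) * x * (1 : G)⁻¹ = x
        group)
      mul_smul := fun a b x => Subtype.ext (by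
        show ((a * b : P) : G) * x * ((a * b : P) : G)⁻¹ = a * (b * x * (b : G)⁻¹) * (a : G)⁻¹
        rw [Subgroup.coe_mul]; group) }
  have hsmul : ∀ (g : P) (x : EZ C), ((g • x : EZ C) : G) = g * x * (g : G)⁻¹ := fun g x => rfl
  have hstab : ∀ x : EZ C, Nat.card (MulAction.stabilizer P x) = 256 := by
    intro x
    obtain ⟨y, hy, b, hb, h⟩ := EZ_conj x.2
    have hd : Nat.card (MulAction.stabilizer P x) ∣ 256 := by
      have h1 : Nat.card ((MulAction.stabilizer P x).map P.subtype) = Nat.card (MulAction.stabilizer P x) :=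
        Nat.card_congr ((MulAction.stabilizer P x).equivMapOfInjective P.subtype P.subtype_injective).symm.toEquiv
      rw [← h1]
      refine card_le_of_comm (C := C) ?_ hb y ?_
      · exact ((hP.to_subgroup (MulAction.stabilizer P x)).map P.subtype)
      · rintro u ⟨u', hu', rfl⟩
        have h2 := congrArg Subtype.val (MulAction.mem_stabilizer_iff.1 hu')
        rw [hsmul] at h2
        rw [h]
        exact mul_inv_eq_iff_eq_mul.1 h2
    have hle : 256 ≤ Nat.card (MulAction.stabilizer P x) := by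
      rw [← card_TT C]
      let f : C.TT → MulAction.stabilizer P x := fun t => ⟨⟨t, hQ (TT_le t.2)⟩, by
        rw [MulAction.mem_stabilizer_iff]
        apply Subtype.ext
        rw [hsmul]
        exact mul_inv_eq_iff_eq_mul.2 (T_comm_EZ x.2 t.2)⟩
      refine Nat.card_le_card_of_injective f ?_
      intro a b hab
      exact Subtype.ext (congrArg (fun w : MulAction.stabilizer P x => ((w : P) : G)) hab)
    exact le_antisymm (Nat.le_of_dvd (by norm_num) hd) hle
  obtain ⟨n, hn⟩ := hP.exists_card_eq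
  have h2 : 2048 ∣ Nat.card P := by
    rw [← card_QQ C]; exact Subgroup.card_dvd_of_le hQ
  obtain ⟨k, hk⟩ := h2
  have h3 : 8 * k ∣ Nat.card (EZ C) := dvd_of_stab (P := P) (X := EZ C) (s := 256) (m := 8 * k) (by norm_num)
    (by rw [hk]; ring) hstab
  rw [card_EZ] at h3
  have hk3 : k ∣ 3 := by
    have : 8 * k ∣ 8 * 3 := by simpa using h3
    exact Nat.dvd_of_mul_dvd_mul_left (by norm_num) this
  have hk1 : k = 1 := by
    rcases (Nat.dvd_prime Nat.prime_three).1 hk3 with h | h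
    · exact h
    · exfalso
      subst h
      rw [hn] at hk
      have h4 : 3 ∣ 2 ^ n := ⟨2048, by rw [hk]⟩
      have := (Nat.prime_three.dvd_of_dvd_pow h4)
      revert this; norm_num
  subst hk1
  refine (Subgroup.eq_of_le_of_card_ge hQ ?_).symm
  rw [hk, card_QQ]

section

variable (hN : ∀ g : G, (∀ x, x ∈ C.QQ ↔ g * x * g⁻¹ ∈ C.QQ) → g ∈ NT C)

include hN

/-- `Q` is a maximal 2-subgroup -/
theorem eq_QQ_of_le {P : Subgroup G} (hP : IsPGroup 2 P) (hQ : C.QQ ≤ P) : P = C.QQ := by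
  have : Fact (Nat.Prime 2) := ⟨Nat.prime_two⟩
  have hnil : Group.IsNilpotent P := hP.isNilpotent
  have hnc : NormalizerCondition P := Group.normalizerCondition_of_isNilpotent
  rw [normalizerCondition_iff_only_full_group_self_normalizing] at hnc
  have h1 : C.QQ.subgroupOf P = ⊤ := by
    apply hnc
    apply le_antisymm _ Subgroup.le_normalizer
    -- the normaliser in `P`
    let N : Subgroup G := P ⊓ Subgroup.normalizer (C.QQ : Set G)
    have hNN : N = C.QQ := by
      refine eq_QQ (hP.to_le inf_le_left) (le_inf hQ Subgroup.le_normalizer) (fun g hg => ?_)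
      refine hN g (fun x => ?_)
      exact Subgroup.mem_normalizer_iff.1 hg.2 x
    intro g hg
    rw [Subgroup.mem_subgroupOf]
    rw [← hNN]
    refine ⟨g.2, ?_⟩
    show (g : G) ∈ Subgroup.normalizer (C.QQ : Set G)
    rw [Subgroup.mem_normalizer_iff] at hg ⊢
    intro x
    by_cases hxP : x ∈ P
    · have h2 := hg ⟨x, hxP⟩
      rw [Subgroup.mem_subgroupOf, Subgroup.mem_subgroupOf] at h2
      simpa using h2
    · constructor
      · intro hx; exact absurd (hQ hx) hxP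
      · intro hx
        have h3 := hQ hx
        have h4 : x = (g : G)⁻¹ * (g * x * (g : G)⁻¹) * g := by group
        exact absurd (by rw [h4]; exact mul_mem (mul_mem (inv_mem g.2) h3) g.2) hxP
  refine le_antisymm ?_ hQ
  exact Subgroup.subgroupOf_eq_top.1 h1

/-- `Q` as a Sylow subgroup -/
def QS : Sylow 2 G where
  toSubgroup := C.QQ
  isPGroup' := pgroup_QQ C
  is_maximal' := fun {_} hP hQ => eq_QQ_of_le hN hP hQ

theorem factorization_card : (Nat.card G).factorization 2 = 11 := by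
  have : Fact (Nat.Prime 2) := ⟨Nat.prime_two⟩
  have h1 := (QS hN).card_eq_multiplicity
  have h2 : Nat.card (QS hN) = 2048 := card_QQ C
  rw [h2] at h1
  have h3 : 2 ^ 11 = 2 ^ (Nat.card G).factorization 2 := by rw [← h1]; norm_num
  exact (Nat.pow_right_injective le_rfl h3).symm

theorem exists_conj_QQ {P : Subgroup G} (hP : IsPGroup 2 P) : ∃ h : G, ∀ x ∈ P, h⁻¹ * x * h ∈ C.QQ := by
  have : Fact (Nat.Prime 2) := ⟨Nat.prime_two⟩
  obtain ⟨S, hS⟩ := hP.exists_le_sylow
  obtain ⟨g, hg⟩ := MulAction.exists_smul_eq G (QS hN) S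
  refine ⟨g, fun x hx => ?_⟩
  have h1 : x ∈ S := hS hx
  rw [← hg] at h1
  have h2 : x ∈ ((g • (QS hN) : Sylow 2 G) : Subgroup G) := h1
  rw [Sylow.coe_subgroup_smul, Subgroup.mem_pointwise_smul_iff_inv_smul_mem] at h2
  have h3 : (MulAut.conj g)⁻¹ • x ∈ C.QQ := h2
  rw [← map_inv, MulAut.smul_def, MulAut.conj_apply, inv_inv] at h3
  exact h3

/-- Sylow subgroups of subgroups containing `Q` -/
theorem exists_conj_in {H P : Subgroup G} (hH : C.QQ ≤ H) (hPH : P ≤ H) (hP : IsPGroup 2 P) :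
    ∃ h ∈ H, ∀ x ∈ P, h⁻¹ * x * h ∈ C.QQ := by
  have : Fact (Nat.Prime 2) := ⟨Nat.prime_two⟩
  have h1 : 2048 ∣ Nat.card H := by rw [← card_QQ C]; exact Subgroup.card_dvd_of_le hH
  obtain ⟨m, hm⟩ := h1
  have hm0 : m ≠ 0 := by
    rintro rfl
    have := Nat.card_pos (α := H)
    omega
  refine exists_conj_of_card hH hPH (pgroup_QQ C) hP (n := 11) (m := m) (by rw [hm]; norm_num) ?_ (by rw [card_QQ]; norm_num)
  rw [← Nat.not_even_iff_odd]
  intro he
  obtain ⟨k, hk⟩ := he.two_dvd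
  have h2 : 2 ^ 12 ∣ Nat.card G := (Dvd.intro k (by rw [hm, hk]; ring)).trans (Subgroup.card_subgroup_dvd_card H)
  have h3 := (Nat.prime_two.pow_dvd_iff_le_factorization Nat.card_pos.ne').1 h2
  rw [factorization_card hN] at h3
  omega

end

end Cfsg.Agent.RuB.QSyl
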