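import Cfsg.Agent.RuB.QSylC
import Cfsg.Agent.S0215

/-!
# `γ = 0`, `C(z) ≤ N(Z)`, `C(Z) = Q` if `N(Q) ≤ N(T)`
-/

set_option autoImplicit false

namespace Cfsg.Agent.RuB.QSyl

open Subgroup Cfsg.Agent.RuB Cfsg.Agent.RuB.Core Cfsg.Agent.RuB.Count

section general

variable {G : Type*} [Group G]

/-- powers of a product of two involutions -/
theorem refl_pow {x v : G} (hx : x * x = 1) (hv : v * v = 1) (j : ℕ) :
    (x * v) ^ (2 * j + 1) * v = (x * v) ^ j * x * ((x * v) ^ j)⁻¹ := by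
  have iv : v⁻¹ = v := inv_eq_of_mul_eq_one_left hv
  have h1 := conj_pow_dih hx hv j
  -- `x (x v)^j x⁻¹ = ((x v)^j)⁻¹`
  have ix : x⁻¹ = x := inv_eq_of_mul_eq_one_left hx
  rw [ix] at h1
  have h2 : (x * v) ^ j * x * ((x * v) ^ j)⁻¹ = (x * v) ^ j * (x * x) * (x * v) ^ j * x := by
    rw [← h1]; group
  rw [h2, hx, mul_one]
  have h3 : (x * v) ^ (2 * j + 1) * v = (x * v) ^ j * (x * v) ^ j * ((x * v) * v) := by
    rw [two_mul, pow_succ, pow_add]; group
  have h4 : (x * v) * v = x := by rw [mul_assoc, hv, mul_one]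
  rw [h3, h4]

end general

variable {G : Type*} [Group G] {C : Core G} [Finite G]

variable (hN : ∀ g : G, (∀ x, x ∈ C.QQ ↔ g * x * g⁻¹ ∈ C.QQ) → g ∈ NT C)

include hN

/-- `γ = 0` -/
theorem gamma_zero {a : A4} (ha : a ≠ 0) {y x : G} (hy : ZC C y) (hx : ZC C x) : x ∉ zpowers (y * C.v a) := by
  intro hxr
  have hyy := hy.sq
  have hvv := C.v_sq a
  set v := C.v a with hv
  set r := y * v with hr
  obtain ⟨k, m, hm, hkm⟩ := Nat.exists_eq_two_pow_mul_odd (n := orderOf r) (orderOf_pos r).ne'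
  obtain ⟨j, hj⟩ := hm
  -- `y' = r^m v` is conjugate to `y`
  have hy' : ZC C (r ^ m * v) := by
    rw [hj, hr, refl_pow hyy hvv j]
    exact hy.conj _
  have hord : orderOf (r ^ m) = 2 ^ k := by
    rw [orderOf_pow_of_dvd (by omega) (Dvd.intro_left _ hkm.symm), hkm, Nat.mul_div_cancel _ (by omega)]
  have hRp : IsPGroup 2 (zpowers (r ^ m)) := by
    refine IsPGroup.of_card (n := k) ?_
    rw [Nat.card_zpowers, hord]
  have hVp : IsPGroup 2 (zpowers v) := by
    have h1 : orderOf v ∣ 2 := orderOf_dvd_of_pow_eq_one (by rw [pow_two, hvv])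
    rcases (Nat.dvd_prime Nat.prime_two).1 h1 with h2 | h2
    · refine IsPGroup.of_card (n := 0) ?_
      rw [Nat.card_zpowers, h2, pow_zero]
    · refine IsPGroup.of_card (n := 1) ?_
      rw [Nat.card_zpowers, h2, pow_one]
  have iv : v⁻¹ = v := inv_eq_of_mul_eq_one_left hvv
  have hinv : v * r * v⁻¹ = r⁻¹ := by
    rw [iv, hr, mul_inv_rev, iv, inv_eq_of_mul_eq_one_left hyy, mul_assoc, mul_assoc y, hvv, mul_one]
  have hPp : IsPGroup 2 (zpowers v ⊔ zpowers (r ^ m) : Subgroup G) := by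
    refine pgroup_sup hVp hRp (fun g hg => iff_of_imp (fun x hx => ?_))
    have h1 : ∀ x ∈ zpowers (r ^ m), v * x * v⁻¹ ∈ zpowers (r ^ m) := by
      intro x hx
      obtain ⟨n, rfl⟩ := mem_zpowers_iff.1 hx
      have h2 : v * (r ^ m) ^ n * v⁻¹ = ((r ^ m) ^ n)⁻¹ := by
        have h3 : v * (r ^ m) ^ n * v⁻¹ = (((v * r * v⁻¹)) ^ m) ^ n := by
          rw [conj_pow, conj_zpow]
        rw [h3, hinv, inv_pow, inv_zpow]
      rw [h2]
      exact inv_mem (zpow_mem (mem_zpowers _) _)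
    have h4 : ∀ n : ℤ, ∀ x ∈ zpowers (r ^ m), v ^ n * x * (v ^ n)⁻¹ ∈ zpowers (r ^ m) := by
      intro n
      rcases Int.even_or_odd' n with ⟨t, ht | ht⟩
      · intro x hx
        have : v ^ n = 1 := by rw [ht, zpow_mul]; norm_cast; rw [pow_two, hvv, one_zpow]
        rw [this]; simpa using hx
      · intro x hx
        have : v ^ n = v := by
          rw [ht, zpow_add, zpow_mul]; norm_cast; rw [pow_two, hvv, one_zpow, one_mul, pow_one]
        rw [this]; exact h1 x hx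
    obtain ⟨n, rfl⟩ := mem_zpowers_iff.1 hg
    exact h4 n x hx
  obtain ⟨h, hh⟩ := exists_conj_QQ hN hPp
  have h1 := hh v (le_sup_left (a := zpowers v) (mem_zpowers v))
  have h2 := hh (r ^ m * v) (mul_mem (le_sup_right (a := zpowers v) (mem_zpowers _)) (le_sup_left (a := zpowers v) (mem_zpowers v)))
  obtain ⟨b, e, hb, h3⟩ := mem_EZ hN h1 ha (g := h⁻¹) (by rw [inv_inv, hv])
  obtain ⟨f, h4⟩ := mem_Z hN h2 (by
    have := hy'.conj h⁻¹
    rwa [inv_inv] at this)
  -- `r ^ m`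
  have h5 : h⁻¹ * r ^ m * h = C.v b * C.z (e + f) := by
    have h6 : h⁻¹ * r ^ m * h = (h⁻¹ * (r ^ m * v) * h) * (h⁻¹ * v * h) := by
      have : (h⁻¹ * (r ^ m * v) * h) * (h⁻¹ * v * h) = h⁻¹ * (r ^ m * (v * v)) * h := by group
      rw [this, hvv, mul_one]
    rw [h6, h3, h4, ← mul_assoc, ← C.v_z_comm, mul_assoc, ← C.z_add, add_comm]
  have h6 : h⁻¹ * r ^ m * h ∈ EZ C := ⟨b, e + f, hb, h5⟩
  have h7 : r ^ m * r ^ m = 1 := by
    have h8 : (h⁻¹ * r ^ m * h) * (h⁻¹ * r ^ m * h) = 1 := by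
      rw [h5]
      calc C.v b * C.z (e + f) * (C.v b * C.z (e + f)) = (C.v b * C.v b) * (C.z (e + f) * C.z (e + f)) := by
            have := C.v_z_comm b (e + f)
            calc C.v b * C.z (e + f) * (C.v b * C.z (e + f)) = C.v b * (C.z (e + f) * C.v b) * C.z (e + f) := by group
              _ = _ := by rw [← this]; group
        _ = 1 := by rw [C.v_sq, C.z_sq, one_mul]
    calc r ^ m * r ^ m = h * ((h⁻¹ * r ^ m * h) * (h⁻¹ * r ^ m * h)) * h⁻¹ := by group
      _ = 1 := by rw [h8]; group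
  have h8 : r ^ m ≠ 1 := by
    intro h9
    rw [h9] at h5
    have h10 : C.v b * C.z (e + f) = 1 := by rw [← h5]; group
    have h11 := C.vl_inj (C.z_mem _) (one_mem _) (b := 0) (l := C.z (e + f)) (m := 1) (a := b) (by rw [h10, C.v_zero, one_mul])
    exact hb h11.1
  have h9 : x = r ^ m := unique_inv hxr (pow_mem (mem_zpowers r) m) hx.sq h7 hx.ne_one h8
  refine not_zc_EZ h6 ?_
  rw [← h9]
  have := hx.conj h⁻¹
  rwa [inv_inv] at this

/-- `z^G ∩ C(z) ⊆ Z` -/
theorem zc_comm {y : G} (hy : ZC C y) (hc : y * C.z 1 = C.z 1 * y) : ∃ e, y = C.z e := by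
  by_cases hy1 : y = C.z 1
  · exact ⟨1, hy1⟩
  have e10 : ((1, 0) : A4) ≠ 0 := by decide
  have hz1 : ZC C (C.z 1) := ⟨1, by group⟩
  have hyy := hy.sq
  have hvv := C.v_sq (1, 0)
  -- `z y` is a conjugate of `z`
  have hzy : ZC C (C.z 1 * y) := by
    have hPp : IsPGroup 2 (zpowers (C.z 1) ⊔ zpowers y : Subgroup G) := by
      have hp : ∀ w : G, w * w = 1 → IsPGroup 2 (zpowers w) := by
        intro w hw
        have h1 : orderOf w ∣ 2 := orderOf_dvd_of_pow_eq_one (by rw [pow_two, hw])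
        rcases (Nat.dvd_prime Nat.prime_two).1 h1 with h2 | h2
        · refine IsPGroup.of_card (n := 0) ?_
          rw [Nat.card_zpowers, h2, pow_zero]
        · refine IsPGroup.of_card (n := 1) ?_
          rw [Nat.card_zpowers, h2, pow_one]
      refine pgroup_sup (hp _ (C.z_sq 1)) (hp _ hyy) (fun g hg => iff_of_imp (fun x hx => ?_))
      obtain ⟨n, rfl⟩ := mem_zpowers_iff.1 hg
      obtain ⟨l, rfl⟩ := mem_zpowers_iff.1 hx
      have h1 : Commute (C.z 1) y := hc.symm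
      have h2 : Commute (C.z 1 ^ n) (y ^ l) := (h1.zpow_left n).zpow_right l
      rw [h2.eq, mul_inv_cancel_right]
      exact hx
    obtain ⟨h, hh⟩ := exists_conj_QQ hN hPp
    have h1 := hh (C.z 1) (le_sup_left (a := zpowers (C.z 1)) (mem_zpowers _))
    have h2 := hh y (le_sup_right (a := zpowers (C.z 1)) (mem_zpowers _))
    obtain ⟨e, he⟩ := mem_Z hN h1 (by have := hz1.conj h⁻¹; rwa [inv_inv] at this)
    obtain ⟨f, hf⟩ := mem_Z hN h2 (by have := hy.conj h⁻¹; rwa [inv_inv] at this)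
    have h3 : h⁻¹ * (C.z 1 * y) * h = C.z (e + f) := by
      rw [C.z_add, ← he, ← hf]; group
    have h4 : e + f ≠ 0 := by
      intro h5
      rw [h5, C.z_zero] at h3
      have h6 : C.z 1 * y = 1 := by
        calc C.z 1 * y = h * (h⁻¹ * (C.z 1 * y) * h) * h⁻¹ := by group
          _ = 1 := by rw [h3]; group
      apply hy1
      rw [← C.z_inv 1]
      exact (inv_eq_of_mul_eq_one_right h6).symm
    have h5 := (zc_z (C := C) h4).conj h
    rw [← h3] at h5
    have h6 : h * (h⁻¹ * (C.z 1 * y) * h) * h⁻¹ = C.z 1 * y := by group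
    rwa [h6] at h5
  set v := C.v (1, 0) with hv
  set r := y * v with hr
  have hzr : Commute (C.z 1) r := by
    show C.z 1 * r = r * C.z 1
    rw [hr, ← mul_assoc, ← hc, mul_assoc, ← C.v_z_comm, mul_assoc]
  rcases Nat.even_or_odd (orderOf r) with he | ho
  · -- even order
    obtain ⟨n, hn⟩ := he
    have hn0 : 0 < n := by have := orderOf_pos r; omega
    set i := r ^ n with hi
    have hii : i * i = 1 := by rw [hi, ← pow_add, ← hn, pow_orderOf_eq_one]
    have hi1 : i ≠ 1 := by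
      intro h1
      have h2 := orderOf_dvd_of_pow_eq_one h1
      rw [hn] at h2
      have := Nat.le_of_dvd hn0 h2
      omega
    have hir : i ∈ zpowers r := pow_mem (mem_zpowers r) n
    have hiv : v * i = i * v := comm_of_mem' hyy hvv hir hii
    have hiz : i * C.z 1 = C.z 1 * i := (hzr.pow_right n).eq.symm
    obtain ⟨b, a, e, h1⟩ := eq_of_comm (C := C) e10 one_ne_zero hiv.symm hiz
    have hiT : i ∈ C.TT := by rw [h1]; exact mem_TT_of
    obtain ⟨b, e, h2⟩ := inv_T hiT hii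
    have hb : b ≠ 0 := by
      rintro rfl
      rw [C.v_zero, one_mul] at h2
      have he0 : e ≠ 0 := by
        rintro rfl
        exact hi1 (by rw [h2, C.z_zero])
      have h3 : ZC C i := by rw [h2]; exact zc_z he0
      exact gamma_zero hN e10 hy h3 hir
    obtain ⟨q, hq, b', hb', h3⟩ := EZ_conj (⟨b, e, hb, h2⟩ : i ∈ EZ C)
    have hri : Commute r i := (Commute.refl r).pow_right n
    have h4 : q⁻¹ * r * q * C.v b' = C.v b' * (q⁻¹ * r * q) := by
      have h5 := hri.eq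
      rw [← h3] at h5
      calc q⁻¹ * r * q * C.v b' = q⁻¹ * (r * (q * C.v b' * q⁻¹)) * q := by group
        _ = _ := by rw [h5]; group
    have h5 : q⁻¹ * r * q * C.z 1 = C.z 1 * (q⁻¹ * r * q) := by
      have h6 := zcomm hq 1
      have h7 := zcomm (inv_mem hq) 1
      calc q⁻¹ * r * q * C.z 1 = q⁻¹ * (r * (q * C.z 1)) := by group
        _ = q⁻¹ * (r * C.z 1) * q := by rw [h6]; group
        _ = (q⁻¹ * C.z 1) * r * q := by rw [← hzr.eq]; group
        _ = _ := by rw [h7]; group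
    obtain ⟨b2, a2, e2, h6⟩ := eq_of_comm (C := C) hb' one_ne_zero h4 h5
    have h7 : r ∈ C.QQ := by
      have h8 : r = q * (q⁻¹ * r * q) * q⁻¹ := by group
      rw [h8, h6]
      exact mul_mem (mul_mem hq (TT_le mem_TT_of)) (inv_mem hq)
    have h8 : y ∈ C.QQ := by
      have h9 : y = r * v := by rw [hr, mul_assoc, hvv, mul_one]
      rw [h9]
      exact mul_mem h7 (TT_le (v_mem_TT _))
    exact mem_Z hN h8 hy
  · -- odd order
    exfalso
    refine gamma_zero hN e10 hzy hz1 ?_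
    rw [mem_zpowers_iff]
    refine ⟨(orderOf r : ℤ), ?_⟩
    rw [zpow_natCast]
    have h1 : C.z 1 * y * C.v (1, 0) = C.z 1 * r := by rw [hr, hv, mul_assoc]
    rw [h1, hzr.mul_pow, pow_orderOf_eq_one, mul_one]
    obtain ⟨k, hk⟩ := ho
    rw [hk, pow_succ, pow_mul, pow_two, C.z_sq, one_pow, one_mul]

/-- `C(z)` normalises `Z` -/
theorem cent_z_norm {g : G} (hg : g * C.z 1 = C.z 1 * g) (e : K8) : ∃ e', g * C.z e * g⁻¹ = C.z e' := by
  by_cases he : e = 0
  · exact ⟨0, by rw [he, C.z_zero]; group⟩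
  refine zc_comm hN ((zc_z (C := C) he).conj g) ?_
  have h1 : g⁻¹ * C.z 1 * g = C.z 1 := by
    rw [mul_assoc, ← hg]; group
  calc g * C.z e * g⁻¹ * C.z 1 = g * (C.z e * (g⁻¹ * C.z 1 * g)) * g⁻¹ := by group
    _ = g * (C.z 1 * C.z e) * g⁻¹ := by rw [h1, C.z_comm]
    _ = g * C.z 1 * C.z e * g⁻¹ := by group
    _ = C.z 1 * (g * C.z e * g⁻¹) := by rw [hg]; group

/-- elements of `C(Z)` mapping some `v b` into `Q` lie in `Q` -/
theorem mem_QQ_of_conj {g : G} (hg : ∀ e, g * C.z e = C.z e * g) {b : A4} (hb : b ≠ 0)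
    (h : g * C.v b * g⁻¹ ∈ C.QQ) : g ∈ C.QQ := by
  obtain ⟨q, hq, b', hb', h1⟩ := EZ_conj (mem_EZ hN h hb rfl)
  have h2 : (q⁻¹ * g) * C.v b * (q⁻¹ * g)⁻¹ = C.v b' := by
    calc (q⁻¹ * g) * C.v b * (q⁻¹ * g)⁻¹ = q⁻¹ * (g * C.v b * g⁻¹) * q := by group
      _ = _ := by rw [← h1]; group
  have h3 : ∀ e, (q⁻¹ * g) * C.z e = C.z e * (q⁻¹ * g) := by
    intro e
    rw [mul_assoc, hg, ← mul_assoc, zcomm (inv_mem hq) e, mul_assoc]
  have h4 : q⁻¹ * g ∈ C.QQ := by
    set g1 := q⁻¹ * g with hg1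
    refine mem_QQ_of_norm (g := g1) ?_ h3
    intro t
    have key : ∀ (k : G) (c d : A4), c ≠ 0 → d ≠ 0 → k * C.v c * k⁻¹ = C.v d → (∀ e, k * C.z e = C.z e * k) →
        ∀ t ∈ C.TT, k * t * k⁻¹ ∈ C.TT := by
      intro k c d _ hd hk hkz t ht
      have h5 : k * t * k⁻¹ * C.v d = C.v d * (k * t * k⁻¹) := by
        have h6 := comm_v_of_mem_TT ht c
        rw [← hk]
        calc k * t * k⁻¹ * (k * C.v c * k⁻¹) = k * (t * C.v c) * k⁻¹ := by group
          _ = _ := by rw [h6]; group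
      have h6 : k * t * k⁻¹ * C.z 1 = C.z 1 * (k * t * k⁻¹) := by
        have h7 := hkz 1
        have h8 : k⁻¹ * C.z 1 = C.z 1 * k⁻¹ := by
          calc k⁻¹ * C.z 1 = k⁻¹ * (C.z 1 * k) * k⁻¹ := by group
            _ = _ := by rw [← h7]; group
        calc k * t * k⁻¹ * C.z 1 = k * t * (k⁻¹ * C.z 1) := by group
          _ = k * (t * C.z 1) * k⁻¹ := by rw [h8]; group
          _ = (k * C.z 1) * t * k⁻¹ := by rw [ht.1]; group
          _ = _ := by rw [h7]; group
      obtain ⟨b2, a2, e2, h9⟩ := eq_of_comm (C := C) hd one_ne_zero h5 h6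
      rw [h9]; exact mem_TT_of
    constructor
    · exact key g1 b b' hb hb' h2 h3 t
    · intro ht
      have h5 := key g1⁻¹ b' b hb' hb (by rw [← h2]; group) (fun e => by
        have h7 := h3 e
        calc g1⁻¹ * C.z e = g1⁻¹ * (C.z e * g1) * g1⁻¹ := by group
          _ = _ := by rw [← h7]; group) _ ht
      have h6 : g1⁻¹ * (g1 * t * g1⁻¹) * g1⁻¹⁻¹ = t := by group
      rwa [h6] at h5
  have h5 : g = q * (q⁻¹ * g) := by group
  rw [h5]
  exact mul_mem hq h4

end Cfsg.Agent.RuB.QSyl
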